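import Mathlib
import Cfsg.Agent.H386.Factor
import Cfsg.Agent.TwoFusion.TransferIndex
import Cfsg.Agent.Classification.TransferSign
import Cfsg.Agent.Lib.Cores
import Cfsg.Agent.H799.SymSyl
import Cfsg.Agent.H403.CompFactor
import Cfsg.Agent.Mrg.Omega.ML.InOf
import Cfsg.Agent.SignalizersComponents.Components
import Cfsg.Prelude.Def_KGroupFacts
import Cfsg.Agent.H313.Red
import Cfsg.Agent.S1322
import Cfsg.Agent.S0205
import Cfsg.Agent.FixBN.BCoreFree
import Cfsg.Agent.Cit.Comp
import Cfsg.Agent.OddTab.Base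
import Cfsg.Agent.CTwoTab.Good
import Cfsg.Agent.GH.TOne.TwoCfg_m3
import Cfsg.Agent.StdAlt.Six.AutLemmas
import Cfsg.Agent.H306.Kon.Alt
import Cfsg.Agent.H244.Kondo.Lift
import Cfsg.Agent.H565.RankTwo
import Cfsg.Agent.S1741
import Cfsg.Agent.H341.ThreeList_m3
import Cfsg.Agent.H816.TwoOrd
import Cfsg.Agent.H73.One_m3
import Cfsg.Agent.Schreier.Basic
import Cfsg.Agent.H315.OrderCube
import Cfsg.Agent.H284.AltComp
import Cfsg.Agent.S1323
import Cfsg.Agent.FastGrp
import Cfsg.Agent.Prune
set_option linter.all false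

section
prune_inst 0x7fbcfefbaff82ddeffff7e7ffefddffdf9f87fffefdff9cbffecfbff0fdf4b06ebe5fb870fe810fd0ef6e29610f87b53f97ee67feb6bdc7ffffd5ff45ffbff9fadefbd0d51d6b83e0f7c6ffffbf17f8e7f3fffffffffffffffffffffffffffbeffffffffffff

-- part: H313/AltC
section
set_option linter.all false
open scoped Cfsg.Agent.FastGrp

/-!
# Centralizers of involutions in alternating groups: elements (helper313)

`s` is a permutation with `s * s = 1`.
* `tr s x = (x, s x)`, `bs s x y = (x y)(s x, s y)`, `CC s` : the even permutations commuting with `s`;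
* `key` : a subgroup `N` of `CC s` normalized by `CC s`, trivial on the fixed points of `s`, containing an
  element different from `1` and `s`, contains some product `tr x * tr y` of two different pairs;
* `spread` : and then all of them; `base_mem` : and all even elements of the base group.
-/

set_option autoImplicit false
set_option linter.unusedSectionVars false

namespace Cfsg.Agent.H313.Alt

open Equiv Equiv.Perm

variable {Ω : Type*} [DecidableEq Ω] {s : Perm Ω}

/-- the transposition of a pair -/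
def tr (s : Perm Ω) (x : Ω) : Perm Ω := swap x (s x)

/-- the exchange of two pairs -/
def bs (s : Perm Ω) (x y : Ω) : Perm Ω := swap x y * swap (s x) (s y)

theorem ss (hs : s * s = 1) (x : Ω) : s (s x) = x := by
  have := congrArg (fun p : Perm Ω => p x) hs
  simpa using this

theorem app_comm {c : Perm Ω} (hc : c * s = s * c) (x : Ω) : c (s x) = s (c x) := by
  have := congrArg (fun p : Perm Ω => p x) hc
  simpa using this

theorem comm_of_app {c : Perm Ω} (h : ∀ x, c (s x) = s (c x)) : c * s = s * c := by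
  ext x
  simpa using h x

theorem comm_mul {c d : Perm Ω} (hc : c * s = s * c) (hd : d * s = s * d) : c * d * s = s * (c * d) := by
  rw [mul_assoc, hd, ← mul_assoc, hc, mul_assoc]

theorem tr_s (hs : s * s = 1) (x : Ω) : tr s (s x) = tr s x := by
  rw [tr, ss hs, swap_comm, tr]

theorem conj_tr {c : Perm Ω} (hc : c * s = s * c) (x : Ω) : c * tr s x * c⁻¹ = tr s (c x) := by
  rw [tr, tr, ← app_comm hc, swap_apply_apply]

theorem conj_bs {c : Perm Ω} (hc : c * s = s * c) (x y : Ω) : c * bs s x y * c⁻¹ = bs s (c x) (c y) := by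
  have h1 := swap_apply_apply c x y
  have h2 := swap_apply_apply c (s x) (s y)
  rw [bs, bs, ← app_comm hc, ← app_comm hc, h1, h2]
  group

theorem tr_comm (hs : s * s = 1) (x : Ω) : tr s x * s = s * tr s x := by
  have h1 := conj_tr (s := s) (c := s) rfl x
  rw [tr_s hs, mul_inv_eq_iff_eq_mul] at h1
  exact h1.symm

theorem tr_tr (x : Ω) : tr s x * tr s x = 1 := swap_mul_self _ _

theorem tr_inv (x : Ω) : (tr s x)⁻¹ = tr s x := swap_inv _ _

theorem tr_left (x : Ω) : tr s x x = s x := swap_apply_left _ _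

theorem tr_right (x : Ω) : tr s x (s x) = x := swap_apply_right _ _

theorem tr_of_ne {x y : Ω} (h1 : y ≠ x) (h2 : y ≠ s x) : tr s x y = y := swap_apply_of_ne_of_ne h1 h2

theorem swap_swap_comm {a b c d : Ω} (h1 : c ≠ a) (h2 : c ≠ b) (h3 : d ≠ a) (h4 : d ≠ b) :
    swap a b * swap c d = swap c d * swap a b := by
  have h := swap_apply_apply (swap a b) c d
  rw [swap_apply_of_ne_of_ne h1 h2, swap_apply_of_ne_of_ne h3 h4, eq_mul_inv_iff_mul_eq] at h
  exact h.symm

theorem sw_comm {f g : Ω} (hf : s f = f) (hg : s g = g) : swap f g * s = s * swap f g := by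
  have h := swap_apply_apply s f g
  rw [hf, hg, eq_mul_inv_iff_mul_eq] at h
  exact h

/-- two points of different pairs -/
structure Dis (s : Perm Ω) (x y : Ω) : Prop where
  x1 : s x ≠ x
  y1 : s y ≠ y
  ne : x ≠ y
  ns : x ≠ s y

theorem Dis.ns' (hs : s * s = 1) {x y : Ω} (h : Dis s x y) : s x ≠ y := fun e => h.ns (by rw [← e, ss hs])

theorem Dis.ss (hs : s * s = 1) {x y : Ω} (h : Dis s x y) : s x ≠ s y := fun e => h.ne (s.injective e)

theorem Dis.symm (hs : s * s = 1) {x y : Ω} (h : Dis s x y) : Dis s y x :=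
  ⟨h.y1, h.x1, h.ne.symm, fun e => h.ns' hs e.symm⟩

theorem bs_comm (hs : s * s = 1) {x y : Ω} (h : Dis s x y) : bs s x y * s = s * bs s x y := by
  have h1 := conj_bs (s := s) (c := s) rfl x y
  have h2 : bs s (s x) (s y) = bs s x y := by
    rw [bs, Alt.ss hs, Alt.ss hs, bs]
    exact swap_swap_comm h.x1.symm h.ns (h.ns' hs).symm h.y1.symm
  rw [h2, mul_inv_eq_iff_eq_mul] at h1
  exact h1.symm

theorem bs_left (hs : s * s = 1) {x y : Ω} (h : Dis s x y) : bs s x y x = y := by
  rw [bs, Perm.mul_apply, swap_apply_of_ne_of_ne h.x1.symm h.ns, swap_apply_left]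

theorem bs_right (hs : s * s = 1) {x y : Ω} (h : Dis s x y) : bs s x y y = x := by
  rw [bs, Perm.mul_apply, swap_apply_of_ne_of_ne (h.ns' hs).symm h.y1.symm, swap_apply_right]

theorem bs_of_ne {x y w : Ω} (h1 : w ≠ x) (h2 : w ≠ y) (h3 : w ≠ s x) (h4 : w ≠ s y) : bs s x y w = w := by
  rw [bs, Perm.mul_apply, swap_apply_of_ne_of_ne h3 h4, swap_apply_of_ne_of_ne h1 h2]

theorem bs_bs (hs : s * s = 1) {x y : Ω} (h : Dis s x y) : bs s x y * bs s x y = 1 := by
  have h1 : bs s x y = swap (s x) (s y) * swap x y := by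
    rw [bs]; exact swap_swap_comm (h.x1) (h.ns' hs) (h.ns).symm h.y1
  nth_rewrite 2 [h1]
  rw [bs, mul_assoc, ← mul_assoc (swap (s x) (s y)), swap_mul_self, one_mul, swap_mul_self]

variable [Fintype Ω]

/-- even permutations commuting with `s` -/
def CC (s : Perm Ω) : Subgroup (Perm Ω) := Subgroup.centralizer ({s} : Set (Perm Ω)) ⊓ alternatingGroup Ω

theorem mem_CC {c : Perm Ω} : c ∈ CC s ↔ c * s = s * c ∧ sign c = 1 := by
  rw [CC, Subgroup.mem_inf, Subgroup.mem_centralizer_singleton_iff, mem_alternatingGroup]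

theorem sign_tr {x : Ω} (h : s x ≠ x) : sign (tr s x) = -1 := sign_swap h.symm

theorem sign_bs {x y : Ω} (h : x ≠ y) : sign (bs s x y) = 1 := by
  rw [bs, Perm.sign_mul, sign_swap h, sign_swap (fun e => h (s.injective e))]
  rfl

theorem bs_mem (hs : s * s = 1) {x y : Ω} (h : Dis s x y) : bs s x y ∈ CC s := mem_CC.2 ⟨bs_comm hs h, sign_bs h.ne⟩

theorem trtr_mem (hs : s * s = 1) {x y : Ω} (hx : s x ≠ x) (hy : s y ≠ y) : tr s x * tr s y ∈ CC s := by
  refine mem_CC.2 ⟨comm_mul (tr_comm hs x) (tr_comm hs y), ?_⟩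
  rw [Perm.sign_mul, sign_tr hx, sign_tr hy]; rfl

theorem trsw_mem (hs : s * s = 1) {x f g : Ω} (hx : s x ≠ x) (hf : s f = f) (hg : s g = g) (hfg : f ≠ g) :
    tr s x * swap f g ∈ CC s := by
  refine mem_CC.2 ⟨comm_mul (tr_comm hs x) (sw_comm hf hg), ?_⟩
  rw [Perm.sign_mul, sign_tr hx, sign_swap hfg]; rfl

section key

variable {N : Subgroup (Perm Ω)}

/-- **The key lemma.** -/
theorem key (hs : s * s = 1) (hN : ∀ c ∈ CC s, ∀ n ∈ N, c * n * c⁻¹ ∈ N) (hNC : ∀ n ∈ N, n * s = s * n)
    (hfix : ∀ n ∈ N, ∀ x, s x = x → n x = x) {f g : Ω} (hf : s f = f) (hg : s g = g) (hfg : f ≠ g)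
    {y : Perm Ω} (hy : y ∈ N) (h1 : y ≠ 1) (h2 : y ≠ s) : ∃ a b, Dis s a b ∧ tr s a * tr s b ∈ N := by
  by_cases hbase : ∀ x, y x = x ∨ y x = s x
  · obtain ⟨x, hx⟩ : ∃ x, y x ≠ x := by
      by_contra hc
      push Not at hc
      exact h1 (Equiv.ext hc)
    have hx' : y x = s x := (hbase x).resolve_left hx
    obtain ⟨w, hw⟩ : ∃ w, y w ≠ s w := by
      by_contra hc
      push Not at hc
      exact h2 (Equiv.ext hc)
    have hw' : y w = w := (hbase w).resolve_right hw
    have hd : Dis s x w := by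
      refine ⟨fun e => hx (hx'.trans e), fun e => hw (hw'.trans e.symm), fun e => hx (by rw [e, hw']), fun e => ?_⟩
      apply hx
      rw [e, app_comm (hNC y hy), hw']
    refine ⟨x, w, hd, ?_⟩
    have hb := bs_mem hs hd
    have e1 : y * bs s x w * y⁻¹ = tr s x * bs s x w * (tr s x)⁻¹ := by
      rw [conj_bs (hNC y hy), conj_bs (tr_comm hs x), hx', hw', tr_left, tr_of_ne hd.ne.symm (hd.ns' hs).symm]
    have e2 := conj_tr (bs_comm hs hd) x
    rw [bs_left hs hd] at e2
    have e3 : tr s x * tr s w = y * (bs s x w * y⁻¹ * (bs s x w)⁻¹) := by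
      rw [← e2]
      have : y * (bs s x w * y⁻¹ * (bs s x w)⁻¹) = (y * bs s x w * y⁻¹) * (bs s x w)⁻¹ := by group
      rw [this, e1, tr_inv]
      group
    rw [e3]
    exact N.mul_mem hy (hN _ hb _ (N.inv_mem hy))
  · push Not at hbase
    obtain ⟨x, hx, hx'⟩ := hbase
    have hsx : s x ≠ x := fun e => hx (hfix y hy x e)
    have hd : Dis s (y x) x := by
      refine ⟨fun e => ?_, hsx, hx, hx'⟩
      rw [← app_comm (hNC y hy)] at e
      exact hsx (y.injective e)
    refine ⟨y x, x, hd, ?_⟩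
    have hb := trsw_mem hs hsx hf hg hfg
    have e1 := conj_tr (hNC y hy) x
    have e2 := swap_apply_apply y f g
    rw [hfix y hy f hf, hfix y hy g hg] at e2
    have e3 : tr s (y x) * tr s x = y * ((tr s x * swap f g) * y⁻¹ * (tr s x * swap f g)⁻¹) := by
      have : y * ((tr s x * swap f g) * y⁻¹ * (tr s x * swap f g)⁻¹) =
        (y * tr s x * y⁻¹) * (y * swap f g * y⁻¹) * (swap f g)⁻¹ * (tr s x)⁻¹ := by group
      rw [this, e1, ← e2, tr_inv]
      group
    rw [e3]
    exact N.mul_mem hy (hN _ hb _ (N.inv_mem hy))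

/-- All the products of two pairs. -/
theorem spread (hs : s * s = 1) (hN : ∀ c ∈ CC s, ∀ n ∈ N, c * n * c⁻¹ ∈ N) {a b : Ω} (hab : Dis s a b)
    (h : tr s a * tr s b ∈ N) : ∀ x y, s x ≠ x → s y ≠ y → tr s x * tr s y ∈ N := by
  have step : ∀ y, s y ≠ y → tr s y * tr s b ∈ N := by
    intro y hy
    by_cases h1 : y = b
    · rw [h1, tr_tr]; exact N.one_mem
    by_cases h2 : y = s b
    · rw [h2, tr_s hs, tr_tr]; exact N.one_mem
    by_cases h3 : y = a
    · rw [h3]; exact h
    by_cases h4 : y = s a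
    · rw [h4, tr_s hs]; exact h
    have hd : Dis s a y := ⟨hab.x1, hy, fun e => h3 e.symm, fun e => h4 (by rw [e, ss hs])⟩
    have h5 := hN _ (bs_mem hs hd) _ h
    have e1 := conj_tr (bs_comm hs hd) a
    have e2 := conj_tr (bs_comm hs hd) b
    rw [bs_left hs hd] at e1
    rw [bs_of_ne hab.ne.symm (fun e => h1 e.symm) (hab.ns' hs).symm (fun e => h2 (by rw [e, ss hs]))] at e2
    have e3 : tr s y * tr s b = bs s a y * (tr s a * tr s b) * (bs s a y)⁻¹ := by
      have : bs s a y * (tr s a * tr s b) * (bs s a y)⁻¹ =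
        (bs s a y * tr s a * (bs s a y)⁻¹) * (bs s a y * tr s b * (bs s a y)⁻¹) := by group
      rw [this, e1, e2]
    rw [e3]; exact h5
  intro x y hx hy
  have h1 := step x hx
  have h2 := N.inv_mem (step y hy)
  have h3 := N.mul_mem h1 h2
  rw [mul_inv_rev, tr_inv, tr_inv] at h3
  have e : tr s x * tr s b * (tr s b * tr s y) = tr s x * tr s y := by
    rw [mul_assoc, ← mul_assoc (tr s b), tr_tr, one_mul]
  rwa [e] at h3

/-- The even elements of the base group. -/
theorem base_mem (hs : s * s = 1) (h : ∀ x y, s x ≠ x → s y ≠ y → tr s x * tr s y ∈ N) (n : ℕ) :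
    ∀ c : Perm Ω, c.support.card = n → c * s = s * c → (∀ x, c x = x ∨ c x = s x) → sign c = 1 → c ∈ N := by
  induction n using Nat.strong_induction_on with
  | _ n ih =>
    intro c hn hc hb hsg
    by_cases h1 : c = 1
    · rw [h1]; exact N.one_mem
    obtain ⟨x, hx⟩ : ∃ x, c x ≠ x := by
      by_contra hcc
      push Not at hcc
      exact h1 (Equiv.ext hcc)
    have hx' : c x = s x := (hb x).resolve_left hx
    have hsx : s x ≠ x := fun e => hx (hx'.trans e)
    have hcsx : c (s x) = x := by rw [app_comm hc, hx', ss hs]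
    have h2 : ∃ y, y ≠ x ∧ y ≠ s x ∧ c y ≠ y := by
      by_contra hcc
      push Not at hcc
      have : c = tr s x := by
        ext w
        by_cases e1 : w = x
        · rw [e1, hx', tr_left]
        by_cases e2 : w = s x
        · rw [e2, hcsx, tr_right]
        rw [hcc w e1 e2, tr_of_ne e1 e2]
      rw [this, sign_tr hsx] at hsg
      exact absurd hsg (by decide)
    obtain ⟨y, hyx, hysx, hy⟩ := h2
    have hy' : c y = s y := (hb y).resolve_left hy
    have hsy : s y ≠ y := fun e => hy (hy'.trans e)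
    have hcsy : c (s y) = y := by rw [app_comm hc, hy', ss hs]
    have hd : Dis s x y := ⟨hsx, hsy, hyx.symm, fun e => hysx (by rw [e, ss hs])⟩
    set d := c * (tr s x * tr s y) with hd'
    have hdv : ∀ w, w ≠ x → w ≠ s x → w ≠ y → w ≠ s y → d w = c w := by
      intro w a1 a2 a3 a4
      rw [hd', Perm.mul_apply, Perm.mul_apply, tr_of_ne a3 a4, tr_of_ne a1 a2]
    have d1 : d x = x := by
      rw [hd', Perm.mul_apply, Perm.mul_apply, tr_of_ne hd.ne hd.ns, tr_left, hcsx]
    have d2 : d (s x) = s x := by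
      rw [hd', Perm.mul_apply, Perm.mul_apply, tr_of_ne (hd.ns' hs) (hd.ss hs), tr_right, hx']
    have d3 : d y = y := by
      rw [hd', Perm.mul_apply, Perm.mul_apply, tr_left, tr_of_ne (hd.ns).symm (hd.ss hs).symm, hcsy]
    have d4 : d (s y) = s y := by
      rw [hd', Perm.mul_apply, Perm.mul_apply, tr_right, tr_of_ne hyx hysx, hy']
    have hall : ∀ w, d w = w ∨ (d w = c w ∧ w ≠ x) := by
      intro w
      by_cases a1 : w = x
      · left; rw [a1, d1]
      by_cases a2 : w = s x
      · left; rw [a2, d2]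
      by_cases a3 : w = y
      · left; rw [a3, d3]
      by_cases a4 : w = s y
      · left; rw [a4, d4]
      exact Or.inr ⟨hdv w a1 a2 a3 a4, a1⟩
    have hlt : d.support.card < c.support.card := by
      apply Finset.card_lt_card
      rw [Finset.ssubset_iff_of_subset]
      · exact ⟨x, mem_support.2 hx, fun e => (mem_support.1 e) d1⟩
      · intro w hw
        rw [mem_support] at hw ⊢
        rcases hall w with e | ⟨e, -⟩
        · exact absurd e hw
        · rwa [e] at hw
    have hdN := ih d.support.card (hn ▸ hlt) d rfl (comm_mul hc (comm_mul (tr_comm hs x) (tr_comm hs y)))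
      (fun w => by
        rcases hall w with e | ⟨e, -⟩
        · exact Or.inl e
        · rw [e]; exact hb w)
      (by rw [hd', Perm.sign_mul, Perm.sign_mul, sign_tr hsx, sign_tr hsy, hsg]; rfl)
    have h3 := N.mul_mem hdN (N.inv_mem (h x y hsx hsy))
    rwa [hd', mul_inv_cancel_right] at h3

end key

end Cfsg.Agent.H313.Alt

private theorem dce_bf3926bd45be : _root_.True := by
  try have : _root_.True := by simp only [_root_.Cfsg.Agent.H313.Alt.bs.eq_1]
  try have : _root_.True := by simp only [_root_.Cfsg.Agent.H313.Alt.CC.eq_1]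
  try have : _root_.True := by simp only [_root_.Cfsg.Agent.H313.Alt.tr.eq_1]
  exact _root_.True.intro
end

-- part: H217/Prof
section
prune_inst 0x480010000000001020000040000000020043000010000400000e100000000e00402029000000000000000068108800000000000000000000000000000000000000000108200000000002000000000000000000000000000000041000000000000
set_option linter.all false
open scoped Cfsg.Agent.FastGrp

-- part: H217/SP
section
/-!
# Signed permutations (helper217, S3191)

`W ι` : pairs `(v, s)`, `v : ι → ZMod 2`, `s` a permutation of `ι`: the wreath product `2 wr Sym(ι)`.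

* `cases` : a subgroup normalised by `Winf` (even weight, even permutation) consists of elements with trivial
  permutation or contains `Winf`;
* `cent_even`, `cent_inf` : centralizers;
* `two_comm` : two different commutators with an even permutation.
-/

set_option autoImplicit false

namespace Cfsg.Agent.H217.SP

open Equiv

/-- signed permutations -/
@[ext] structure W (ι : Type*) where
  /-- the signs -/
  v : ι → ZMod 2
  /-- the permutation -/
  s : Perm ι

section basic
variable {ι : Type*}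

theorem add_self' (v : ι → ZMod 2) : v + v = 0 := by
  ext1 i
  exact CharTwo.add_self_eq_zero (v i)

instance instMulW : Mul (W ι) := ⟨fun a b => ⟨a.v + b.v ∘ ⇑a.s.symm, a.s * b.s⟩⟩
instance instOneW : One (W ι) := ⟨⟨0, 1⟩⟩
instance instInvW : Inv (W ι) := ⟨fun a => ⟨a.v ∘ ⇑a.s, a.s⁻¹⟩⟩

theorem mul_v (a b : W ι) : (a * b).v = a.v + b.v ∘ ⇑a.s.symm := rfl
theorem mul_s (a b : W ι) : (a * b).s = a.s * b.s := rfl
theorem one_v : (1 : W ι).v = 0 := rfl
theorem inv_s (a : W ι) : (a⁻¹).s = a.s⁻¹ := rfl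

instance instGroupW : Group (W ι) :=
  Group.ofLeftAxioms
    (by
      intro a b c
      ext i
      · show a.v i + b.v (a.s.symm i) + c.v ((a.s * b.s).symm i) = a.v i + (b.v (a.s.symm i) + c.v (b.s.symm (a.s.symm i)))
        rw [add_assoc]
        rfl
      · rfl)
    (by
      intro a
      ext i
      · show 0 + a.v i = a.v i
        rw [zero_add]
      · rfl)
    (by
      intro a
      ext i
      · show a.v (a.s i) + a.v ((a.s⁻¹).symm i) = 0
        exact CharTwo.add_self_eq_zero _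
      · show (a.s⁻¹ * a.s) i = i
        rw [inv_mul_cancel]; rfl)

/-- the projection on the permutations -/
def prS (ι : Type*) : W ι →* Perm ι where
  toFun a := a.s
  map_one' := rfl
  map_mul' _ _ := rfl

/-- vectors -/
def E (w : ι → ZMod 2) : W ι := ⟨w, 1⟩

/-- permutations -/
def P (σ : Perm ι) : W ι := ⟨0, σ⟩

theorem E_v (w : ι → ZMod 2) : (E w).v = w := rfl
theorem P_v (σ : Perm ι) : (P σ).v = 0 := rfl
theorem P_s (σ : Perm ι) : (P σ).s = σ := rfl

theorem E_zero : E (0 : ι → ZMod 2) = 1 := rfl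

theorem E_mul (v w : ι → ZMod 2) : E v * E w = E (v + w) := by
  ext i
  · rfl
  · rfl

theorem E_inj {v w : ι → ZMod 2} (h : E v = E w) : v = w := congrArg W.v h

theorem P_mul (σ τ : Perm ι) : P σ * P τ = P (σ * τ) := by
  ext i
  · show (0 : ZMod 2) + 0 = 0
    rw [add_zero]
  · rfl

theorem P_one : P (1 : Perm ι) = 1 := rfl

theorem P_inv (σ : Perm ι) : (P σ)⁻¹ = P σ⁻¹ := by
  rw [inv_eq_iff_mul_eq_one, P_mul, mul_inv_cancel, P_one]

theorem E_inv (w : ι → ZMod 2) : (E w)⁻¹ = E w := by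
  rw [inv_eq_iff_mul_eq_one, E_mul, add_self', E_zero]

theorem E_sq (w : ι → ZMod 2) : E w * E w = 1 := by
  rw [E_mul, add_self', E_zero]

theorem eq_E_mul_P (a : W ι) : a = E a.v * P a.s := by
  ext i
  · show a.v i = a.v i + 0
    rw [add_zero]
  · rfl

theorem eq_E_of_s {a : W ι} (h : a.s = 1) : a = E a.v := by
  ext i
  · rfl
  · rw [h]; rfl

/-- conjugation of vectors -/
theorem conj_E (g : W ι) (w : ι → ZMod 2) : g * E w * g⁻¹ = E (w ∘ ⇑g.s.symm) := by
  rw [mul_inv_eq_iff_eq_mul]
  ext i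
  · show g.v i + w (g.s.symm i) = w (g.s.symm i) + g.v i
    rw [add_comm]
  · rfl

/-- commutators with vectors -/
theorem comm_E (g : W ι) (w : ι → ZMod 2) : E w * g * (E w)⁻¹ * g⁻¹ = E (w + w ∘ ⇑g.s.symm) := by
  have h1 : g * E w * g⁻¹ = E (w ∘ ⇑g.s.symm) := conj_E g w
  rw [E_inv, ← E_mul, ← h1]
  group

theorem comp_mul (w : ι → ZMod 2) (σ τ : Perm ι) : (w ∘ ⇑τ.symm) ∘ ⇑σ.symm = w ∘ ⇑(σ * τ).symm := rfl

end basic

section unit
variable {ι : Type*} [DecidableEq ι]

/-- unit vectors -/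
def e (i : ι) : ι → ZMod 2 := Pi.single i 1

theorem e_self (i : ι) : e i i = 1 := Pi.single_eq_same i 1

theorem e_ne {i j : ι} (h : j ≠ i) : e i j = 0 := Pi.single_eq_of_ne h 1

theorem e_comp (i : ι) (σ : Perm ι) : e i ∘ ⇑σ.symm = e (σ i) := by
  ext1 j
  show e i (σ.symm j) = e (σ i) j
  by_cases h : j = σ i
  · rw [h, symm_apply_apply, e_self, e_self]
  · rw [e_ne h, e_ne]
    intro h2
    exact h (by rw [← h2, apply_symm_apply])

theorem add_comp (v w : ι → ZMod 2) (σ : Perm ι) : (v + w) ∘ ⇑σ.symm = v ∘ ⇑σ.symm + w ∘ ⇑σ.symm := rfl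

theorem zmod2 (x : ZMod 2) : x = 0 ∨ x = 1 := by revert x; decide

theorem zmod2_ne {x y : ZMod 2} (h : x ≠ y) : y = x + 1 := by revert x y; decide

variable [Fintype ι]

theorem sum_e (i : ι) : ∑ j, e i j = 1 := by
  unfold e
  rw [Finset.sum_pi_single']
  simp

theorem sum_add (v w : ι → ZMod 2) : ∑ i, (v + w) i = ∑ i, v i + ∑ i, w i := Finset.sum_add_distrib

theorem sum_ee (i j : ι) : ∑ k, (e i + e j) k = 0 := by
  rw [sum_add, sum_e, sum_e]; decide

theorem sum_comp (w : ι → ZMod 2) (σ : Perm ι) : ∑ i, (w ∘ ⇑σ) i = ∑ i, w i := Equiv.sum_comp σ w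

/-- expansion in unit vectors -/
theorem eq_sum_e (w : ι → ZMod 2) : w = ∑ i, w i • e i := by
  ext1 j
  rw [Finset.sum_apply]
  simp only [Pi.smul_apply, smul_eq_mul]
  rw [Finset.sum_eq_single j]
  · rw [e_self, mul_one]
  · intro i _ h
    rw [e_ne h.symm, mul_zero]
  · intro h; exact absurd (Finset.mem_univ j) h

/-- even weight and even permutation -/
def Winf (ι : Type*) [Fintype ι] [DecidableEq ι] : Subgroup (W ι) where
  carrier := {g | ∑ i, g.v i = 0 ∧ Perm.sign g.s = 1}
  mul_mem' := by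
    rintro g h ⟨hg1, hg2⟩ ⟨hh1, hh2⟩
    refine ⟨?_, by rw [mul_s, Perm.sign_mul, hg2, hh2, one_mul]⟩
    rw [mul_v, sum_add, hg1, zero_add]
    exact (sum_comp h.v g.s.symm).trans hh1
  one_mem' := ⟨by simp [one_v], Perm.sign_one⟩
  inv_mem' := by
    rintro g ⟨hg1, hg2⟩
    exact ⟨(sum_comp g.v g.s).trans hg1, by rw [inv_s, Perm.sign_inv, hg2]⟩

theorem mem_Winf {g : W ι} : g ∈ Winf ι ↔ ∑ i, g.v i = 0 ∧ Perm.sign g.s = 1 := Iff.rfl

theorem E_mem_Winf {w : ι → ZMod 2} (h : ∑ i, w i = 0) : E w ∈ Winf ι := ⟨h, Perm.sign_one⟩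

theorem P_mem_Winf {σ : Perm ι} (h : Perm.sign σ = 1) : P σ ∈ Winf ι := ⟨by simp [P_v], h⟩

/-- a subgroup `≠ 1` of the symmetric group normalised by the alternating group contains it -/
theorem alt_le (h5 : 5 ≤ Fintype.card ι) {L : Subgroup (Perm ι)} {τ : Perm ι} (hτ : τ ∈ L) (hτ1 : τ ≠ 1)
    (hL : ∀ ρ : Perm ι, Perm.sign ρ = 1 → ∀ x ∈ L, ρ * x * ρ⁻¹ ∈ L) : alternatingGroup ι ≤ L := by
  -- a commutator in the alternating group
  have hn : Nontrivial ι := Fintype.one_lt_card_iff_nontrivial.1 (by omega)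
  obtain ⟨i, hi⟩ : ∃ i, τ i ≠ i := by
    by_contra hcon
    push Not at hcon
    exact hτ1 (Perm.ext hcon)
  obtain ⟨k, hk1, hk2, hk3⟩ : ∃ k, k ≠ i ∧ k ≠ τ i ∧ k ≠ τ (τ i) := by
    by_contra hcon
    push Not at hcon
    have h1 : (Finset.univ : Finset ι) ⊆ {i, τ i, τ (τ i)} := by
      intro k _
      by_cases h1 : k = i
      · simp [h1]
      by_cases h2 : k = τ i
      · simp [h2]
      · simp [hcon k h1 h2]
    have h2 := Finset.card_le_card h1
    have h3 : ({i, τ i, τ (τ i)} : Finset ι).card ≤ 3 := Finset.card_le_three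
    rw [Finset.card_univ] at h2
    omega
  -- the three-cycle `i → τ i → k`, it does not commute with `τ`
  set ρ : Perm ι := swap i (τ i) * swap (τ i) k with hρ
  have hρs : Perm.sign ρ = 1 := by
    rw [hρ, Perm.sign_mul, Perm.sign_swap hi.symm, Perm.sign_swap hk2.symm]; rfl
  have hρk : ρ k = i := by
    rw [hρ, Perm.mul_apply, swap_apply_right, swap_apply_right]
  have hρi : ρ i = τ i := by
    rw [hρ, Perm.mul_apply, swap_apply_of_ne_of_ne hi.symm hk1.symm, swap_apply_left]
  have hρt : ρ (τ i) = k := by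
    rw [hρ, Perm.mul_apply, swap_apply_left, swap_apply_of_ne_of_ne hk1 hk2]
  have hne : ρ * τ ≠ τ * ρ := by
    intro h
    have h1 := congrArg (fun g : Perm ι => g i) h
    have h2 : ρ (τ i) = τ (ρ i) := h1
    rw [hρt, hρi] at h2
    exact hk3 h2
  have hcL : ρ * τ * ρ⁻¹ * τ⁻¹ ∈ L := L.mul_mem (hL ρ hρs τ hτ) (L.inv_mem hτ)
  have hcA : Perm.sign (ρ * τ * ρ⁻¹ * τ⁻¹) = 1 := by
    rw [Perm.sign_mul, Perm.sign_mul, Perm.sign_mul, Perm.sign_inv, Perm.sign_inv, hρs, one_mul, mul_one,
      Int.units_mul_self]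
  have hc1 : ρ * τ * ρ⁻¹ * τ⁻¹ ≠ 1 := by
    intro h
    rw [mul_inv_eq_one, mul_inv_eq_iff_eq_mul] at h
    exact hne h
  have hsimp : IsSimpleGroup (alternatingGroup ι) :=
    alternatingGroup.isSimpleGroup (by rw [Nat.card_eq_fintype_card]; exact h5)
  have hN : (L.subgroupOf (alternatingGroup ι)).Normal := by
    refine ⟨fun x hx g => ?_⟩
    rw [Subgroup.mem_subgroupOf] at hx ⊢
    exact hL g (Perm.mem_alternatingGroup.1 g.2) _ hx
  rcases hsimp.eq_bot_or_eq_top_of_normal _ hN with h | h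
  · exfalso
    rw [Subgroup.subgroupOf_eq_bot, disjoint_iff] at h
    have h1 : ρ * τ * ρ⁻¹ * τ⁻¹ ∈ L ⊓ alternatingGroup ι := ⟨hcL, Perm.mem_alternatingGroup.2 hcA⟩
    rw [h] at h1
    exact hc1 (Subgroup.mem_bot.1 h1)
  · rw [Subgroup.subgroupOf_eq_top] at h
    exact h

/-- an even permutation mapping two points to two others -/
theorem exists_even (h4 : 4 ≤ Fintype.card ι) {i j k l : ι} (hij : i ≠ j) (hkl : k ≠ l) :
    ∃ σ : Perm ι, Perm.sign σ = 1 ∧ σ i = k ∧ σ j = l := by
  have key : ∃ σ : Perm ι, σ i = k ∧ σ j = l := by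
    refine ⟨swap (swap i k j) l * swap i k, ?_, ?_⟩
    · rw [Perm.mul_apply, swap_apply_left, swap_apply_of_ne_of_ne _ hkl]
      intro h
      apply hij
      have := congrArg (swap i k) h
      rw [swap_apply_right, swap_apply_self] at this
      exact this
    · rw [Perm.mul_apply, swap_apply_left]
  obtain ⟨σ, h1, h2⟩ := key
  rcases Int.units_eq_one_or (Perm.sign σ) with h | h
  · exact ⟨σ, h, h1, h2⟩
  · -- two other points
    have h3 : 1 < ((Finset.univ : Finset ι) \ {i, j}).card := by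
      have h4 := Finset.le_card_sdiff ({i, j} : Finset ι) Finset.univ
      rw [Finset.card_univ] at h4
      have h5 : ({i, j} : Finset ι).card ≤ 2 := Finset.card_le_two
      omega
    obtain ⟨a, ha, b, hb, hab⟩ := Finset.one_lt_card.1 h3
    simp only [Finset.mem_sdiff, Finset.mem_univ, true_and, Finset.mem_insert, Finset.mem_singleton, not_or] at ha hb
    refine ⟨σ * swap a b, ?_, ?_, ?_⟩
    · rw [Perm.sign_mul, h, Perm.sign_swap hab]; rfl
    · rw [Perm.mul_apply, swap_apply_of_ne_of_ne (Ne.symm ha.1) (Ne.symm hb.1), h1]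
    · rw [Perm.mul_apply, swap_apply_of_ne_of_ne (Ne.symm ha.2) (Ne.symm hb.2), h2]

section normal
variable {K : Subgroup (W ι)} (hK : ∀ x ∈ Winf ι, ∀ k ∈ K, x * k * x⁻¹ ∈ K)
include hK

/-- all even vectors from one -/
theorem all_even (h4 : 4 ≤ Fintype.card ι) {u : ι → ZMod 2} (hu : E u ∈ K) {i j : ι} (hij : u i ≠ u j)
    (w : ι → ZMod 2) (hw : ∑ k, w k = 0) : E w ∈ K := by
  have hne : i ≠ j := fun h => hij (by rw [h])
  -- a third point
  obtain ⟨k, hki, hkj⟩ : ∃ k, k ≠ i ∧ k ≠ j := by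
    by_contra hcon
    push Not at hcon
    have h1 : (Finset.univ : Finset ι) ⊆ {i, j} := by
      intro k _
      by_cases h1 : k = i
      · simp [h1]
      · simp [hcon k h1]
    have h2 := Finset.card_le_card h1
    have h3 : ({i, j} : Finset ι).card ≤ 2 := Finset.card_le_two
    rw [Finset.card_univ] at h2
    omega
  -- the three-cycle
  have h1 : ∃ x y : ι, x ≠ y ∧ E (e x + e y) ∈ K := by
    set ρ : Perm ι := swap i j * swap j k with hρ
    have hρs : Perm.sign ρ = 1 := by
      rw [hρ, Perm.sign_mul, Perm.sign_swap hne, Perm.sign_swap hkj.symm]; rfl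
    have h2 := K.mul_mem hu (hK (P ρ) (P_mem_Winf hρs) _ hu)
    rw [conj_E, E_mul] at h2
    have hsy : (P ρ).s.symm = swap j k * swap i j := by
      show ρ⁻¹ = _
      rw [hρ, mul_inv_rev, swap_inv, swap_inv]
    rw [hsy] at h2
    have hi : (swap j k * swap i j : Perm ι) i = k := by
      rw [Perm.mul_apply, swap_apply_left, swap_apply_left]
    have hj : (swap j k * swap i j : Perm ι) j = i := by
      rw [Perm.mul_apply, swap_apply_right, swap_apply_of_ne_of_ne hne hki.symm]
    have hk : (swap j k * swap i j : Perm ι) k = j := by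
      rw [Perm.mul_apply, swap_apply_of_ne_of_ne hki hkj, swap_apply_right]
    have ho : ∀ l, l ≠ i → l ≠ j → l ≠ k → (swap j k * swap i j : Perm ι) l = l := by
      intro l h1 h2 h3
      rw [Perm.mul_apply, swap_apply_of_ne_of_ne h1 h2, swap_apply_of_ne_of_ne h2 h3]
    have hz := zmod2_ne hij
    by_cases hik : u k = u i
    · -- `u k = u i ≠ u j` : values at `i`: 0, at `j` : 1, at `k` : 1
      refine ⟨j, k, hkj.symm, ?_⟩
      have h3 : e j + e k = u + u ∘ ⇑(swap j k * swap i j : Perm ι) := by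
        ext1 l
        show e j l + e k l = u l + u ((swap j k * swap i j : Perm ι) l)
        by_cases l1 : l = i
        · rw [l1, hi, hik, e_ne hne, e_ne hki.symm, CharTwo.add_self_eq_zero, CharTwo.add_self_eq_zero]
        by_cases l2 : l = j
        · rw [l2, hj, e_self, e_ne hkj.symm, hz]
          have : ∀ x : ZMod 2, 1 + 0 = x + 1 + x := by decide
          exact this _
        by_cases l3 : l = k
        · rw [l3, hk, e_self, e_ne hkj, hik, hz]
          have : ∀ x : ZMod 2, 0 + 1 = x + (x + 1) := by decide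
          exact this _
        · rw [ho l l1 l2 l3, e_ne l2, e_ne l3, CharTwo.add_self_eq_zero, CharTwo.add_self_eq_zero]
      rw [h3]; exact h2
    · -- `u k = u j ≠ u i`
      have hjk : u k = u j := by
        have h4 := zmod2_ne (Ne.symm hik)
        rw [h4, hz]
      refine ⟨i, j, hne, ?_⟩
      have h3 : e i + e j = u + u ∘ ⇑(swap j k * swap i j : Perm ι) := by
        ext1 l
        show e i l + e j l = u l + u ((swap j k * swap i j : Perm ι) l)
        by_cases l1 : l = i
        · rw [l1, hi, hjk, e_self, e_ne hne, hz]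
          have : ∀ x : ZMod 2, 1 + 0 = x + (x + 1) := by decide
          exact this _
        by_cases l2 : l = j
        · rw [l2, hj, e_self, e_ne hne.symm, hz]
          have : ∀ x : ZMod 2, 0 + 1 = x + 1 + x := by decide
          exact this _
        by_cases l3 : l = k
        · rw [l3, hk, hjk, e_ne hki, e_ne hkj, CharTwo.add_self_eq_zero, CharTwo.add_self_eq_zero]
        · rw [ho l l1 l2 l3, e_ne l1, e_ne l2, CharTwo.add_self_eq_zero, CharTwo.add_self_eq_zero]
      rw [h3]; exact h2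
  obtain ⟨x, y, hxy, h2⟩ := h1
  have h3 : ∀ k l, k ≠ l → E (e k + e l) ∈ K := by
    intro k l hkl
    obtain ⟨σ, hσ, hσ1, hσ2⟩ := exists_even h4 hxy hkl
    have h5 := hK (P σ) (P_mem_Winf hσ) _ h2
    rw [conj_E, add_comp, P_s, e_comp, e_comp, hσ1, hσ2] at h5
    exact h5
  -- sums
  have h4' : ∀ s : Finset ι, E (∑ k ∈ s, w k • (e k + e i)) ∈ K := by
    intro s
    induction s using Finset.induction_on with
    | empty => rw [Finset.sum_empty, E_zero]; exact K.one_mem
    | insert k s hk ih =>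
      rw [Finset.sum_insert hk, ← E_mul]
      refine K.mul_mem ?_ ih
      rcases zmod2 (w k) with h | h
      · rw [h, zero_smul, E_zero]; exact K.one_mem
      · rw [h, one_smul]
        by_cases hk0 : k = i
        · rw [hk0, add_self', E_zero]; exact K.one_mem
        · exact h3 k i hk0
  have h5 : ∑ k, w k • (e k + e i) = w := by
    simp only [smul_add, Finset.sum_add_distrib, ← Finset.sum_smul, hw, zero_smul, add_zero]
    exact (eq_sum_e w).symm
  have h6 := h4' Finset.univ
  rwa [h5] at h6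

/-- **A subgroup normalised by `Winf` consists of vectors or contains `Winf`.** -/
theorem cases (h5 : 5 ≤ Fintype.card ι) : (∀ k ∈ K, k.s = 1) ∨ Winf ι ≤ K := by
  by_cases h : ∀ k ∈ K, k.s = 1
  · exact Or.inl h
  right
  push Not at h
  obtain ⟨g, hg, hg1⟩ := h
  obtain ⟨i, hi⟩ : ∃ i, g.s i ≠ i := by
    by_contra hcon
    push Not at hcon
    exact hg1 (Perm.ext hcon)
  -- a vector which is not constant
  have hvec : ∀ w, ∑ k, w k = 0 → E w ∈ K := by
    have h1 : ∀ k, E (e i + e k + (e (g.s i) + e (g.s k))) ∈ K := by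
      intro k
      have h2 := hK (E (e i + e k)) (E_mem_Winf (sum_ee i k)) _ hg
      have h3 := K.mul_mem h2 (K.inv_mem hg)
      rw [comm_E, add_comp, e_comp, e_comp] at h3
      exact h3
    -- `k` different from `i`, `σ i`, `σ⁻¹ i`: value 1 at `i`
    obtain ⟨k, hk1, hk2, hk3⟩ : ∃ k, k ≠ i ∧ k ≠ g.s i ∧ k ≠ g.s.symm i := by
      by_contra hcon
      push Not at hcon
      have h1 : (Finset.univ : Finset ι) ⊆ {i, g.s i, g.s.symm i} := by
        intro k _
        by_cases h1 : k = i
        · simp [h1]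
        by_cases h2 : k = g.s i
        · simp [h2]
        · simp [hcon k h1 h2]
      have h2 := Finset.card_le_card h1
      have h3 : ({i, g.s i, g.s.symm i} : Finset ι).card ≤ 3 := Finset.card_le_three
      rw [Finset.card_univ] at h2
      omega
    have hgk : g.s k ≠ i := fun h => hk3 (by rw [← h, symm_apply_apply])
    -- a point outside `{i, k, σ i, σ k}`
    obtain ⟨l, hl1, hl2, hl3, hl4⟩ : ∃ l, l ≠ i ∧ l ≠ k ∧ l ≠ g.s i ∧ l ≠ g.s k := by
      by_contra hcon
      push Not at hcon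
      have h1 : (Finset.univ : Finset ι) ⊆ {i, k, g.s i, g.s k} := by
        intro l _
        by_cases h1 : l = i
        · simp [h1]
        by_cases h2 : l = k
        · simp [h2]
        by_cases h3 : l = g.s i
        · simp [h3]
        · simp [hcon l h1 h2 h3]
      have h2 := Finset.card_le_card h1
      have h3 : ({i, k, g.s i, g.s k} : Finset ι).card ≤ 4 := Finset.card_le_four
      rw [Finset.card_univ] at h2
      omega
    intro w hw
    refine all_even hK (by omega) (h1 k) (i := i) (j := l) ?_ w hw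
    show e i i + e k i + (e (g.s i) i + e (g.s k) i) ≠ e i l + e k l + (e (g.s i) l + e (g.s k) l)
    rw [e_self, e_ne hk1.symm, e_ne hi.symm, e_ne hgk.symm, e_ne hl1, e_ne hl2, e_ne hl3, e_ne hl4]
    decide
  -- the permutations
  let L : Subgroup (Perm ι) :=
    { carrier := {τ | P τ ∈ K}
      mul_mem' := by
        intro τ ρ h1 h2
        show P (τ * ρ) ∈ K
        rw [← P_mul]
        exact K.mul_mem h1 h2
      one_mem' := by show P 1 ∈ K; rw [P_one]; exact K.one_mem
      inv_mem' := by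
        intro τ h1
        show P τ⁻¹ ∈ K
        rw [← P_inv]
        exact K.inv_mem h1 }
  have hL : ∀ ρ : Perm ι, Perm.sign ρ = 1 → ∀ x ∈ L, ρ * x * ρ⁻¹ ∈ L := by
    intro ρ hρ x hx
    show P (ρ * x * ρ⁻¹) ∈ K
    rw [← P_mul, ← P_mul, ← P_inv]
    exact hK _ (P_mem_Winf hρ) _ hx
  -- commutators
  have hcom : ∀ ρ : Perm ι, Perm.sign ρ = 1 → ρ * g.s * ρ⁻¹ * g.s⁻¹ ∈ L := by
    intro ρ hρ
    have h1 : P ρ * g * (P ρ)⁻¹ * g⁻¹ ∈ K := K.mul_mem (hK _ (P_mem_Winf hρ) _ hg) (K.inv_mem hg)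
    set x := P ρ * g * (P ρ)⁻¹ * g⁻¹ with hx
    have h2 : x.s = ρ * g.s * ρ⁻¹ * g.s⁻¹ := rfl
    have h3 : ∑ k, x.v k = 0 := by
      have h4 : x.v = g.v ∘ ⇑ρ.symm + (g.v ∘ ⇑g.s) ∘ ⇑(ρ * g.s * ρ⁻¹).symm := by
        ext1 k
        show (0 : ZMod 2) + g.v (ρ.symm k) + 0 + (g.v ∘ ⇑g.s) ((ρ * g.s * ρ⁻¹).symm k) = _
        rw [zero_add, add_zero]
        rfl
      rw [h4, sum_add, sum_comp, sum_comp, sum_comp, CharTwo.add_self_eq_zero]
    have h4 : P x.s = E x.v * x := by
      have h5 := eq_E_mul_P x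
      calc P x.s = E x.v * (E x.v * P x.s) := by rw [← mul_assoc, E_sq, one_mul]
        _ = E x.v * x := by rw [← h5]
    show P (ρ * g.s * ρ⁻¹ * g.s⁻¹) ∈ K
    rw [← h2, h4]
    exact K.mul_mem (hvec _ h3) h1
  obtain ⟨τ, hτ, hτ1⟩ : ∃ τ ∈ L, τ ≠ 1 := by
    -- a three-cycle not commuting with `g.s`
    obtain ⟨k, hk1, hk2, hk3⟩ : ∃ k, k ≠ i ∧ k ≠ g.s i ∧ k ≠ g.s (g.s i) := by
      by_contra hcon
      push Not at hcon
      have h1 : (Finset.univ : Finset ι) ⊆ {i, g.s i, g.s (g.s i)} := by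
        intro k _
        by_cases h1 : k = i
        · simp [h1]
        by_cases h2 : k = g.s i
        · simp [h2]
        · simp [hcon k h1 h2]
      have h2 := Finset.card_le_card h1
      have h3 : ({i, g.s i, g.s (g.s i)} : Finset ι).card ≤ 3 := Finset.card_le_three
      rw [Finset.card_univ] at h2
      omega
    set ρ : Perm ι := swap i (g.s i) * swap (g.s i) k with hρ
    have hρs : Perm.sign ρ = 1 := by
      rw [hρ, Perm.sign_mul, Perm.sign_swap hi.symm, Perm.sign_swap hk2.symm]; rfl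
    have hρi : ρ i = g.s i := by
      rw [hρ, Perm.mul_apply, swap_apply_of_ne_of_ne hi.symm hk1.symm, swap_apply_left]
    have hρt : ρ (g.s i) = k := by
      rw [hρ, Perm.mul_apply, swap_apply_left, swap_apply_of_ne_of_ne hk1 hk2]
    refine ⟨_, hcom ρ hρs, ?_⟩
    intro h
    rw [mul_inv_eq_one, mul_inv_eq_iff_eq_mul] at h
    have h1 := congrArg (fun g : Perm ι => g i) h
    have h2 : ρ (g.s i) = g.s (ρ i) := h1
    rw [hρt, hρi] at h2
    exact hk3 h2
  have hA := alt_le h5 hτ hτ1 hL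
  rintro x ⟨hx1, hx2⟩
  rw [eq_E_mul_P x]
  exact K.mul_mem (hvec _ hx1) (hA (Perm.mem_alternatingGroup.2 hx2))

end normal

/-- elements commuting with all even vectors are vectors -/
theorem cent_even (h3 : 3 ≤ Fintype.card ι) {g : W ι}
    (h : ∀ w, ∑ i, w i = 0 → g * E w = E w * g) : g.s = 1 := by
  ext1 i
  by_contra hne
  have hne' : g.s i ≠ i := hne
  obtain ⟨k, hk1, hk2⟩ : ∃ k, k ≠ i ∧ k ≠ g.s i := by
    by_contra hcon
    push Not at hcon
    have h1 : (Finset.univ : Finset ι) ⊆ {i, g.s i} := by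
      intro k _
      by_cases h1 : k = i
      · simp [h1]
      · simp [hcon k h1]
    have h2 := Finset.card_le_card h1
    have h3 : ({i, g.s i} : Finset ι).card ≤ 2 := Finset.card_le_two
    rw [Finset.card_univ] at h2
    omega
  have h2 := h (e i + e k) (sum_ee i k)
  have h4 : E ((e i + e k) ∘ ⇑g.s.symm) = E (e i + e k) := by
    rw [← conj_E, h2, mul_inv_cancel_right]
  have h5 := congrFun (E_inj h4) (g.s i)
  rw [add_comp, e_comp, e_comp] at h5
  have h6 : (e (g.s i) + e (g.s k)) (g.s i) = 1 := by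
    have : g.s i ≠ g.s k := fun h => hk1 (g.s.injective h).symm
    show e (g.s i) (g.s i) + e (g.s k) (g.s i) = 1
    rw [e_self, e_ne this, add_zero]
  have h7 : (e i + e k) (g.s i) = 0 := by
    show e i (g.s i) + e k (g.s i) = 0
    rw [e_ne hne', e_ne (Ne.symm hk2), add_zero]
  rw [h6, h7] at h5
  exact absurd h5 (by decide)

/-- elements commuting with `Winf` -/
theorem cent_inf (h4 : 4 ≤ Fintype.card ι) {g : W ι} (h : ∀ x ∈ Winf ι, g * x = x * g) : g = 1 ∨ g = E 1 := by
  have h1 : g.s = 1 := cent_even (by omega) fun w hw => h _ (E_mem_Winf hw)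
  have h2 : g = E g.v := eq_E_of_s h1
  have hn : Nonempty ι := Fintype.card_pos_iff.1 (by omega)
  obtain ⟨o⟩ := hn
  have h3 : ∀ i, g.v i = g.v o := by
    intro i
    by_cases hio : i = o
    · rw [hio]
    obtain ⟨σ, hσ, hσ1, -⟩ := exists_even h4 (i := o) (j := i) (k := i) (l := o) (Ne.symm hio) hio
    have h5 := h (P σ) (P_mem_Winf hσ)
    have h6 : P σ * g * (P σ)⁻¹ = g := by rw [← h5, mul_inv_cancel_right]
    rw [h2, conj_E] at h6
    have h7 := congrFun (E_inj h6) i
    have h8 : (P σ).s.symm i = o := by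
      show σ.symm i = o
      rw [← hσ1, symm_apply_apply]
    have h9 : g.v ((P σ).s.symm i) = g.v i := h7
    rw [h8] at h9
    exact h9.symm
  rcases zmod2 (g.v o) with h0 | h0
  · left
    rw [h2, ← E_zero]
    congr 1
    ext1 i
    rw [h3 i, h0]; rfl
  · right
    rw [h2]
    congr 1
    ext1 i
    rw [h3 i, h0]; rfl

/-- **Two different commutators with an even permutation.** -/
theorem two_comm (h5 : 5 ≤ Fintype.card ι) {σ : Perm ι} (hσ : Perm.sign σ = 1) (hσ1 : σ ≠ 1) :
    ∃ w w' : ι → ZMod 2, ∑ i, w i = 0 ∧ ∑ i, w' i = 0 ∧ w + w ∘ ⇑σ.symm ≠ 0 ∧ w' + w' ∘ ⇑σ.symm ≠ 0 ∧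
      w + w ∘ ⇑σ.symm ≠ w' + w' ∘ ⇑σ.symm := by
  by_contra hcon
  push Not at hcon
  -- `u x = e x + e (σ x)`
  have hu : ∀ x y : ι, (e x + e y) + (e x + e y) ∘ ⇑σ.symm = (e x + e (σ x)) + (e y + e (σ y)) := by
    intro x y
    rw [add_comp, e_comp, e_comp]
    abel
  obtain ⟨i, hi⟩ : ∃ i, σ i ≠ i := by
    by_contra hcon
    push Not at hcon
    exact hσ1 (Perm.ext hcon)
  -- equality of the `u`
  have heq : ∀ x y : ι, (e x + e (σ x)) + (e y + e (σ y)) = 0 → x = y ∨ (σ x = x ∧ σ y = y) ∨ (y = σ x ∧ σ y = x) := by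
    intro x y h
    by_cases hxy : x = y
    · exact Or.inl hxy
    right
    have h1 := congrFun h x
    have h2 := congrFun h y
    have h1' : e x x + e (σ x) x + (e y x + e (σ y) x) = 0 := h1
    have h2' : e x y + e (σ x) y + (e y y + e (σ y) y) = 0 := h2
    rw [e_self, e_ne hxy] at h1'
    rw [e_self, e_ne (Ne.symm hxy)] at h2'
    by_cases h3 : σ x = x
    · left
      refine ⟨h3, ?_⟩
      have h4 : σ x ≠ y := by rw [h3]; exact hxy
      rw [e_ne (Ne.symm h4)] at h2'
      by_contra h5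
      rw [e_ne (Ne.symm h5)] at h2'
      exact absurd h2' (by decide)
    · right
      rw [e_ne (Ne.symm h3)] at h1'
      have h4 : σ y = x := by
        by_contra h5
        rw [e_ne (Ne.symm h5)] at h1'
        exact absurd h1' (by decide)
      refine ⟨?_, h4⟩
      rw [h4, e_ne (Ne.symm hxy)] at h2'
      by_contra h5
      rw [e_ne h5] at h2'
      exact absurd h2' (by decide)
  -- all `u x + u y ≠ 0` are equal
  have hall : ∀ x y x' y' : ι, (e x + e (σ x)) + (e y + e (σ y)) ≠ 0 → (e x' + e (σ x')) + (e y' + e (σ y')) ≠ 0 →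
      (e x + e (σ x)) + (e y + e (σ y)) = (e x' + e (σ x')) + (e y' + e (σ y')) := by
    intro x y x' y' h1 h2
    rw [← hu, ← hu] at *
    exact hcon _ _ (sum_ee x y) (sum_ee x' y') h1 h2
  -- three points with different `u`: contradiction
  have hthree : ∀ x y z : ι, (e x + e (σ x)) + (e y + e (σ y)) ≠ 0 → (e x + e (σ x)) + (e z + e (σ z)) ≠ 0 →
      (e y + e (σ y)) + (e z + e (σ z)) ≠ 0 → False := by
    intro x y z h1 h2 h3
    have h4 := hall x y x z h1 h2
    apply h3
    have h5 : (e y + e (σ y)) = (e z + e (σ z)) := add_left_cancel h4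
    rw [h5]
    exact add_self' _
  -- choose the points
  by_cases hfix : ∃ f, σ f = f
  · obtain ⟨f, hf⟩ := hfix
    -- another moved point not in `{i, σ i}` unless `σ` is a transposition
    have hif : (e i + e (σ i)) + (e f + e (σ f)) ≠ 0 := by
      intro h
      rcases heq i f h with h1 | ⟨h1, -⟩ | ⟨h1, h2⟩
      · exact hi (by rw [h1]; exact hf)
      · exact hi h1
      · exact hi (by rw [hf] at h2; rw [← h2]; exact hf)
    have hmoved : ∀ y, σ y ≠ y → y = i ∨ (y = σ i ∧ σ y = i) := by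
      intro y hy
      by_contra hno
      push Not at hno
      refine hthree i f y hif ?_ ?_
      · intro h
        rcases heq i y h with h1 | ⟨h1, -⟩ | ⟨h1, h2⟩
        · exact hno.1 h1.symm
        · exact hi h1
        · exact hno.2 h1 h2
      · intro h
        rcases heq f y h with h1 | ⟨-, h1⟩ | ⟨h1, h2⟩
        · exact hy (by rw [← h1]; exact hf)
        · exact hy h1
        · exact hy (by rw [h1, hf]; exact hf)
    have hsi : σ (σ i) = i := by
      rcases hmoved (σ i) (fun h => hi (σ.injective h)) with h | ⟨-, h⟩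
      · exact absurd h hi
      · exact h
    have hsw : σ = swap i (σ i) := by
      ext1 y
      by_cases h1 : y = i
      · rw [h1, swap_apply_left]
      by_cases h2 : y = σ i
      · rw [h2, swap_apply_right, hsi]
      · rw [swap_apply_of_ne_of_ne h1 h2]
        by_contra h3
        rcases hmoved y h3 with h | ⟨h, -⟩
        · exact h1 h
        · exact h2 h
    rw [hsw, Perm.sign_swap hi.symm] at hσ
    exact absurd hσ (by decide)
  · push Not at hfix
    -- a point outside `{i, σ i, σ⁻¹ i}`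
    have hex : ∀ F : Finset ι, F.card ≤ 4 → ∃ y, y ∉ F := by
      intro F hF
      by_contra hno
      push Not at hno
      have h1 : (Finset.univ : Finset ι) ⊆ F := fun y _ => hno y
      have h2 := Finset.card_le_card h1
      rw [Finset.card_univ] at h2
      omega
    obtain ⟨y, hy⟩ := hex {i, σ i} (le_trans Finset.card_le_two (by norm_num))
    simp only [Finset.mem_insert, Finset.mem_singleton, not_or] at hy
    obtain ⟨z, hz⟩ := hex {i, σ i, y, σ y} Finset.card_le_four
    simp only [Finset.mem_insert, Finset.mem_singleton, not_or] at hz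
    refine hthree i y z ?_ ?_ ?_
    · intro h
      rcases heq i y h with h1 | ⟨h1, -⟩ | ⟨h1, -⟩
      · exact hy.1 h1.symm
      · exact hi h1
      · exact hy.2 h1
    · intro h
      rcases heq i z h with h1 | ⟨h1, -⟩ | ⟨h1, -⟩
      · exact hz.1 h1.symm
      · exact hi h1
      · exact hz.2.1 h1
    · intro h
      rcases heq y z h with h1 | ⟨h1, -⟩ | ⟨h1, -⟩
      · exact hz.2.2.1 h1.symm
      · exact hfix _ h1
      · exact hz.2.2.2 h1

/-- `W ι` as a type of pairs -/
def equivProd (ι : Type*) : W ι ≃ (ι → ZMod 2) × Perm ι where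
  toFun a := (a.v, a.s)
  invFun p := ⟨p.1, p.2⟩
  left_inv _ := rfl
  right_inv _ := rfl

instance instFiniteW : Finite (W ι) := Finite.of_equiv _ (equivProd ι).symm

/-- the order of `W ι` -/
theorem card_W : Nat.card (W ι) = 2 ^ Fintype.card ι * (Fintype.card ι).factorial := by
  rw [Nat.card_congr (equivProd ι), Nat.card_prod, Nat.card_eq_fintype_card, Nat.card_eq_fintype_card,
    Fintype.card_fun, ZMod.card, Fintype.card_perm]

end unit

end Cfsg.Agent.H217.SP
end

-- part: H217/Red
section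
/-!
# A 2-central involution `t` with `C(t)` mapping onto `2 wr Sym(ι)` with kernel of exponent dividing three
(helper217, S3191)

`Sit t f` : `f : G → W ι` is multiplicative and surjective on `C(t)`, the kernel has exponent dividing three.
* `Sit.mem_of_normal` : if `O(G) = 1`, the nontrivial normal subgroups contain `t`;
* `Sit.not_two` : `O_2(G) = 1` if `G` has no subgroup of index two;
* `Sit.simple` : then the minimal normal subgroup is simple and contains `t`.
-/

set_option autoImplicit false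

namespace Cfsg.Agent.H217.Red

open Subgroup Cfsg.Agent.H217.SP Cfsg.Agent.Lib.Cores

variable {G : Type*} [Group G] {ι : Type*} [Fintype ι] [DecidableEq ι]

theorem z1 : ∀ x : ZMod 2, x + (x + 1) = 1 + 0 := by decide
theorem z2 : ∀ x : ZMod 2, x + 1 + x = 0 + 1 := by decide
theorem z3 : ¬ (0 : ZMod 2) = 1 + 0 + (0 + 0) := by decide

/-- the centralizer of an element -/
abbrev Ce (t : G) : Subgroup G := centralizer ({t} : Set G)

theorem mem_Ce {t g : G} : g ∈ Ce t ↔ g * t = t * g := mem_centralizer_singleton_iff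

/-- the situation -/
structure Sit (t : G) (f : G → W ι) : Prop where
  ne : t ≠ 1
  tt : t * t = 1
  mul : ∀ g ∈ Ce t, ∀ h ∈ Ce t, f (g * h) = f g * f h
  surj : ∀ w, ∃ g ∈ Ce t, f g = w
  ker : ∀ g ∈ Ce t, f g = 1 → g * g * g = 1
  six : 6 ≤ Fintype.card ι
  even : Even (Fintype.card ι)

namespace Sit

theorem cube_one {g : G} (h2 : g * g = 1) (h3 : g * g * g = 1) : g = 1 := by
  rw [h2, one_mul] at h3
  exact h3

variable {t : G} {f : G → W ι} (h : Sit t f)
include h

theorem one : f 1 = 1 := by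
  have h1 := h.mul 1 (one_mem _) 1 (one_mem _)
  rw [mul_one] at h1
  exact left_eq_mul.1 h1

theorem inv {g : G} (hg : g ∈ Ce t) : f g⁻¹ = (f g)⁻¹ := by
  have h1 := h.mul g hg g⁻¹ (inv_mem hg)
  rw [mul_inv_cancel, h.one] at h1
  exact eq_inv_of_mul_eq_one_right h1.symm

theorem conj {g k : G} (hg : g ∈ Ce t) (hk : k ∈ Ce t) : f (g * k * g⁻¹) = f g * f k * (f g)⁻¹ := by
  rw [h.mul _ (mul_mem hg hk) _ (inv_mem hg), h.mul _ hg _ hk, h.inv hg]

theorem t_mem : t ∈ Ce t := mem_Ce.2 rfl

theorem sum_one : ∑ i, (1 : ι → ZMod 2) i = 0 := by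
  have h1 : ∑ i, (1 : ι → ZMod 2) i = (Fintype.card ι : ZMod 2) := by
    simp
  rw [h1]
  exact (ZMod.natCast_eq_zero_iff_even).2 h.even

/-- equal images, commuting involutions -/
theorem eq_of_f {g k : G} (hg : g ∈ Ce t) (hk : k ∈ Ce t) (gg : g * g = 1) (kk : k * k = 1) (hc : g * k = k * g)
    (he : f g = f k) : g = k := by
  have h1 : f (g * k) = 1 := by
    rw [h.mul _ hg _ hk, ← he, ← h.mul _ hg _ hg, gg, h.one]
  have h2 : g * k * (g * k) = 1 := by
    calc g * k * (g * k) = g * (k * g) * k := by group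
      _ = g * (g * k) * k := by rw [hc]
      _ = (g * g) * (k * k) := by group
      _ = 1 := by rw [gg, kk, one_mul]
  have h3 := cube_one h2 (h.ker _ (mul_mem hg hk) h1)
  have h4 : g = k⁻¹ := eq_inv_of_mul_eq_one_left h3
  rw [h4]
  exact inv_eq_of_mul_eq_one_left kk

/-- an involution of the kernel is trivial -/
theorem eq_one_of_f {g : G} (hg : g ∈ Ce t) (gg : g * g = 1) (he : f g = 1) : g = 1 :=
  h.eq_of_f hg (one_mem _) gg (one_mul 1) (by group) (by rw [he, h.one])

theorem f_t : f t = E 1 := by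
  have hsix := h.six
  have h1 : ∀ x : W ι, f t * x = x * f t := by
    intro x
    obtain ⟨g, hg, rfl⟩ := h.surj x
    rw [← h.mul _ h.t_mem _ hg, ← h.mul _ hg _ h.t_mem, mem_Ce.1 hg]
  rcases cent_inf (by omega) (fun x _ => h1 x) with h2 | h2
  · exact absurd (h.eq_one_of_f h.t_mem h.tt h2) h.ne
  · exact h2

/-- the image of the part of a subgroup in `C(t)` -/
def img (K : Subgroup G) : Subgroup (W ι) where
  carrier := {w | ∃ k ∈ K, k ∈ Ce t ∧ f k = w}
  mul_mem' := by
    rintro _ _ ⟨k, hk, hkC, rfl⟩ ⟨l, hl, hlC, rfl⟩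
    exact ⟨k * l, K.mul_mem hk hl, mul_mem hkC hlC, h.mul _ hkC _ hlC⟩
  one_mem' := ⟨1, K.one_mem, one_mem _, h.one⟩
  inv_mem' := by
    rintro _ ⟨k, hk, hkC, rfl⟩
    exact ⟨k⁻¹, K.inv_mem hk, inv_mem hkC, h.inv hkC⟩

/-- a subgroup whose image contains the central element contains `t` -/
theorem mem_of_E_one {K : Subgroup G} (hK : E 1 ∈ h.img K) : t ∈ K := by
  obtain ⟨k, hk, hkC, hkf⟩ := hK
  have h1 : f (k * t) = 1 := by rw [h.mul _ hkC _ h.t_mem, hkf, h.f_t, E_sq]
  have h2 := h.ker _ (mul_mem hkC h.t_mem) h1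
  have hkt := mem_Ce.1 hkC
  have h3 : k * t * (k * t) * (k * t) = k * k * k * t := by
    calc k * t * (k * t) * (k * t) = k * (t * k) * (t * (k * t)) := by group
      _ = k * (k * t) * (t * (t * k)) := by rw [← hkt]
      _ = k * k * (t * t) * (t * k) := by group
      _ = k * k * (k * t) := by rw [h.tt, mul_one, ← hkt]
      _ = k * k * k * t := by group
  rw [h3] at h2
  have h4 : t = (k * k * k)⁻¹ := eq_inv_of_mul_eq_one_right h2
  rw [h4]
  exact K.inv_mem (K.mul_mem (K.mul_mem hk hk) hk)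

/-- the image of a subgroup normalised by `C(t) ∩ N`, `Winf ≤ img N` -/
theorem img_norm {K N : Subgroup G} (hN : Winf ι ≤ h.img N) (hKN : ∀ n ∈ N, ∀ k ∈ K, n * k * n⁻¹ ∈ K) :
    ∀ x ∈ Winf ι, ∀ k ∈ h.img K, x * k * x⁻¹ ∈ h.img K := by
  rintro x hx _ ⟨k, hk, hkC, rfl⟩
  obtain ⟨n, hn, hnC, rfl⟩ := hN hx
  exact ⟨n * k * n⁻¹, hKN n hn k hk, mul_mem (mul_mem hnC hkC) (inv_mem hnC), h.conj hnC hkC⟩

theorem img_top : h.img ⊤ = ⊤ := by
  rw [eq_top_iff]
  intro w _
  obtain ⟨g, hg, rfl⟩ := h.surj w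
  exact ⟨g, mem_top _, hg, rfl⟩

/-- the image of a normal subgroup -/
theorem img_cases {M : Subgroup G} (hM : M.Normal) :
    (∀ m ∈ M, m ∈ Ce t → (f m).s = 1) ∨ Winf ι ≤ h.img M := by
  have hsix := h.six
  have h1 := h.img_norm (K := M) (N := ⊤) (by rw [h.img_top]; exact le_top)
    (fun n _ k hk => hM.conj_mem k hk n)
  rcases cases h1 (by omega) with h2 | h2
  · exact Or.inl fun m hm hmC => h2 _ ⟨m, hm, hmC, rfl⟩
  · exact Or.inr h2

theorem E_one_mem_Winf : E 1 ∈ Winf ι := E_mem_Winf h.sum_one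

/-- all even vectors from one vector which is not constant -/
theorem even_mem {M : Subgroup G} (hM : M.Normal) {m : G} (hm : m ∈ M) (hmC : m ∈ Ce t) (hs : (f m).s = 1)
    (h0 : (f m).v ≠ 0) (h1 : (f m).v ≠ 1) (w : ι → ZMod 2) (hw : ∑ i, w i = 0) : E w ∈ h.img M := by
  have hsix := h.six
  obtain ⟨i, j, hij⟩ : ∃ i j, (f m).v i ≠ (f m).v j := by
    by_contra hcon
    push Not at hcon
    have hn : Nonempty ι := Fintype.card_pos_iff.1 (by omega)
    obtain ⟨o⟩ := hn
    rcases zmod2 ((f m).v o) with h2 | h2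
    · exact h0 (by ext1 i; rw [hcon i o, h2]; rfl)
    · exact h1 (by ext1 i; rw [hcon i o, h2]; rfl)
  refine all_even (h.img_norm (K := M) (N := ⊤) (by rw [h.img_top]; exact le_top)
    (fun n _ k hk => hM.conj_mem k hk n)) (by omega) (u := (f m).v) ?_ hij w hw
  rw [← eq_E_of_s hs]
  exact ⟨m, hm, hmC, rfl⟩

omit h in
theorem sylow_ne_bot [Finite G] (S : Sylow 2 G) (hO : Cfsg.pPrimeCore 2 G = ⊥) {M : Subgroup G} (hM : M.Normal)
    (hne : M ≠ ⊥) : ∃ m ∈ M, m ∈ (S : Subgroup G) ∧ m ≠ 1 := by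
  have hMS : M ⊓ (S : Subgroup G) ≠ ⊥ := by
    intro h1
    apply hne
    have h2 := TwoFusion.TransferIndex.not_dvd_relIndex_inf S M
    rw [h1, Subgroup.relIndex_bot_left] at h2
    have h3 : M ≤ Cfsg.pPrimeCore 2 G := le_pPrimeCore hM (by
      rw [Nat.coprime_comm]
      exact (Nat.Prime.coprime_iff_not_dvd Nat.prime_two).2 h2)
    rw [hO] at h3
    exact le_bot_iff.1 h3
  obtain ⟨⟨m, hm⟩, hm1⟩ := (Subgroup.ne_bot_iff_exists_ne_one).1 hMS
  exact ⟨m, (mem_inf.1 hm).1, (mem_inf.1 hm).2, fun e => hm1 (Subtype.ext e)⟩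

/-- an element of 2-power order with image `1` is trivial -/
theorem eq_one_of_two {g : G} (hg : g ∈ Ce t) {S : Subgroup G} (hS : IsPGroup 2 S) (hgS : g ∈ S) (he : f g = 1) :
    g = 1 := by
  have h3 := h.ker g hg he
  have h3' : g ^ 3 = 1 := by rw [pow_succ, pow_two]; exact h3
  obtain ⟨k, hk⟩ := hS ⟨g, hgS⟩
  have hk' : g ^ 2 ^ k = 1 := congrArg Subtype.val hk
  have h1 := orderOf_dvd_of_pow_eq_one h3'
  have h2 := orderOf_dvd_of_pow_eq_one hk'
  have h4 : Nat.Coprime 3 (2 ^ k) := Nat.Coprime.pow_right _ (by norm_num)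
  exact orderOf_eq_one_iff.1 (Nat.Coprime.eq_one_of_dvd (Nat.Coprime.coprime_dvd_left h1 h4) h2)

variable [Finite G] (S : Sylow 2 G) (hS : (S : Subgroup G) ≤ Ce t)
include S hS

/-- **A nontrivial normal subgroup contains `t`, if `O(G) = 1`.** -/
theorem mem_of_normal (hO : Cfsg.pPrimeCore 2 G = ⊥) {M : Subgroup G} (hM : M.Normal) (hne : M ≠ ⊥) : t ∈ M := by
  obtain ⟨m, hm, hmS, hm1⟩ := sylow_ne_bot S hO hM hne
  apply h.mem_of_E_one
  rcases h.img_cases hM with h1 | h1
  · have hs := h1 m hm (hS hmS)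
    by_cases hv0 : (f m).v = 0
    · exfalso
      apply hm1
      refine h.eq_one_of_two (hS hmS) S.2 hmS ?_
      rw [eq_E_of_s hs, hv0, E_zero]
    by_cases hv1 : (f m).v = 1
    · rw [← hv1, ← eq_E_of_s hs]
      exact ⟨m, hm, hS hmS, rfl⟩
    · exact h.even_mem hM hm (hS hmS) hs hv0 hv1 1 h.sum_one
  · exact h1 h.E_one_mem_Winf

/-- involutions of the Sylow subgroup over the conjugates of an involution -/
theorem exists_lift {w : W ι} (hw : w * w = 1) : ∃ d ∈ (S : Subgroup G), d * d = 1 ∧ ∃ x, f d = x * w * x⁻¹ := by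
  obtain ⟨c, hc, rfl⟩ := h.surj w
  have h1 : f (c * c) = 1 := by rw [h.mul _ hc _ hc, hw]
  have h2 := h.ker _ (mul_mem hc hc) h1
  have hd : c * c * c * (c * c * c) = 1 := by rw [← h2]; group
  have hdC : c * c * c ∈ Ce t := mul_mem (mul_mem hc hc) hc
  have hdf : f (c * c * c) = f c := by rw [h.mul _ (mul_mem hc hc) _ hc, h1, one_mul]
  have hp : IsPGroup 2 (zpowers (c * c * c)) := by
    rintro ⟨y, hy⟩
    obtain ⟨n, rfl⟩ := mem_zpowers_iff.1 hy
    refine ⟨1, Subtype.ext ?_⟩
    show ((c * c * c) ^ n) ^ 2 ^ 1 = 1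
    rw [← zpow_natCast, ← zpow_mul, mul_comm, zpow_mul, zpow_natCast]
    have : (c * c * c) ^ 2 ^ 1 = 1 := by rw [pow_one, pow_two]; exact hd
    rw [this, one_zpow]
  have : Fact (Nat.Prime 2) := ⟨Nat.prime_two⟩
  obtain ⟨x, hx, hxS⟩ := H799.SymSyl.exists_conj_mem S hS hdC hp
  refine ⟨_, hxS, ?_, f x, ?_⟩
  · calc x * (c * c * c) * x⁻¹ * (x * (c * c * c) * x⁻¹) = x * (c * c * c * (c * c * c)) * x⁻¹ := by group
      _ = 1 := by rw [hd]; group
  · rw [h.conj hx hdC, hdf]

/-- **`O_2(G) = 1`** if `G` has no subgroup of index two. -/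
theorem not_two (h2 : ∀ φ : G →* ℤˣ, ∀ x, φ x = 1) {M : Subgroup G} (hM : M.Normal) (hMp : IsPGroup 2 M)
    (hne : M ≠ ⊥) : False := by
  have hsix := h.six
  have hpf : Fact (Nat.Prime 2) := ⟨Nat.prime_two⟩
  -- `M ≤ S`
  have hMS : M ≤ S := by
    have h1 : IsPGroup 2 ((S : Subgroup G) ⊔ M : Subgroup G) := S.2.to_sup_of_normal_right hMp
    rw [← S.3 h1 le_sup_left]
    exact le_sup_right
  have hMC : M ≤ Ce t := hMS.trans hS
  have inj : ∀ x ∈ M, ∀ y ∈ M, f x = f y → x = y := by
    intro x hx y hy hxy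
    have h1 : f (x * y⁻¹) = 1 := by
      rw [h.mul _ (hMC hx) _ (inv_mem (hMC hy)), h.inv (hMC hy), hxy, mul_inv_cancel]
    exact mul_inv_eq_one.1 (h.eq_one_of_two (mul_mem (hMC hx) (inv_mem (hMC hy))) hMp
      (mul_mem hx (inv_mem hy)) h1)
  -- all elements are vectors
  have hv : ∀ m ∈ M, (f m).s = 1 := by
    rcases h.img_cases hM with h1 | h1
    · exact fun m hm => h1 m hm (hMC hm)
    · exfalso
      -- a three-cycle
      obtain ⟨i, j, k, hij, hjk, hki⟩ : ∃ i j k : ι, i ≠ j ∧ j ≠ k ∧ k ≠ i := by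
        have hn : Nontrivial ι := Fintype.one_lt_card_iff_nontrivial.1 (by omega)
        obtain ⟨i, j, hij⟩ := hn.exists_pair_ne
        obtain ⟨k, hk⟩ : ∃ k, k ∉ ({i, j} : Finset ι) := by
          by_contra hcon
          push Not at hcon
          have h2 := Finset.card_le_card (fun k _ => hcon k : (Finset.univ : Finset ι) ⊆ {i, j})
          have h3 : ({i, j} : Finset ι).card ≤ 2 := Finset.card_le_two
          rw [Finset.card_univ] at h2
          omega
        simp only [Finset.mem_insert, Finset.mem_singleton, not_or] at hk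
        exact ⟨i, j, k, hij, Ne.symm hk.2, hk.1⟩
      have h3 : Equiv.Perm.sign (Equiv.swap i j * Equiv.swap i k) = 1 := by
        rw [Equiv.Perm.sign_mul, Equiv.Perm.sign_swap hij, Equiv.Perm.sign_swap hki.symm]; rfl
      obtain ⟨m, hm, hmC, hmf⟩ := h1 (P_mem_Winf h3)
      have h4 := (Equiv.Perm.isThreeCycle_swap_mul_swap_same hij hki.symm hjk).orderOf
      obtain ⟨l, hl⟩ := hMp ⟨m, hm⟩
      have hl' : m ^ 2 ^ l = 1 := congrArg Subtype.val hl
      have h5 : ∀ n : ℕ, f (m ^ n) = P ((Equiv.swap i j * Equiv.swap i k) ^ n) := by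
        intro n
        induction n with
        | zero => rw [pow_zero, pow_zero, h.one, P_one]
        | succ n ih => rw [pow_succ, pow_succ, h.mul _ (pow_mem hmC n) _ hmC, ih, hmf, P_mul]
      have h6 := h5 (2 ^ l)
      rw [hl', h.one] at h6
      have h7 : (Equiv.swap i j * Equiv.swap i k) ^ 2 ^ l = 1 := (congrArg W.s h6).symm
      have h8 := orderOf_dvd_of_pow_eq_one h7
      rw [h4] at h8
      have h9 := Nat.Prime.dvd_of_dvd_pow Nat.prime_three h8
      exact absurd h9 (by norm_num)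
  -- there are nonconstant vectors
  have hex : ∃ m ∈ M, (f m).v ≠ 0 ∧ (f m).v ≠ 1 := by
    by_contra hcon
    push Not at hcon
    -- `M = ⟨t⟩`, `G = C(t)`
    obtain ⟨⟨m, hm⟩, hm1⟩ := (Subgroup.ne_bot_iff_exists_ne_one).1 hne
    have hm1' : m ≠ 1 := fun e => hm1 (Subtype.ext e)
    have hM2 : ∀ x ∈ M, x = 1 ∨ f x = E 1 := by
      intro x hx
      by_cases hx0 : (f x).v = 0
      · left
        refine h.eq_one_of_two (hMC hx) hMp hx ?_
        rw [eq_E_of_s (hv x hx), hx0, E_zero]
      · right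
        rw [eq_E_of_s (hv x hx), hcon x hx hx0]
    have hmt : f m = E 1 := (hM2 m hm).resolve_left hm1'
    have htM : t ∈ M := h.mem_of_E_one ⟨m, hm, hMC hm, hmt⟩
    have hcen : ∀ g : G, g ∈ Ce t := by
      intro g
      rcases hM2 _ (hM.conj_mem t htM g) with h3 | h3
      · exfalso
        apply h.ne
        calc t = g⁻¹ * (g * t * g⁻¹) * g := by group
          _ = 1 := by rw [h3]; group
      · have h4 : g * t * g⁻¹ = t := inj _ (hM.conj_mem t htM g) _ htM (by rw [h3, h.f_t])
        rw [mem_Ce]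
        exact mul_inv_eq_iff_eq_mul.1 h4
    -- the sign
    let φ : G →* ℤˣ :=
      { toFun := fun g => Equiv.Perm.sign (f g).s
        map_one' := by rw [h.one]; exact Equiv.Perm.sign_one
        map_mul' := fun g k => by rw [h.mul g (hcen g) k (hcen k), mul_s, Equiv.Perm.sign_mul] }
    have hn : Nontrivial ι := Fintype.one_lt_card_iff_nontrivial.1 (by omega)
    obtain ⟨i, j, hij⟩ := hn.exists_pair_ne
    obtain ⟨g, hg, hgf⟩ := h.surj (P (Equiv.swap i j))
    have h3 : φ g = 1 := h2 φ g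
    have h4 : Equiv.Perm.sign (f g).s = 1 := h3
    rw [hgf, P_s, Equiv.Perm.sign_swap hij] at h4
    exact absurd h4 (by decide)
  obtain ⟨m₀, hm₀, hm0, hm1⟩ := hex
  have hev : ∀ w : ι → ZMod 2, ∑ i, w i = 0 → ∃ m ∈ M, f m = E w := by
    intro w hw
    obtain ⟨m, hm, -, hmf⟩ := h.even_mem hM hm₀ (hMC hm₀) (hv _ hm₀) hm0 hm1 w hw
    exact ⟨m, hm, hmf⟩
  -- the transposition
  have hn : Nontrivial ι := Fintype.one_lt_card_iff_nontrivial.1 (by omega)
  obtain ⟨i, j, hij⟩ := hn.exists_pair_ne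
  obtain ⟨d, hdS, hdd, x, hdf⟩ := h.exists_lift S hS (w := P (Equiv.swap i j)) (by
    rw [P_mul, Equiv.swap_mul_self, P_one])
  have hds : (f d).s = Equiv.swap (x.s i) (x.s j) := by
    rw [hdf]
    show x.s * Equiv.swap i j * x.s⁻¹ = _
    exact H799.SymSyl.conj_swap _ _ _
  have hxij : x.s i ≠ x.s j := fun e => hij (x.s.injective e)
  set a := x.s i with ha
  set b := x.s j with hb
  -- commutators with elements of `M`
  have hcomm : ∀ s ∈ Ce t, ∀ m ∈ M, m * s * m⁻¹ * s⁻¹ ∈ M ∧
      f (m * s * m⁻¹ * s⁻¹) = E ((f m).v + (f m).v ∘ ⇑(f s).s.symm) := by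
    intro s hs m hm
    constructor
    · have : m * s * m⁻¹ * s⁻¹ = m * (s * m⁻¹ * s⁻¹) := by group
      rw [this]
      exact mul_mem hm (hM.conj_mem _ (inv_mem hm) s)
    · rw [← comm_E, h.mul _ (mul_mem (mul_mem (hMC hm) hs) (inv_mem (hMC hm))) _ (inv_mem hs),
        h.conj (hMC hm) hs, h.inv hs]
      congr 1
      rw [← eq_E_of_s (hv m hm)]
  -- all nontrivial commutators with `d` are equal
  have hall : ∀ m ∈ M, ∀ m' ∈ M, m * d * m⁻¹ * d⁻¹ ≠ 1 → m' * d * m'⁻¹ * d⁻¹ ≠ 1 →
      m * d * m⁻¹ * d⁻¹ = m' * d * m'⁻¹ * d⁻¹ := by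
    have key : ∀ v : ι → ZMod 2, v + v ∘ ⇑(Equiv.swap a b).symm = 0 ∨
        v + v ∘ ⇑(Equiv.swap a b).symm = e a + e b := by
      intro v
      by_cases hvv : v a = v b
      · left
        ext1 l
        show v l + v ((Equiv.swap a b).symm l) = 0
        rw [Equiv.symm_swap]
        by_cases l1 : l = a
        · rw [l1, Equiv.swap_apply_left, hvv, CharTwo.add_self_eq_zero]
        by_cases l2 : l = b
        · rw [l2, Equiv.swap_apply_right, hvv, CharTwo.add_self_eq_zero]
        · rw [Equiv.swap_apply_of_ne_of_ne l1 l2, CharTwo.add_self_eq_zero]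
      · right
        have hz := zmod2_ne hvv
        ext1 l
        show v l + v ((Equiv.swap a b).symm l) = e a l + e b l
        rw [Equiv.symm_swap]
        by_cases l1 : l = a
        · rw [l1, Equiv.swap_apply_left, hz, e_self, e_ne hxij]
          exact z1 _
        by_cases l2 : l = b
        · rw [l2, Equiv.swap_apply_right, hz, e_self, e_ne hxij.symm]
          exact z2 _
        · rw [Equiv.swap_apply_of_ne_of_ne l1 l2, CharTwo.add_self_eq_zero, e_ne l1, e_ne l2, add_zero]
    intro m hm m' hm' h3 h4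
    obtain ⟨h5, h6⟩ := hcomm d (hS hdS) m hm
    obtain ⟨h7, h8⟩ := hcomm d (hS hdS) m' hm'
    apply inj _ h5 _ h7
    rw [hds] at h6 h8
    rcases key (f m).v with h9 | h9
    · exfalso
      apply h3
      apply inj _ h5 _ (one_mem _)
      rw [h6, h9, h.one, E_zero]
    rcases key (f m').v with h10 | h10
    · exfalso
      apply h4
      apply inj _ h7 _ (one_mem _)
      rw [h8, h10, h.one, E_zero]
    · rw [h6, h8, h9, h10]
  -- a nontrivial commutator with `d`
  obtain ⟨m₁, hm₁, hm₁d⟩ : ∃ m ∈ M, m * d * m⁻¹ * d⁻¹ ≠ 1 := by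
    obtain ⟨k, hk⟩ : ∃ k, k ∉ ({a, b} : Finset ι) := by
      by_contra hcon
      push Not at hcon
      have h2 := Finset.card_le_card (fun k _ => hcon k : (Finset.univ : Finset ι) ⊆ {a, b})
      have h3 : ({a, b} : Finset ι).card ≤ 2 := Finset.card_le_two
      rw [Finset.card_univ] at h2
      omega
    simp only [Finset.mem_insert, Finset.mem_singleton, not_or] at hk
    obtain ⟨m, hm, hmf⟩ := hev (e a + e k) (sum_ee a k)
    refine ⟨m, hm, fun h3 => ?_⟩
    obtain ⟨-, h4⟩ := hcomm d (hS hdS) m hm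
    rw [h3, h.one, hds, hmf, E_v, ← E_zero] at h4
    have h5 := congrFun (E_inj h4) a
    have h6 : (0 : ZMod 2) = e a a + e k a + ((e a + e k) ∘ ⇑(Equiv.swap a b).symm) a := h5
    rw [add_comp, e_comp, e_comp, Equiv.swap_apply_left, Equiv.swap_apply_of_ne_of_ne hk.1 hk.2] at h6
    have h7 : (0 : ZMod 2) = e a a + e k a + (e b a + e k a) := h6
    rw [e_self, e_ne (Ne.symm hk.1), e_ne hxij] at h7
    exact z3 h7
  -- transfer
  let Q : Subgroup G :=
    { carrier := {s | s ∈ (S : Subgroup G) ∧ Equiv.Perm.sign (f s).s = 1}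
      mul_mem' := by
        rintro x y ⟨hx1, hx2⟩ ⟨hy1, hy2⟩
        refine ⟨mul_mem hx1 hy1, ?_⟩
        rw [h.mul _ (hS hx1) _ (hS hy1), mul_s, Equiv.Perm.sign_mul, hx2, hy2, one_mul]
      one_mem' := ⟨one_mem _, by rw [h.one]; exact Equiv.Perm.sign_one⟩
      inv_mem' := by
        rintro x ⟨hx1, hx2⟩
        refine ⟨inv_mem hx1, ?_⟩
        rw [h.inv (hS hx1), inv_s, Equiv.Perm.sign_inv, hx2] }
  have hQS : Q ≤ (S : Subgroup G) := fun s hs => hs.1
  have hdQ : d ∉ Q := by
    rintro ⟨-, h3⟩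
    rw [hds, Equiv.Perm.sign_swap hxij] at h3
    exact absurd h3 (by decide)
  have hQi : Q.relIndex (S : Subgroup G) = 2 := by
    show (Q.subgroupOf (S : Subgroup G)).index = 2
    rw [Subgroup.index_eq_two_iff]
    refine ⟨⟨d, hdS⟩, fun s => ?_⟩
    rw [mem_subgroupOf, mem_subgroupOf]
    have h3 : Equiv.Perm.sign (f ((s : G) * d)).s = - Equiv.Perm.sign (f (s : G)).s := by
      rw [h.mul _ (hS s.2) _ (hS hdS), mul_s, Equiv.Perm.sign_mul, hds, Equiv.Perm.sign_swap hxij, mul_neg, mul_one]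
    have h4 : (s : G) * d ∈ Q ↔ Equiv.Perm.sign (f (s : G)).s = -1 := by
      constructor
      · rintro ⟨-, h5⟩
        rw [h3] at h5
        rw [← h5, neg_neg]
      · intro h5
        exact ⟨mul_mem s.2 hdS, by rw [h3, h5, neg_neg]⟩
    have h5 : (s : G) ∈ Q ↔ Equiv.Perm.sign (f (s : G)).s = 1 := ⟨fun h => h.2, fun h => ⟨s.2, h⟩⟩
    show Xor ((s : G) * d ∈ Q) ((s : G) ∈ Q)
    rw [h4, h5]
    rcases Int.units_eq_one_or (Equiv.Perm.sign (f (s : G)).s) with h6 | h6
    · rw [h6]; decide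
    · rw [h6]; decide
  have hd1 : d ≠ 1 := by
    rintro rfl
    exact hdQ (one_mem _)
  have hd2 : orderOf d = 2 := orderOf_eq_prime (by rw [pow_two]; exact hdd) hd1
  by_cases hcj : ∀ g : G, g * d * g⁻¹ ∉ Q
  · obtain ⟨φ, hφ⟩ := Classification.TransferSign.exists_hom_neg_one S Q hQS hQi d hd2 hcj
    rw [h2 φ d] at hφ
    exact absurd hφ (by decide)
  · push Not at hcj
    obtain ⟨g, hgS, hgs⟩ := hcj
    set y := g * d * g⁻¹ with hy
    -- all nontrivial commutators with `y` are equal
    have hallc : ∀ m ∈ M, m * y * m⁻¹ * y⁻¹ = g * ((g⁻¹ * m * g) * d * (g⁻¹ * m * g)⁻¹ * d⁻¹) * g⁻¹ := by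
      intro m _
      rw [hy]; group
    have hgm : ∀ m ∈ M, g⁻¹ * m * g ∈ M := by
      intro m hm
      have := hM.conj_mem m hm g⁻¹
      rwa [inv_inv] at this
    have hally : ∀ m ∈ M, ∀ m' ∈ M, m * y * m⁻¹ * y⁻¹ ≠ 1 → m' * y * m'⁻¹ * y⁻¹ ≠ 1 →
        m * y * m⁻¹ * y⁻¹ = m' * y * m'⁻¹ * y⁻¹ := by
      intro m hm m' hm' h3 h4
      rw [hallc m hm] at h3 ⊢
      rw [hallc m' hm'] at h4 ⊢
      rw [hall _ (hgm m hm) _ (hgm m' hm')
        (fun e => h3 (by rw [e]; group)) (fun e => h4 (by rw [e]; group))]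
    by_cases hys : (f y).s = 1
    · -- `y` centralises `M`
      apply hm₁d
      have h3 : ∀ m ∈ M, m * y * m⁻¹ * y⁻¹ = 1 := by
        intro m hm
        obtain ⟨h5, h6⟩ := hcomm y (hS hgS) m hm
        apply inj _ h5 _ (one_mem _)
        rw [h6, hys, h.one, ← E_zero]
        congr 1
        exact add_self' (f m).v
      have h4 := h3 _ (hM.conj_mem m₁ hm₁ g)
      have h5 : g * m₁ * g⁻¹ * y * (g * m₁ * g⁻¹)⁻¹ * y⁻¹ = g * (m₁ * d * m₁⁻¹ * d⁻¹) * g⁻¹ := by
        rw [hy]; group
      rw [h5] at h4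
      have h6 : m₁ * d * m₁⁻¹ * d⁻¹ = g⁻¹ * (g * (m₁ * d * m₁⁻¹ * d⁻¹) * g⁻¹) * g := by group
      rw [h6, h4]; group
    · obtain ⟨w, w', hw, hw', h3, h4, h5⟩ := two_comm (by omega) hgs hys
      obtain ⟨m, hm, hmf⟩ := hev w hw
      obtain ⟨m', hm', hmf'⟩ := hev w' hw'
      obtain ⟨h6, h7⟩ := hcomm y (hS hgS) m hm
      obtain ⟨h8, h9⟩ := hcomm y (hS hgS) m' hm'
      rw [hmf, E_v] at h7
      rw [hmf', E_v] at h9
      apply h5
      apply E_inj
      rw [← h7, ← h9]
      congr 1
      apply hally m hm m' hm'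
      · intro h10
        rw [h10, h.one, ← E_zero] at h7
        exact h3 (E_inj h7).symm
      · intro h10
        rw [h10, h.one, ← E_zero] at h9
        exact h4 (E_inj h9).symm

end Sit

end Cfsg.Agent.H217.Red
end

-- part: H217/Simple
section
/-!
# The minimal normal subgroup is simple and contains `t` (helper217, S3191)
-/

set_option autoImplicit false

namespace Cfsg.Agent.H217.Red

open Subgroup Cfsg.Agent.H217.SP Cfsg.Agent.Lib.Cores Cfsg.Agent.H386.Factor

variable {G : Type*} [Group G] {ι : Type*} [Fintype ι] [DecidableEq ι]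

/-- a factor of a normal subgroup -/
structure Fac (N T : Subgroup G) : Prop where
  le : T ≤ N
  ne_bot : T ≠ ⊥
  simple : ∀ K : Subgroup G, K ≤ T → (∀ t ∈ T, ∀ k ∈ K, t * k * t⁻¹ ∈ K) → K = ⊥ ∨ K = T
  centerless : ∀ z ∈ T, (∀ t ∈ T, z * t = t * z) → z = 1
  norm : ∀ n ∈ N, ∀ t ∈ T, n * t * n⁻¹ ∈ T

theorem mem_conj {T : Subgroup G} {g x : G} : x ∈ T.map (MulAut.conj g).toMonoidHom ↔ g⁻¹ * x * g ∈ T := by
  constructor
  · rintro ⟨y, hy, rfl⟩
    have : g⁻¹ * ((MulAut.conj g).toMonoidHom y) * g = y := by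
      show g⁻¹ * (g * y * g⁻¹) * g = y
      group
    rw [this]; exact hy
  · intro h
    refine ⟨_, h, ?_⟩
    show g * (g⁻¹ * x * g) * g⁻¹ = x
    group

theorem Fac.conj {N T : Subgroup G} (hN : N.Normal) (h : Fac N T) (g : G) :
    Fac N (T.map (MulAut.conj g).toMonoidHom) where
  le := by
    rintro _ ⟨y, hy, rfl⟩
    exact hN.conj_mem y (h.le hy) g
  ne_bot := by
    intro h1
    apply h.ne_bot
    rw [eq_bot_iff]
    intro y hy
    have h2 : g * y * g⁻¹ ∈ T.map (MulAut.conj g).toMonoidHom := ⟨y, hy, rfl⟩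
    rw [h1, mem_bot] at h2
    rw [mem_bot]
    have h3 : y = g⁻¹ * (g * y * g⁻¹) * g := by group
    rw [h3, h2]; group
  simple := by
    intro K hK hKn
    have h1 : K.map (MulAut.conj g⁻¹).toMonoidHom ≤ T := by
      intro x hx
      rw [mem_conj, inv_inv] at hx
      have h2 := mem_conj.1 (hK hx)
      have h3 : g⁻¹ * (g * x * g⁻¹) * g = x := by group
      rwa [h3] at h2
    rcases h.simple _ h1 (fun u hu k hk => by
      rw [mem_conj, inv_inv] at hk ⊢
      have h2 := hKn (g * u * g⁻¹) ⟨u, hu, rfl⟩ _ hk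
      have h3 : g * u * g⁻¹ * (g * k * g⁻¹) * (g * u * g⁻¹)⁻¹ = g * (u * k * u⁻¹) * g⁻¹ := by group
      rwa [h3] at h2) with h2 | h2
    · left
      rw [eq_bot_iff]
      intro x hx
      have h3 : g⁻¹ * x * g ∈ K.map (MulAut.conj g⁻¹).toMonoidHom := by
        rw [mem_conj, inv_inv]
        have : g * (g⁻¹ * x * g) * g⁻¹ = x := by group
        rwa [this]
      rw [h2, mem_bot] at h3
      rw [mem_bot]
      have h4 : x = g * (g⁻¹ * x * g) * g⁻¹ := by group
      rw [h4, h3]; group
    · right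
      apply le_antisymm hK
      rintro _ ⟨y, hy, rfl⟩
      rw [← h2] at hy
      have hy' := mem_conj.1 hy
      rw [inv_inv] at hy'
      exact hy'
  centerless := by
    intro z hz hzc
    rw [mem_conj] at hz
    have h1 := h.centerless _ hz (fun u hu => by
      have h2 := hzc (g * u * g⁻¹) ⟨u, hu, rfl⟩
      have h3 : g⁻¹ * z * g * u = g⁻¹ * (z * (g * u * g⁻¹)) * g := by group
      have h4 : u * (g⁻¹ * z * g) = g⁻¹ * (g * u * g⁻¹ * z) * g := by group
      rw [h3, h4, h2])
    have h4 : z = g * (g⁻¹ * z * g) * g⁻¹ := by group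
    rw [h4, h1]; group
  norm := by
    intro n hn x hx
    rw [mem_conj] at hx ⊢
    have h1 := hN.conj_mem n hn g⁻¹
    rw [inv_inv] at h1
    have h2 := h.norm _ h1 _ hx
    have h3 : g⁻¹ * n * g * (g⁻¹ * x * g) * (g⁻¹ * n * g)⁻¹ = g⁻¹ * (n * x * n⁻¹) * g := by group
    rwa [h3] at h2

/-- an element normalising a finite subgroup -/
theorem norm_inv [Finite G] {T : Subgroup G} {g : G} (h : ∀ u ∈ T, g * u * g⁻¹ ∈ T) : ∀ u ∈ T, g⁻¹ * u * g ∈ T := by
  have h1 : ∀ n : ℕ, ∀ u ∈ T, g ^ n * u * (g ^ n)⁻¹ ∈ T := by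
    intro n
    induction n with
    | zero => intro u hu; simpa using hu
    | succ n ih =>
      intro u hu
      have h2 := ih _ (h u hu)
      have h3 : g ^ n * (g * u * g⁻¹) * (g ^ n)⁻¹ = g ^ (n + 1) * u * (g ^ (n + 1))⁻¹ := by
        rw [pow_succ]; group
      rwa [h3] at h2
  intro u hu
  have h2 := h1 (orderOf g - 1) u hu
  have h3 : g ^ (orderOf g - 1) = g⁻¹ := by
    rw [eq_inv_iff_mul_eq_one, ← pow_succ, Nat.sub_add_cancel (orderOf_pos g), pow_orderOf_eq_one]
  rw [h3, inv_inv] at h2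
  exact h2

namespace Sit

variable {t : G} {f : G → W ι} (h : Sit t f)
include h

/-- a factor does not commute with `t` -/
theorem not_comm [Finite G] {N T : Subgroup G} (hN : N.Normal) (hT : Fac N T) (hc : ∀ u ∈ T, u * t = t * u) :
    False := by
  have hsix := h.six
  have hTC : T ≤ Ce t := fun u hu => mem_Ce.2 (hc u hu)
  -- the kernel
  let Kr : Subgroup G :=
    { carrier := {u | u ∈ T ∧ f u = 1}
      mul_mem' := by
        rintro x y ⟨hx1, hx2⟩ ⟨hy1, hy2⟩
        exact ⟨mul_mem hx1 hy1, by rw [h.mul _ (hTC hx1) _ (hTC hy1), hx2, hy2, one_mul]⟩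
      one_mem' := ⟨one_mem _, h.one⟩
      inv_mem' := by
        rintro x ⟨hx1, hx2⟩
        exact ⟨inv_mem hx1, by rw [h.inv (hTC hx1), hx2, inv_one]⟩ }
  have hKr : Kr = ⊥ := by
    rcases hT.simple Kr (fun x hx => hx.1) (fun u hu k hk => ⟨mul_mem (mul_mem hu hk.1) (inv_mem hu), by
      rw [h.conj (hTC hu) (hTC hk.1), hk.2, mul_one, mul_inv_cancel]⟩) with h1 | h1
    · exact h1
    · exfalso
      -- exponent three
      have h3 : IsPGroup 3 T := by
        rintro ⟨u, hu⟩
        refine ⟨1, Subtype.ext ?_⟩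
        show u ^ 3 ^ 1 = 1
        rw [← h1] at hu
        have h4 := h.ker u (hTC hu.1) hu.2
        rw [pow_one, pow_succ, pow_two]
        exact h4
      have hnt : Nontrivial T := (Subgroup.nontrivial_iff_ne_bot T).2 hT.ne_bot
      have hp3 : Fact (Nat.Prime 3) := ⟨Nat.prime_three⟩
      have hz := h3.center_nontrivial
      obtain ⟨⟨z, hz1⟩, hz2⟩ := exists_ne (1 : center T)
      apply hz2
      apply Subtype.ext
      apply Subtype.ext
      refine hT.centerless _ z.2 fun u hu => ?_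
      have h4 := mem_center_iff.1 hz1 ⟨u, hu⟩
      exact (congrArg Subtype.val h4).symm
  have hinj : ∀ x ∈ T, ∀ y ∈ T, f x = f y → x = y := by
    intro x hx y hy hxy
    have h1 : x * y⁻¹ ∈ Kr := ⟨mul_mem hx (inv_mem hy), by
      rw [h.mul _ (hTC hx) _ (inv_mem (hTC hy)), h.inv (hTC hy), hxy, mul_inv_cancel]⟩
    rw [hKr, mem_bot] at h1
    exact mul_inv_eq_one.1 h1
  have hns : ¬ ∀ u ∈ T, (f u).s = 1 := by
    intro hs
    apply hT.ne_bot
    rw [eq_bot_iff]
    intro z hz
    rw [mem_bot]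
    refine hT.centerless z hz fun u hu => hinj _ (mul_mem hz hu) _ (mul_mem hu hz) ?_
    rw [h.mul _ (hTC hz) _ (hTC hu), h.mul _ (hTC hu) _ (hTC hz), eq_E_of_s (hs z hz), eq_E_of_s (hs u hu),
      E_mul, E_mul, add_comm]
  rcases h.img_cases hN with h1 | h1
  · exact hns fun u hu => h1 u (hT.le hu) (hTC hu)
  · rcases cases (h.img_norm (K := T) h1 hT.norm) (by omega) with h2 | h2
    · exact hns fun u hu => h2 _ ⟨u, hu, hTC hu, rfl⟩
    · have htT := h.mem_of_E_one (h2 h.E_one_mem_Winf)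
      exact h.ne (hT.centerless t htT fun u hu => (hc u hu).symm)

variable [Finite G] (S : Sylow 2 G) (hS : (S : Subgroup G) ≤ Ce t)
include S hS

/-- the part of `t` in a factor is `t` -/
theorem part_eq {N T : Subgroup G} (hN : N.Normal) (hF : IsFactor N T) {x c : G} (hx : x ∈ T) (hcN : c ∈ N)
    (hcT : ∀ u ∈ T, c * u = u * c) (htx : t = x * c) : x = t := by
  have hsix := h.six
  have hT : Fac N T := ⟨hF.le, hF.ne_bot, hF.simple, hF.centerless, hF.norm⟩
  have hxc : x * c = c * x := (hcT x hx).symm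
  -- elements of `T` commute with `t` iff they commute with `x`
  have hx1 : x ≠ 1 := by
    intro e1
    refine h.not_comm hN hT fun u hu => ?_
    rw [htx, e1, one_mul]
    exact (hcT u hu).symm
  have hxx : x * x = 1 := by
    apply hT.centerless _ (mul_mem hx hx)
    intro u hu
    have h1 : x * x = (c * c)⁻¹ := by
      apply eq_inv_of_mul_eq_one_left
      calc x * x * (c * c) = x * (x * c) * c := by group
        _ = x * (c * x) * c := by rw [hxc]
        _ = (x * c) * (x * c) := by group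
        _ = 1 := by rw [← htx, h.tt]
    have h2 : c * c * u = u * (c * c) := by
      rw [mul_assoc, hcT u hu, ← mul_assoc, hcT u hu, mul_assoc]
    rw [h1]
    have h3 : u * (c * c)⁻¹ = (c * c)⁻¹ * (c * c * u) * (c * c)⁻¹ := by group
    rw [h3, h2]; group
  have hxC : x ∈ Ce t := by
    rw [mem_Ce, htx, mul_assoc x c x, ← hxc]
  -- (c)
  have hcc : ∀ g ∈ Ce t, (g * x * g⁻¹ = x ∧ ∀ u ∈ T, g * u * g⁻¹ ∈ T) ∨
      (∀ s ∈ T, ∀ u ∈ T, s * (g * u * g⁻¹) = (g * u * g⁻¹) * s) := by
    intro g hg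
    rcases hF.conj g with h1 | h1
    · left
      refine ⟨?_, h1⟩
      have hinv := norm_inv h1
      have h2 : t = (g * x * g⁻¹) * (g * c * g⁻¹) := by
        have h3 : g * t * g⁻¹ = t := mul_inv_eq_iff_eq_mul.2 (mem_Ce.1 hg)
        rw [← h3, htx]; group
      have hc' : ∀ u ∈ T, (g * c * g⁻¹) * u = u * (g * c * g⁻¹) := by
        intro u hu
        have h3 := hcT _ (hinv u hu)
        have h4 : g * c * g⁻¹ * u = g * (c * (g⁻¹ * u * g)) * g⁻¹ := by group
        have h5 : u * (g * c * g⁻¹) = g * ((g⁻¹ * u * g) * c) * g⁻¹ := by group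
        rw [h4, h5, h3]
      have h3 : (g * x * g⁻¹)⁻¹ * x = (g * c * g⁻¹) * c⁻¹ := by
        have h4 : x * c = (g * x * g⁻¹) * (g * c * g⁻¹) := htx.symm.trans h2
        have h5 : x = (g * x * g⁻¹) * (g * c * g⁻¹) * c⁻¹ := by rw [← h4]; group
        calc (g * x * g⁻¹)⁻¹ * x = (g * x * g⁻¹)⁻¹ * ((g * x * g⁻¹) * (g * c * g⁻¹) * c⁻¹) := by rw [← h5]
          _ = (g * c * g⁻¹) * c⁻¹ := by group
      have h4 : (g * x * g⁻¹)⁻¹ * x = 1 := by
        apply hT.centerless _ (mul_mem (inv_mem (h1 x hx)) hx)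
        intro u hu
        rw [h3]
        have h5 : c⁻¹ * u = u * c⁻¹ := by
          rw [inv_mul_eq_iff_eq_mul, ← mul_assoc, hcT u hu, mul_inv_cancel_right]
        rw [mul_assoc, h5, ← mul_assoc, hc' u hu, mul_assoc]
      exact (inv_mul_eq_one.1 h4)
    · exact Or.inr h1
  have hmv : ∀ g ∈ Ce t, g * x * g⁻¹ ≠ x → ∀ s ∈ T, ∀ u ∈ T, s * (g * u * g⁻¹) = (g * u * g⁻¹) * s := by
    intro g hg h1
    rcases hcc g hg with ⟨h2, -⟩ | h2
    · exact absurd h2 h1
    · exact h2
  have hfx : ∀ g ∈ Ce t, g * x * g⁻¹ = x → ∀ u ∈ T, g * u * g⁻¹ ∈ T := by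
    intro g hg h1
    rcases hcc g hg with ⟨-, h2⟩ | h2
    · exact h2
    · exfalso
      apply hx1
      apply hT.centerless x hx
      intro s hs
      have h3 := h2 s hs x hx
      rw [h1] at h3
      exact h3.symm
  -- conjugates commute
  have hpair1 : ∀ g ∈ Ce t, x * (g * x * g⁻¹) = (g * x * g⁻¹) * x := by
    intro g hg
    rcases hcc g hg with ⟨h2, -⟩ | h2
    · rw [h2]
    · exact h2 x hx x hx
  have hpair : ∀ g ∈ Ce t, ∀ k ∈ Ce t, (g * x * g⁻¹) * (k * x * k⁻¹) = (k * x * k⁻¹) * (g * x * g⁻¹) := by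
    intro g hg k hk
    have h1 := hpair1 (g⁻¹ * k) (mul_mem (inv_mem hg) hk)
    have h2 : g * x * g⁻¹ * (k * x * k⁻¹) = g * (x * (g⁻¹ * k * x * (g⁻¹ * k)⁻¹)) * g⁻¹ := by group
    have h3 : k * x * k⁻¹ * (g * x * g⁻¹) = g * ((g⁻¹ * k * x * (g⁻¹ * k)⁻¹) * x) * g⁻¹ := by group
    rw [h2, h3, h1]
  have hcjC : ∀ g ∈ Ce t, g * x * g⁻¹ ∈ Ce t := fun g hg => mul_mem (mul_mem hg hxC) (inv_mem hg)
  have hcj2 : ∀ g : G, (g * x * g⁻¹) * (g * x * g⁻¹) = 1 := by
    intro g
    calc (g * x * g⁻¹) * (g * x * g⁻¹) = g * (x * x) * g⁻¹ := by group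
      _ = 1 := by rw [hxx]; group
  -- (d) `f x` is a vector
  have hs : (f x).s = 1 := by
    by_contra hs
    let A : Subgroup (W ι) :=
      { carrier := {a | ∀ w : W ι, a * (w * f x * w⁻¹) = (w * f x * w⁻¹) * a}
        mul_mem' := by
          intro a b ha hb w
          rw [mul_assoc, hb w, ← mul_assoc, ha w, mul_assoc]
        one_mem' := by intro w; rw [one_mul, mul_one]
        inv_mem' := by
          intro a ha w
          rw [inv_mul_eq_iff_eq_mul, ← mul_assoc, ha w, mul_inv_cancel_right] }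
    have hA : ∀ y ∈ Winf ι, ∀ a ∈ A, y * a * y⁻¹ ∈ A := by
      intro y _ a ha w
      have h1 := ha (y⁻¹ * w)
      have h2 : y * a * y⁻¹ * (w * f x * w⁻¹) = y * (a * (y⁻¹ * w * f x * (y⁻¹ * w)⁻¹)) * y⁻¹ := by group
      have h3 : w * f x * w⁻¹ * (y * a * y⁻¹) = y * ((y⁻¹ * w * f x * (y⁻¹ * w)⁻¹) * a) * y⁻¹ := by group
      rw [h2, h3, h1]
    have hxA : f x ∈ A := by
      intro w
      obtain ⟨g, hg, rfl⟩ := h.surj w
      rw [← h.conj hg hxC, ← h.mul _ hxC _ (hcjC g hg), ← h.mul _ (hcjC g hg) _ hxC, hpair1 g hg]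
    rcases cases hA (by omega) with h1 | h1
    · exact hs (h1 _ hxA)
    · have h2 : ∀ y ∈ Winf ι, f x * y = y * f x := by
        intro y hy
        have h3 := h1 hy 1
        rw [one_mul, inv_one, mul_one] at h3
        exact h3.symm
      rcases cent_inf (by omega) h2 with h3 | h3
      · exact hs (by rw [h3]; rfl)
      · exact hs (by rw [h3]; rfl)
  set v := (f x).v with hvdef
  have hfv : f x = E v := eq_E_of_s hs
  have hfg : ∀ g ∈ Ce t, f (g * x * g⁻¹) = E (v ∘ ⇑(f g).s.symm) := by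
    intro g hg
    rw [h.conj hg hxC, hfv, conj_E]
  have hv0 : v ≠ 0 := by
    intro h0
    exact hx1 (h.eq_one_of_f hxC hxx (by rw [hfv, h0, E_zero]))
  -- elements of `C(t)` over a permutation
  have hmove : ∀ σ : Equiv.Perm ι, v ∘ ⇑σ.symm ≠ v → ∃ g ∈ Ce t, f g = P σ ∧ g * x * g⁻¹ ≠ x ∧
      ∀ s ∈ T, ∀ u ∈ T, s * (g * u * g⁻¹) = (g * u * g⁻¹) * s := by
    intro σ hσ
    obtain ⟨g, hg, hgf⟩ := h.surj (P σ)
    have h1 : g * x * g⁻¹ ≠ x := by
      intro h1
      apply hσ
      apply E_inj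
      have h2 := hfg g hg
      rw [h1, hfv, hgf] at h2
      exact h2.symm
    exact ⟨g, hg, hgf, h1, hmv g hg h1⟩
  have hfix : ∀ σ : Equiv.Perm ι, v ∘ ⇑σ.symm = v → ∃ g ∈ Ce t, f g = P σ ∧ ∀ u ∈ T, g * u * g⁻¹ ∈ T := by
    intro σ hσ
    obtain ⟨g, hg, hgf⟩ := h.surj (P σ)
    refine ⟨g, hg, hgf, hfx g hg ?_⟩
    apply h.eq_of_f (hcjC g hg) hxC (hcj2 g) hxx (hpair1 g hg).symm
    rw [hfg g hg, hgf, P_s, hσ, hfv]
  -- `t ∈ T` implies `x = t`
  have htT : t ∈ T → x = t := by
    intro ht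
    have h1 : c ∈ T := by
      have h2 : c = x⁻¹ * t := by rw [htx]; group
      rw [h2]
      exact mul_mem (inv_mem hx) ht
    have h2 : c = 1 := hT.centerless c h1 hcT
    rw [htx, h2, mul_one]
  by_cases hv1 : v = 1
  · exact h.eq_of_f hxC h.t_mem hxx h.tt (mem_Ce.1 hxC) (by rw [hfv, hv1, h.f_t])
  exfalso
  obtain ⟨i₀, j₀, hi₀, hj₀⟩ : ∃ i j, v i = 1 ∧ v j = 0 := by
    obtain ⟨i, hi⟩ : ∃ i, v i ≠ 0 := by
      by_contra hcon
      push Not at hcon
      exact hv0 (funext hcon)
    obtain ⟨j, hj⟩ : ∃ j, v j ≠ 1 := by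
      by_contra hcon
      push Not at hcon
      exact hv1 (funext hcon)
    exact ⟨i, j, (zmod2 (v i)).resolve_left hi, (zmod2 (v j)).resolve_right hj⟩
  -- swapping two different coordinates
  have hswap : ∀ (w : ι → ZMod 2) (a b : ι), w a ≠ w b → w ∘ ⇑(Equiv.swap a b).symm = w + (e a + e b) := by
    intro w a b hab
    have hne : a ≠ b := fun h => hab (by rw [h])
    have hz := zmod2_ne hab
    ext1 l
    show w ((Equiv.swap a b).symm l) = w l + (e a l + e b l)
    rw [Equiv.symm_swap]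
    by_cases l1 : l = a
    · rw [l1, Equiv.swap_apply_left, hz, e_self, e_ne hne, add_zero]
    by_cases l2 : l = b
    · rw [l2, Equiv.swap_apply_right, hz, e_self, e_ne hne.symm, zero_add, add_assoc, CharTwo.add_self_eq_zero,
        add_zero]
    · rw [Equiv.swap_apply_of_ne_of_ne l1 l2, e_ne l1, e_ne l2, add_zero, add_zero]
  have hsame : ∀ (w : ι → ZMod 2) (a b : ι), w a = w b → w ∘ ⇑(Equiv.swap a b).symm = w := by
    intro w a b hab
    ext1 l
    show w ((Equiv.swap a b).symm l) = w l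
    rw [Equiv.symm_swap]
    by_cases l1 : l = a
    · rw [l1, Equiv.swap_apply_left, hab]
    by_cases l2 : l = b
    · rw [l2, Equiv.swap_apply_right, hab]
    · rw [Equiv.swap_apply_of_ne_of_ne l1 l2]
  have hee : ∀ a b : ι, a ≠ b → e a + e b ≠ 0 := by
    intro a b hab h0
    have h1 := congrFun h0 a
    have h2 : e a a + e b a = 0 := h1
    rw [e_self, e_ne hab] at h2
    exact absurd h2 (by decide)
  by_cases h4 : (∃ k, k ≠ i₀ ∧ v k = 1) ∧ ∃ l, l ≠ j₀ ∧ v l = 0
  · -- four terms
    obtain ⟨⟨k, hk, hvk⟩, l, hl, hvl⟩ := h4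
    have n1 : v i₀ ≠ v j₀ := by rw [hi₀, hj₀]; decide
    have n2 : v k ≠ v l := by rw [hvk, hvl]; decide
    have hkj : k ≠ j₀ := fun h => absurd (h ▸ hvk : v j₀ = 1) (by rw [hj₀]; decide)
    have hli : l ≠ i₀ := fun h => absurd (h ▸ hvl : v i₀ = 0) (by rw [hi₀]; decide)
    have hij : i₀ ≠ j₀ := fun h => n1 (by rw [h])
    have hkl : k ≠ l := fun h => n2 (by rw [h])
    have s1 : v ∘ ⇑(Equiv.swap i₀ j₀).symm = v + (e i₀ + e j₀) := hswap v _ _ n1
    have s2 : v ∘ ⇑(Equiv.swap k l).symm = v + (e k + e l) := hswap v _ _ n2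
    have s3 : v ∘ ⇑(Equiv.swap i₀ j₀ * Equiv.swap k l).symm = v + (e i₀ + e j₀) + (e k + e l) := by
      rw [← comp_mul, s2, add_comp, s1, add_comp, e_comp, e_comp, Equiv.swap_apply_of_ne_of_ne hk hkj,
        Equiv.swap_apply_of_ne_of_ne hli hl]
    obtain ⟨g1, hg1, hf1, -, c1⟩ := hmove (Equiv.swap i₀ j₀) (by
      rw [s1]; exact fun h => hee _ _ hij (add_eq_left.1 h))
    obtain ⟨g2, hg2, hf2, -, c2⟩ := hmove (Equiv.swap k l) (by
      rw [s2]; exact fun h => hee _ _ hkl (add_eq_left.1 h))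
    obtain ⟨g3, hg3, hf3, -, c3⟩ := hmove (Equiv.swap i₀ j₀ * Equiv.swap k l) (by
      rw [s3, add_assoc]
      intro h
      have h1 := congrFun (add_eq_left.1 h) i₀
      have h2 : e i₀ i₀ + e j₀ i₀ + (e k i₀ + e l i₀) = 0 := h1
      rw [e_self, e_ne hij, e_ne hk.symm, e_ne hli.symm] at h2
      exact absurd h2 (by decide))
    set x1 := g1 * x * g1⁻¹ with hx1d
    set x2 := g2 * x * g2⁻¹ with hx2d
    set x3 := g3 * x * g3⁻¹ with hx3d
    have f1 : f x1 = E (v + (e i₀ + e j₀)) := by rw [hx1d, hfg g1 hg1, hf1, P_s, s1]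
    have f2 : f x2 = E (v + (e k + e l)) := by rw [hx2d, hfg g2 hg2, hf2, P_s, s2]
    have f3 : f x3 = E (v + (e i₀ + e j₀) + (e k + e l)) := by rw [hx3d, hfg g3 hg3, hf3, P_s, s3]
    have hp : f (x1 * x2 * x3) = f x := by
      rw [h.mul _ (mul_mem (hcjC g1 hg1) (hcjC g2 hg2)) _ (hcjC g3 hg3), h.mul _ (hcjC g1 hg1) _ (hcjC g2 hg2),
        f1, f2, f3, E_mul, E_mul, hfv]
      congr 1
      have hz : ∀ a b c : ι → ZMod 2, a + b + (a + c) + (a + b + c) = a := by
        intro a b c
        have h1 : a + b + (a + c) + (a + b + c) = (a + a) + (b + b) + (c + c) + a := by abel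
        rw [h1, add_self' a, add_self' b, add_self' c, zero_add, zero_add, zero_add]
      exact hz _ _ _
    have c12 : x1 * x2 = x2 * x1 := hpair g1 hg1 g2 hg2
    have c13 : x1 * x3 = x3 * x1 := hpair g1 hg1 g3 hg3
    have c23 : x2 * x3 = x3 * x2 := hpair g2 hg2 g3 hg3
    have hxq : x1 * x2 * x3 = x := by
      apply h.eq_of_f (mul_mem (mul_mem (hcjC g1 hg1) (hcjC g2 hg2)) (hcjC g3 hg3)) hxC ?_ hxx ?_ hp
      · calc x1 * x2 * x3 * (x1 * x2 * x3) = x1 * x2 * (x3 * x1) * x2 * x3 := by group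
          _ = x1 * x2 * (x1 * x3) * x2 * x3 := by rw [c13]
          _ = x1 * (x2 * x1) * (x3 * x2) * x3 := by group
          _ = x1 * (x1 * x2) * (x2 * x3) * x3 := by rw [c12, c23]
          _ = (x1 * x1) * (x2 * x2) * (x3 * x3) := by group
          _ = 1 := by rw [hcj2, hcj2, hcj2, one_mul, one_mul]
      · have d1 := hpair1 g1 hg1
        have d2 := hpair1 g2 hg2
        have d3 := hpair1 g3 hg3
        calc x1 * x2 * x3 * x = x1 * x2 * (x * x3) := by rw [mul_assoc, d3]
          _ = x1 * (x2 * x) * x3 := by group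
          _ = x1 * (x * x2) * x3 := by rw [d2]
          _ = (x1 * x) * x2 * x3 := by group
          _ = (x * x1) * x2 * x3 := by rw [d1]
          _ = x * (x1 * x2 * x3) := by group
    apply hx1
    apply hT.centerless x hx
    intro s hs
    have e1 := c1 s hs x hx
    have e2 := c2 s hs x hx
    have e3 := c3 s hs x hx
    rw [← hxq]
    calc x1 * x2 * x3 * s = x1 * x2 * (s * x3) := by rw [mul_assoc, e3]
      _ = x1 * (x2 * s) * x3 := by group
      _ = x1 * (s * x2) * x3 := by rw [e2]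
      _ = (x1 * s) * x2 * x3 := by group
      _ = (s * x1) * x2 * x3 := by rw [e1]
      _ = s * (x1 * x2 * x3) := by group
  · -- one exceptional coordinate
    obtain ⟨i, hi⟩ : ∃ i, ∀ j, j ≠ i → v j ≠ v i := by
      rw [not_and_or] at h4
      rcases h4 with h4 | h4
      · push Not at h4
        exact ⟨i₀, fun j hj => by rw [hi₀]; exact h4 j hj⟩
      · push Not at h4
        exact ⟨j₀, fun j hj => by rw [hj₀]; exact h4 j hj⟩
    have hconst : ∀ j k, j ≠ i → k ≠ i → v j = v k := by
      intro j k hj hk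
      rw [zmod2_ne (Ne.symm (hi j hj)), zmod2_ne (Ne.symm (hi k hk))]
    -- `S ∩ T ≤ {1, x}`
    have hU : ∀ u ∈ T, u ∈ (S : Subgroup G) → u = 1 ∨ u = x := by
      intro u hu huS
      have huC := hS huS
      have hcomm : ∀ g ∈ Ce t, u * (g * x * g⁻¹) = (g * x * g⁻¹) * u := by
        intro g hg
        rcases hcc g hg with ⟨h1, -⟩ | h1
        · rw [h1]
          rcases hcc u huC with ⟨h2, -⟩ | h2
          · exact mul_inv_eq_iff_eq_mul.1 h2
          · exfalso
            apply hx1
            apply hT.centerless x hx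
            intro s hs'
            have h3 := h2 (u * s * u⁻¹) (mul_mem (mul_mem hu hs') (inv_mem hu)) x hx
            have h4 : x * s = u⁻¹ * (u * x * u⁻¹ * (u * s * u⁻¹)) * u := by group
            have h5 : s * x = u⁻¹ * (u * s * u⁻¹ * (u * x * u⁻¹)) * u := by group
            rw [h4, h5, h3]
        · exact h1 u hu x hx
      have hus : (f u).s = 1 := by
        ext1 j
        by_contra hne
        have hne' : (f u).s j ≠ j := hne
        obtain ⟨g, hg, hgf⟩ := h.surj (P (Equiv.swap i j))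
        have h1 := hcomm g hg
        have h2 : f u * f (g * x * g⁻¹) * (f u)⁻¹ = f (g * x * g⁻¹) := by
          rw [← h.mul _ huC _ (hcjC g hg), h1, h.mul _ (hcjC g hg) _ huC, mul_inv_cancel_right]
        rw [hfg g hg, hgf, P_s, conj_E] at h2
        have h3 := congrFun (E_inj h2) ((f u).s j)
        have h4 : v ((Equiv.swap i j).symm ((f u).s.symm ((f u).s j))) = v ((Equiv.swap i j).symm ((f u).s j)) := h3
        rw [Equiv.symm_apply_apply, Equiv.symm_swap, Equiv.swap_apply_right] at h4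
        have h5 : (Equiv.swap i j) ((f u).s j) ≠ i := by
          intro h6
          have h7 := congrArg (Equiv.swap i j) h6
          rw [Equiv.swap_apply_self, Equiv.swap_apply_left] at h7
          exact hne' h7
        exact hi _ h5 h4.symm
      set w := (f u).v with hw
      have hfu : f u = E w := eq_E_of_s hus
      have huu : u * u = 1 := by
        apply h.eq_one_of_two (mul_mem huC huC) S.2 (mul_mem huS huS)
        rw [h.mul _ huC _ huC, hfu, E_sq]
      -- `w` is constant outside `i`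
      have hwc : ∀ j k, j ≠ i → k ≠ i → w j = w k := by
        intro j k hj hk
        by_contra hjk
        have hne : j ≠ k := fun h => hjk (by rw [h])
        obtain ⟨g, hg, hgf, hgT⟩ := hfix (Equiv.swap j k) (hsame v j k (hconst j k hj hk))
        have hu'T : g * u * g⁻¹ ∈ T := hgT u hu
        have hu'C : g * u * g⁻¹ ∈ Ce t := mul_mem (mul_mem hg huC) (inv_mem hg)
        have hy0 : f (u * (g * u * g⁻¹)) = E (e j + e k) := by
          rw [h.mul _ huC _ hu'C, h.conj hg huC, hfu, conj_E, hgf, P_s, hswap w j k hjk, E_mul, ← add_assoc,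
            add_self', zero_add]
        set y0 := u * (g * u * g⁻¹) with hy0d
        have hy0T : y0 ∈ T := mul_mem hu hu'T
        have hy0C : y0 ∈ Ce t := mul_mem huC hu'C
        have hy00 : f (y0 * y0) = 1 := by rw [h.mul _ hy0C _ hy0C, hy0, E_sq]
        have hy3 := h.ker _ (mul_mem hy0C hy0C) hy00
        set y := y0 * y0 * y0 with hyd
        have hyT : y ∈ T := mul_mem (mul_mem hy0T hy0T) hy0T
        have hyC : y ∈ Ce t := mul_mem (mul_mem hy0C hy0C) hy0C
        have hyy : y * y = 1 := by rw [hyd, ← hy3]; group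
        have hfy : f y = E (e j + e k) := by
          rw [hyd, h.mul _ (mul_mem hy0C hy0C) _ hy0C, hy00, one_mul, hy0]
        obtain ⟨l, hl⟩ : ∃ l, l ∉ ({i, j, k} : Finset ι) := by
          by_contra hcon
          push Not at hcon
          have h2 := Finset.card_le_card (fun k _ => hcon k : (Finset.univ : Finset ι) ⊆ {i, j, k})
          have h3 : ({i, j, k} : Finset ι).card ≤ 3 := Finset.card_le_three
          rw [Finset.card_univ] at h2
          omega
        simp only [Finset.mem_insert, Finset.mem_singleton, not_or] at hl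
        obtain ⟨g', hg', hgf', -, c'⟩ := hmove (Equiv.swap i l) (by
          rw [hswap v i l (Ne.symm (hi l hl.1))]
          exact fun h => hee _ _ (Ne.symm hl.1) (add_eq_left.1 h))
        have hfy' : f (g' * y * g'⁻¹) = E (e j + e k) := by
          rw [h.conj hg' hyC, hfy, conj_E, hgf', P_s, add_comp, e_comp, e_comp,
            Equiv.swap_apply_of_ne_of_ne hj (Ne.symm hl.2.1), Equiv.swap_apply_of_ne_of_ne hk (Ne.symm hl.2.2)]
        have hyeq : y = g' * y * g'⁻¹ := by
          apply h.eq_of_f hyC (mul_mem (mul_mem hg' hyC) (inv_mem hg')) hyy ?_ (c' y hyT y hyT) (hfy.trans hfy'.symm)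
          calc g' * y * g'⁻¹ * (g' * y * g'⁻¹) = g' * (y * y) * g'⁻¹ := by group
            _ = 1 := by rw [hyy]; group
        have hy1 : y = 1 := by
          apply hT.centerless y hyT
          intro s hs'
          have h5 := c' s hs' y hyT
          rw [← hyeq] at h5
          exact h5.symm
        rw [hy1, h.one, ← E_zero] at hfy
        exact hee j k hne (E_inj hfy).symm
      -- another coordinate
      obtain ⟨j, hj⟩ : ∃ j, j ≠ i := by
        by_contra hcon
        push Not at hcon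
        have h2 := Finset.card_le_card (fun k _ => Finset.mem_singleton.2 (hcon k) : (Finset.univ : Finset ι) ⊆ {i})
        rw [Finset.card_univ, Finset.card_singleton] at h2
        omega
      have hux : u * x = x * u := by
        have h1 := hcomm 1 (one_mem _)
        simpa using h1
      have hno : t ∉ T := by
        intro h1
        have h2 := htT h1
        apply hv1
        apply E_inj
        rw [← hfv, h2, h.f_t]
      by_cases hwi : w i = w j
      · have hwcc : ∀ k, w k = w j := by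
          intro k
          by_cases hk : k = i
          · rw [hk, hwi]
          · exact hwc k j hk hj
        rcases zmod2 (w j) with h0 | h0
        · left
          apply h.eq_one_of_f huC huu
          rw [hfu, ← E_zero]
          congr 1
          ext1 k
          rw [hwcc k, h0]; rfl
        · exfalso
          apply hno
          have h1 : u = t := by
            apply h.eq_of_f huC h.t_mem huu h.tt (mem_Ce.1 huC)
            rw [hfu, h.f_t]
            congr 1
            ext1 k
            rw [hwcc k, h0]; rfl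
          rw [← h1]; exact hu
      · have hwz := zmod2_ne hwi
        have hvz := zmod2_ne (Ne.symm (hi j hj))
        by_cases hwv : w i = v i
        · right
          apply h.eq_of_f huC hxC huu hxx hux
          rw [hfu, hfv]
          congr 1
          ext1 k
          by_cases hk : k = i
          · rw [hk, hwv]
          · rw [hwc k j hk hj, hconst k j hk hj, hwz, hvz, hwv]
        · exfalso
          apply hno
          have hwv' := zmod2_ne (Ne.symm hwv)
          have hxt : x * t = t * x := mem_Ce.1 hxC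
          have h1 : u = x * t := by
            apply h.eq_of_f huC (mul_mem hxC h.t_mem) huu
            · calc x * t * (x * t) = x * (t * x) * t := by group
                _ = x * (x * t) * t := by rw [hxt]
                _ = (x * x) * (t * t) := by group
                _ = 1 := by rw [hxx, h.tt, one_mul]
            · rw [← mul_assoc, hux, mul_assoc, mem_Ce.1 huC, ← mul_assoc]
            · rw [hfu, h.mul _ hxC _ h.t_mem, hfv, h.f_t, E_mul]
              congr 1
              ext1 k
              show w k = v k + 1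
              by_cases hk : k = i
              · rw [hk, hwv']
              · rw [hwc k j hk hj, hconst k j hk hj, hwz, hvz, hwv']
          have h2 : t = x * u := by
            rw [h1, ← mul_assoc, hxx, one_mul]
          rw [h2]
          exact mul_mem hx hu
    -- the Sylow 2-subgroup of `T`
    have hTN : (T.subgroupOf N).Normal := by
      refine ⟨fun y hy g => ?_⟩
      rw [mem_subgroupOf] at hy ⊢
      exact hT.norm g g.2 _ hy
    have hpf : Fact (Nat.Prime 2) := ⟨Nat.prime_two⟩
    -- `S ∩ N` is a Sylow subgroup of `N`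
    have hidx := TwoFusion.TransferIndex.not_dvd_relIndex_inf S N
    have hSN : IsPGroup 2 ((N ⊓ (S : Subgroup G)).subgroupOf N) := by
      have h1 : IsPGroup 2 (N ⊓ (S : Subgroup G) : Subgroup G) := S.2.to_le inf_le_right
      exact h1.of_equiv (Subgroup.subgroupOfEquivOfLe inf_le_left).symm
    let SN : Sylow 2 N := hSN.toSylow hidx
    have hidx2 := TwoFusion.TransferIndex.not_dvd_relIndex_inf SN (T.subgroupOf N)
    -- the order of `T`
    have hR : ((T.subgroupOf N) ⊓ (SN : Subgroup N)).relIndex (T.subgroupOf N) *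
        Nat.card ↥((T.subgroupOf N) ⊓ (SN : Subgroup N)) = Nat.card T := by
      have h1 := Subgroup.relIndex_mul_relIndex (⊥ : Subgroup N) ((T.subgroupOf N) ⊓ (SN : Subgroup N))
        (T.subgroupOf N) bot_le inf_le_left
      rw [relIndex_bot_left, relIndex_bot_left] at h1
      rw [mul_comm, h1]
      exact Nat.card_congr (Subgroup.subgroupOfEquivOfLe hT.le).toEquiv
    have hRcard : Nat.card ↥((T.subgroupOf N) ⊓ (SN : Subgroup N)) ≤ 2 := by
      have hsub : ((T.subgroupOf N) ⊓ (SN : Subgroup N) : Set N) ⊆ {1, ⟨x, hT.le hx⟩} := by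
        rintro ⟨y, hyN⟩ ⟨hy1, hy2⟩
        have hyT : y ∈ T := mem_subgroupOf.1 hy1
        have hyS : y ∈ (S : Subgroup G) := by
          have h1 : (⟨y, hyN⟩ : N) ∈ (N ⊓ (S : Subgroup G)).subgroupOf N := hy2
          exact (mem_inf.1 (mem_subgroupOf.1 h1)).2
        rcases hU y hyT hyS with h1 | h1
        · left; exact Subtype.ext h1
        · right; exact Subtype.ext h1
      have h1 := Set.ncard_le_ncard hsub (Set.toFinite _)
      have h2 : ({1, ⟨x, hT.le hx⟩} : Set N).ncard ≤ 2 := Set.ncard_insert_le _ _ |>.trans (by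
        rw [Set.ncard_singleton])
      have h3 : Nat.card ↥((T.subgroupOf N) ⊓ (SN : Subgroup N)) =
          ((T.subgroupOf N) ⊓ (SN : Subgroup N) : Set N).ncard := rfl
      omega
    have hTodd : ∃ m, Odd m ∧ Nat.card T = 2 * m := by
      have h2T : 2 ∣ Nat.card T := by
        have h1 : orderOf (⟨x, hx⟩ : T) = 2 := orderOf_eq_prime (Subtype.ext (by
          show x ^ 2 = 1
          rw [pow_two, hxx])) (fun h => hx1 (congrArg Subtype.val h))
        rw [← h1]
        exact orderOf_dvd_natCard _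
      have hpos : 0 < Nat.card ↥((T.subgroupOf N) ⊓ (SN : Subgroup N)) := Nat.card_pos
      have hodd : Odd (((T.subgroupOf N) ⊓ (SN : Subgroup N)).relIndex (T.subgroupOf N)) := by
        rw [← Nat.not_even_iff_odd, even_iff_two_dvd]
        exact hidx2
      have hc12 : Nat.card ↥((T.subgroupOf N) ⊓ (SN : Subgroup N)) = 1 ∨
          Nat.card ↥((T.subgroupOf N) ⊓ (SN : Subgroup N)) = 2 := by omega
      rcases hc12 with h1 | h1
      · exfalso
        rw [h1, mul_one] at hR
        rw [← hR] at h2T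
        exact hidx2 h2T
      · refine ⟨_, hodd, ?_⟩
        rw [← hR, h1, mul_comm]
    obtain ⟨m, hm, hTm⟩ := hTodd
    obtain ⟨φ, hφ⟩ := Classification.TransferSign.exists_hom_neg_one_of_index (⊥ : Subgroup T) m hm
      (by rw [Subgroup.index_bot]; exact hTm) ⟨x, hx⟩ (orderOf_eq_prime (Subtype.ext (by
          show x ^ 2 = 1
          rw [pow_two, hxx])) (fun h => hx1 (congrArg Subtype.val h))) (by
        intro g hg
        rw [mem_bot] at hg
        apply hx1
        have h2 : (⟨x, hx⟩ : T) = g⁻¹ * (g * ⟨x, hx⟩ * g⁻¹) * g := by group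
        rw [hg] at h2
        have h3 : (⟨x, hx⟩ : T) = 1 := by rw [h2]; group
        exact congrArg Subtype.val h3)
    -- the kernel is trivial
    have hker : φ.ker.map T.subtype = ⊥ := by
      rcases hT.simple (φ.ker.map T.subtype) (map_subtype_le _) (by
        rintro u hu _ ⟨k, hk, rfl⟩
        exact ⟨(⟨u, hu⟩ * k * ⟨u, hu⟩⁻¹ :), φ.normal_ker.conj_mem k hk _, rfl⟩) with h1 | h1
      · exact h1
      · exfalso
        have hx' := hx
        rw [← h1] at hx'
        obtain ⟨k, hk, hkx⟩ := hx'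
        have h3 : φ k = -1 := by
          rw [← hφ]
          exact congrArg φ (Subtype.ext hkx)
        have h4 : φ k = 1 := hk
        rw [h4] at h3
        exact absurd h3 (by decide)
    apply hx1
    apply hT.centerless x hx
    intro u hu
    have h1 : (⟨x, hx⟩ : T) * ⟨u, hu⟩ * (⟨u, hu⟩ * ⟨x, hx⟩)⁻¹ ∈ φ.ker := by
      rw [MonoidHom.mem_ker, map_mul, map_inv, map_mul, map_mul, mul_comm (φ ⟨x, hx⟩), mul_inv_cancel]
    have h2 : x * u * (u * x)⁻¹ ∈ φ.ker.map T.subtype := ⟨_, h1, rfl⟩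
    rw [hker, mem_bot] at h2
    exact mul_inv_eq_one.1 h2

/-- **The minimal normal subgroup is simple and contains `t`.** -/
theorem simple (hO : Cfsg.pPrimeCore 2 G = ⊥) (h2 : ∀ φ : G →* ℤˣ, ∀ x, φ x = 1) :
    ∃ N : Subgroup G, N.Normal ∧ IsSimpleGroup N ∧ (¬ ∀ a b : N, a * b = b * a) ∧ t ∈ N ∧
      centralizer (N : Set G) = ⊥ := by
  have hnt : Nontrivial G := ⟨t, 1, h.ne⟩
  obtain ⟨N, hN, hN0, hmin⟩ := exists_min_normal (G := G)
  have htN : t ∈ N := h.mem_of_normal S hS hO hN hN0
  have hna : ¬ ∀ x ∈ N, ∀ y ∈ N, Commute x y := by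
    intro hab
    let M : Subgroup G :=
      { carrier := {x | x ∈ N ∧ x * x = 1}
        mul_mem' := by
          rintro x y ⟨hx1, hx2⟩ ⟨hy1, hy2⟩
          refine ⟨mul_mem hx1 hy1, ?_⟩
          have := (hab x hx1 y hy1).eq
          calc x * y * (x * y) = x * (y * x) * y := by group
            _ = x * (x * y) * y := by rw [this]
            _ = (x * x) * (y * y) := by group
            _ = 1 := by rw [hx2, hy2, one_mul]
        one_mem' := ⟨one_mem _, one_mul _⟩
        inv_mem' := by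
          rintro x ⟨hx1, hx2⟩
          refine ⟨inv_mem hx1, ?_⟩
          rw [← mul_inv_rev, hx2, inv_one] }
    have hM : M.Normal := by
      refine ⟨?_⟩
      rintro x ⟨hx1, hx2⟩ g
      refine ⟨hN.conj_mem x hx1 g, ?_⟩
      calc g * x * g⁻¹ * (g * x * g⁻¹) = g * (x * x) * g⁻¹ := by group
        _ = 1 := by rw [hx2]; group
    have hMp : IsPGroup 2 M := by
      rintro ⟨x, hx1, hx2⟩
      refine ⟨1, Subtype.ext ?_⟩
      show x ^ 2 ^ 1 = 1
      rw [pow_one, pow_two]
      exact hx2
    refine h.not_two S hS h2 hM hMp ?_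
    intro h1
    have h3 : t ∈ M := ⟨htN, h.tt⟩
    rw [h1, mem_bot] at h3
    exact h.ne h3
  obtain ⟨T, hF⟩ := exists_factor N hmin hna
  have hT : Fac N T := ⟨hF.le, hF.ne_bot, hF.simple, hF.centerless, hF.norm⟩
  obtain ⟨x, hx, c, hcN, hcT, htx⟩ := hF.split t htN
  have hxt := h.part_eq S hS hN hF hx hcN hcT htx
  have htT : t ∈ T := by rw [← hxt]; exact hx
  have hTn : T.Normal := by
    refine ⟨fun u hu g => ?_⟩
    rcases hF.conj g with h1 | h1
    · exact h1 u hu
    · exfalso
      refine h.not_comm hN (hT.conj hN g) ?_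
      rintro _ ⟨y, hy, rfl⟩
      exact (h1 t htT y hy).symm
  have hNT : N = T := by
    rcases hmin T hTn hF.le with h1 | h1
    · exact absurd h1 hF.ne_bot
    · exact h1.symm
  subst hNT
  refine ⟨N, hN, ?_, ?_, htN, ?_⟩
  · have hnN : Nontrivial N := (Subgroup.nontrivial_iff_ne_bot N).2 hN0
    refine ⟨fun H hH => ?_⟩
    rcases hT.simple (H.map N.subtype) (map_subtype_le _) (by
        rintro u hu _ ⟨k, hk, rfl⟩
        exact ⟨(⟨u, hu⟩ * k * ⟨u, hu⟩⁻¹ :), hH.conj_mem k hk _, rfl⟩) with h1 | h1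
    · left
      exact (Subgroup.map_eq_bot_iff_of_injective _ N.subtype_injective).1 h1
    · right
      rw [eq_top_iff]
      intro y _
      have h3 : (y : G) ∈ H.map N.subtype := by rw [h1]; exact y.2
      obtain ⟨k, hk, hky⟩ := h3
      have : k = y := Subtype.ext hky
      rw [← this]; exact hk
  · intro hab
    exact hna fun x hx y hy => congrArg Subtype.val (hab ⟨x, hx⟩ ⟨y, hy⟩)
  · by_contra hne
    have hCn : (centralizer (N : Set G)).Normal := inferInstance
    have h1 := h.mem_of_normal S hS hO hCn hne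
    apply h.ne
    apply hT.centerless t htN
    intro u hu
    exact (mem_centralizer_iff.1 h1 u hu).symm

end Sit

end Cfsg.Agent.H217.Red
end

-- part: H217/Act
section
/-!
# The action of the signed permutations and centralizers of involutions of symmetric groups (helper217, S3191)
-/

set_option autoImplicit false

namespace Cfsg.Agent.H217.Act

open Equiv Cfsg.Agent.H217.SP

section act
variable {ι : Type*}

/-- the flip -/
def fl (ι : Type*) : Perm (ι × ZMod 2) where
  toFun p := (p.1, p.2 + 1)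
  invFun p := (p.1, p.2 + 1)
  left_inv p := by
    ext1
    · rfl
    · show p.2 + 1 + 1 = p.2
      rw [add_assoc, CharTwo.add_self_eq_zero, add_zero]
  right_inv p := by
    ext1
    · rfl
    · show p.2 + 1 + 1 = p.2
      rw [add_assoc, CharTwo.add_self_eq_zero, add_zero]

/-- the action -/
def act (ι : Type*) : W ι →* Perm (ι × ZMod 2) where
  toFun a :=
    { toFun := fun p => (a.s p.1, p.2 + a.v (a.s p.1))
      invFun := fun p => (a.s.symm p.1, p.2 + a.v p.1)
      left_inv := by
        intro p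
        ext1
        · show a.s.symm (a.s p.1) = p.1
          rw [symm_apply_apply]
        · show p.2 + a.v (a.s p.1) + a.v (a.s p.1) = p.2
          rw [add_assoc, CharTwo.add_self_eq_zero, add_zero]
      right_inv := by
        intro p
        ext1
        · show a.s (a.s.symm p.1) = p.1
          rw [apply_symm_apply]
        · show p.2 + a.v p.1 + a.v (a.s (a.s.symm p.1)) = p.2
          rw [apply_symm_apply, add_assoc, CharTwo.add_self_eq_zero, add_zero] }
  map_one' := by
    ext p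
    · rfl
    · show p.2 + 0 = p.2
      rw [add_zero]
  map_mul' := by
    intro a b
    ext p
    · rfl
    · show p.2 + (a.v (a.s (b.s p.1)) + b.v (a.s.symm (a.s (b.s p.1)))) = p.2 + b.v (b.s p.1) + a.v (a.s (b.s p.1))
      rw [symm_apply_apply]
      abel

theorem act_apply (a : W ι) (i : ι) (x : ZMod 2) : act ι a (i, x) = (a.s i, x + a.v (a.s i)) := rfl

theorem act_inj : Function.Injective (act ι) := by
  rw [injective_iff_map_eq_one]
  intro a ha
  have h1 : ∀ i, a.s i = i ∧ a.v (a.s i) = 0 := by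
    intro i
    have h2 : act ι a (i, 0) = (i, 0) := by rw [ha]; rfl
    rw [act_apply, zero_add] at h2
    exact ⟨congrArg Prod.fst h2, congrArg Prod.snd h2⟩
  ext i
  · have h2 := h1 i
    show a.v i = 0
    rw [h2.1] at h2
    exact h2.2
  · exact (h1 i).1

theorem fl_comm (a : W ι) : act ι a * fl ι = fl ι * act ι a := by
  ext p
  · rfl
  · show p.2 + 1 + a.v (a.s p.1) = p.2 + a.v (a.s p.1) + 1
    rw [add_right_comm]

/-- permutations commuting with the flip -/
theorem exists_act {σ : Perm (ι × ZMod 2)} (h : σ * fl ι = fl ι * σ) : ∃ a, act ι a = σ := by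
  have h1 : ∀ τ : Perm (ι × ZMod 2), τ * fl ι = fl ι * τ → ∀ i x, τ (i, x + 1) = ((τ (i, x)).1, (τ (i, x)).2 + 1) := by
    intro τ hτ i x
    have h2 := congrFun (congrArg (fun f : Perm (ι × ZMod 2) => ⇑f) hτ) (i, x)
    exact h2
  have h2 : ∀ τ : Perm (ι × ZMod 2), τ * fl ι = fl ι * τ → ∀ i x, τ (i, x) = ((τ (i, 0)).1, (τ (i, 0)).2 + x) := by
    intro τ hτ i x
    rcases zmod2 x with rfl | rfl
    · rw [add_zero]
    · have h3 := h1 τ hτ i 0
      rw [zero_add] at h3
      exact h3
  have h' : σ⁻¹ * fl ι = fl ι * σ⁻¹ := by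
    rw [inv_mul_eq_iff_eq_mul, ← mul_assoc, h, mul_inv_cancel_right]
  let s : Perm ι :=
    { toFun := fun i => (σ (i, 0)).1
      invFun := fun i => (σ⁻¹ (i, 0)).1
      left_inv := by
        intro i
        have h3 := h2 σ⁻¹ h' (σ (i, 0)).1 (σ (i, 0)).2
        have h4 : σ⁻¹ ((σ (i, 0)).1, (σ (i, 0)).2) = (i, 0) := by
          show σ⁻¹ (σ (i, 0)) = (i, 0)
          exact σ.symm_apply_apply _
        rw [h4] at h3
        exact (congrArg Prod.fst h3).symm
      right_inv := by
        intro i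
        have h3 := h2 σ h (σ⁻¹ (i, 0)).1 (σ⁻¹ (i, 0)).2
        have h4 : σ ((σ⁻¹ (i, 0)).1, (σ⁻¹ (i, 0)).2) = (i, 0) := by
          show σ (σ⁻¹ (i, 0)) = (i, 0)
          exact σ.apply_symm_apply _
        rw [h4] at h3
        exact (congrArg Prod.fst h3).symm }
  refine ⟨⟨fun k => (σ (s.symm k, 0)).2, s⟩, ?_⟩
  apply Equiv.ext
  rintro ⟨i, x⟩
  rw [act_apply, h2 σ h i x]
  ext1
  · rfl
  · show x + (σ (s.symm (s i), 0)).2 = (σ (i, 0)).2 + x
    rw [symm_apply_apply, add_comm]

variable (ι) (r : ℕ)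

/-- the standard involution -/
def al : Perm ((ι × ZMod 2) ⊕ Fin r) := Equiv.sumCongr (fl ι) (Equiv.refl (Fin r))

/-- the centralizer of the standard involution -/
def Phi : W ι × Perm (Fin r) →* Perm ((ι × ZMod 2) ⊕ Fin r) :=
  (Perm.sumCongrHom (ι × ZMod 2) (Fin r)).comp (MonoidHom.prodMap (act ι) (MonoidHom.id (Perm (Fin r))))

theorem Phi_apply (a : W ι) (b : Perm (Fin r)) : Phi ι r (a, b) = Equiv.sumCongr (act ι a) b := rfl

theorem Phi_inj : Function.Injective (Phi ι r) := by
  refine (Perm.sumCongrHom_injective).comp ?_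
  rintro ⟨a, b⟩ ⟨a', b'⟩ h
  have h1 : act ι a = act ι a' := congrArg Prod.fst h
  have h2 : b = b' := congrArg Prod.snd h
  rw [act_inj h1, h2]

variable {ι r}

theorem al_comm (p : W ι × Perm (Fin r)) : Phi ι r p * al ι r = al ι r * Phi ι r p := by
  obtain ⟨a, b⟩ := p
  rw [Phi_apply]
  apply Equiv.ext
  rintro (x | x)
  · have h1 := congrFun (congrArg (fun f : Perm (ι × ZMod 2) => ⇑f) (fl_comm a)) x
    exact congrArg Sum.inl h1
  · rfl

theorem exists_Phi {σ : Perm ((ι × ZMod 2) ⊕ Fin r)} (h : σ * al ι r = al ι r * σ) [Finite ι] : ∃ p, Phi ι r p = σ := by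
  have hf := Fintype.ofFinite ι
  have h0 : ∀ x, σ (al ι r x) = al ι r (σ x) := fun x => congrFun (congrArg (fun f : Perm _ => ⇑f) h) x
  have h1 : Set.MapsTo σ (Set.range Sum.inl) (Set.range Sum.inl) := by
    rintro _ ⟨p, rfl⟩
    rcases hq : σ (Sum.inl p) with q | q
    · exact ⟨q, rfl⟩
    · exfalso
      have h2 := h0 (Sum.inl p)
      rw [hq] at h2
      have h3 : al ι r (Sum.inr q) = Sum.inr q := rfl
      rw [h3, ← hq] at h2
      have h4 := σ.injective h2
      have h5 : al ι r (Sum.inl p) = Sum.inl (p.1, p.2 + 1) := rfl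
      rw [h5] at h4
      have h6 := congrArg Prod.snd (Sum.inl.inj h4)
      have h7 : p.2 + 1 = p.2 := h6
      exact absurd (add_eq_left.1 h7) (by decide)
  obtain ⟨⟨a, b⟩, hab⟩ := Perm.mem_sumCongrHom_range_of_perm_mapsTo_inl h1
  have h2 : Equiv.sumCongr a b = σ := hab
  have h3 : a * fl ι = fl ι * a := by
    apply Equiv.ext
    intro x
    have h4 := h0 (Sum.inl x)
    rw [← h2] at h4
    exact Sum.inl.inj h4
  obtain ⟨w, hw⟩ := exists_act h3
  exact ⟨(w, b), by rw [Phi_apply, hw, h2]⟩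

end act

section conj
variable {X : Type*} [Fintype X] [DecidableEq X]

/-- involutions moving the same number of points are conjugate -/
theorem isConj_of_support {σ τ : Perm X} (hσ : orderOf σ = 2) (hτ : orderOf τ = 2)
    (h : σ.support.card = τ.support.card) : IsConj σ τ := by
  rw [Perm.isConj_iff_cycleType_eq]
  obtain ⟨k, hk⟩ := Perm.cycleType_prime_order (σ := σ) (by rw [hσ]; exact Nat.prime_two)
  obtain ⟨l, hl⟩ := Perm.cycleType_prime_order (σ := τ) (by rw [hτ]; exact Nat.prime_two)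
  have h1 := σ.sum_cycleType
  have h2 := τ.sum_cycleType
  rw [hk, Multiset.sum_replicate, hσ] at h1
  rw [hl, Multiset.sum_replicate, hτ] at h2
  rw [hk, hl, hσ, hτ]
  congr 1
  simp only [smul_eq_mul] at h1 h2
  omega

end conj

section main
variable {ι : Type*} [Fintype ι] [DecidableEq ι] {r : ℕ}

theorem orderOf_al (h : Nonempty ι) : orderOf (al ι r) = 2 := by
  obtain ⟨i⟩ := h
  apply orderOf_eq_prime
  · apply Equiv.ext
    rintro (⟨j, x⟩ | x)
    · show Sum.inl (j, x + 1 + 1) = Sum.inl (j, x)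
      rw [add_assoc, CharTwo.add_self_eq_zero, add_zero]
    · rfl
  · intro h
    have h1 := congrFun (congrArg (fun f : Perm ((ι × ZMod 2) ⊕ Fin r) => ⇑f) h) (Sum.inl (i, 0))
    have h2 : (Sum.inl (i, (0 : ZMod 2) + 1) : (ι × ZMod 2) ⊕ Fin r) = Sum.inl (i, 0) := h1
    have h3 : (0 : ZMod 2) + 1 = 0 := congrArg Prod.snd (Sum.inl.inj h2)
    exact absurd h3 (by decide)

theorem support_al : (al ι r).support.card = 2 * Fintype.card ι := by
  have h1 : (al ι r).support = (Finset.univ : Finset (ι × ZMod 2)).map ⟨Sum.inl, Sum.inl_injective⟩ := by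
    ext x
    rw [Perm.mem_support, Finset.mem_map]
    rcases x with ⟨j, x⟩ | x
    · constructor
      · intro _
        exact ⟨(j, x), Finset.mem_univ _, rfl⟩
      · intro _ h
        have h2 : (Sum.inl (j, x + 1) : (ι × ZMod 2) ⊕ Fin r) = Sum.inl (j, x) := h
        have h3 : x + 1 = x := congrArg Prod.snd (Sum.inl.inj h2)
        exact absurd (add_eq_left.1 h3) (by decide)
    · constructor
      · intro h
        exact absurd rfl h
      · rintro ⟨y, _, hy⟩
        exact absurd hy (by simp)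
  rw [h1, Finset.card_map, Finset.card_univ, Fintype.card_prod, ZMod.card, mul_comm]

end main

end Cfsg.Agent.H217.Act
end

-- part: H217/Prof
section
/-!
# The profile of the simple normal subgroup (helper217, S3191)
-/

set_option autoImplicit false

namespace Cfsg.Agent.H217.Pf

open Subgroup Cfsg Cfsg.Agent.H217.SP Cfsg.Agent.H217.Red Cfsg.Agent.H217.Act

universe u

/-- the properties of the simple group `N` and its involution `t` -/
structure Prof (n j : ℕ) (N : Type u) [Group N] (t : N) : Prop where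
  ne : t ≠ 1
  tt : t * t = 1
  odd : ¬ 2 ∣ (centralizer ({t} : Set N)).index
  card : ∃ c, (c = 1 ∨ c = 3) ∧
    Nat.card (centralizer ({t} : Set N)) * 2 ^ j = c * (2 ^ (2 * n) * (2 * n).factorial)
  comp : ∀ K : Subgroup (centralizer ({t} : Set N)), ¬ IsComponent K
  nonsolv : ¬ Group.IsSolvable (centralizer ({t} : Set N))
  ab : ∀ R : Subgroup (centralizer ({t} : Set N)), R.Normal → IsPGroup 2 R → ∀ x ∈ R, ∀ y ∈ R, x * y = y * x
  rank : ∀ A : Subgroup N, (∀ x ∈ A, x * x = 1) → Nat.card A ≤ 2 ^ (2 * n)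
  hj : j = 0 ∨ j = 2
  out : j = 2 → ∃ Q : Subgroup (Cfsg.Out N), 4 ∣ Nat.card Q ∧ ∀ φ : Q →* ℤˣ, ∀ x, φ x = 1

/-- **No component**: a solvable normal subgroup containing its centralizer -/
theorem no_comp {D : Type*} [Group D] [Finite D] (R : Subgroup D) (hR : R.Normal) (hs : Group.IsSolvable R)
    (hc : ∀ d : D, (∀ r ∈ R, d * r = r * d) → d ∈ R) (K : Subgroup D) : ¬ IsComponent K := by
  intro hK
  have h1 := SignalizersComponents.Components.component_commutator_solvable hK (H := R)
    (by rw [normalizer_eq_top_iff.2 hR]; exact le_top) hs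
  rw [commutator_eq_bot_iff_le_centralizer] at h1
  have h2 : K ≤ R := fun k hk => hc k fun r hr => (mem_centralizer_iff.1 (h1 hk) r hr).symm
  apply SignalizersComponents.Components.quasisimple_not_isSolvable hK.2
  exact Group.isSolvable_of_isSolvable_injective (f := Subgroup.inclusion h2) (Subgroup.inclusion_injective h2)

/-- the action of the elementary abelian subgroups -/
theorem rank_W {ι : Type*} [Fintype ι] [DecidableEq ι] (A : Subgroup (W ι)) (hA : ∀ x ∈ A, x * x = 1) :
    Nat.card A ≤ 2 ^ Fintype.card ι := by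
  have h1 := Omega.TwoF.AltRk.card_le (A.map (act ι)) (by
    rintro _ ⟨x, hx, rfl⟩
    rw [← map_mul, hA x hx, map_one])
  rw [Nat.card_congr (A.equivMapOfInjective (act ι) act_inj).toEquiv]
  rw [Fintype.card_prod, ZMod.card, Nat.mul_div_cancel _ (by norm_num)] at h1
  exact h1

/-- the alternating group in a subgroup containing `Winf` -/
theorem not_solvable {ι : Type*} [Fintype ι] [DecidableEq ι] (h5 : 5 ≤ Fintype.card ι) {K : Subgroup (W ι)}
    (hK : Winf ι ≤ K) : ¬ Group.IsSolvable K := by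
  intro hs
  let φ : alternatingGroup ι →* K :=
    { toFun := fun σ => ⟨P (σ : Equiv.Perm ι), hK (P_mem_Winf (Equiv.Perm.mem_alternatingGroup.1 σ.2))⟩
      map_one' := rfl
      map_mul' := fun σ τ => Subtype.ext (P_mul _ _).symm }
  have hφ : Function.Injective φ := by
    intro σ τ h
    have h1 : P (σ : Equiv.Perm ι) = P (τ : Equiv.Perm ι) := congrArg Subtype.val h
    exact Subtype.ext (congrArg W.s h1)
  have h1 : Group.IsSolvable (alternatingGroup ι) := Group.isSolvable_of_isSolvable_injective hφ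
  have h2 : Group.IsSolvable (Equiv.Perm ι) := by
    refine Group.isSolvable_of_ker_le_range (alternatingGroup ι).subtype (Equiv.Perm.sign (α := ι)) ?_
    rw [Subgroup.range_subtype]
    exact le_rfl
  exact Equiv.Perm.not_isSolvable ι (by
    rw [Cardinal.mk_fintype]
    exact_mod_cast h5) h2

/-- a quotient of even order not divisible by four -/
theorem exists_hom {Q : Type*} [Group Q] [Finite Q] (h2 : 2 ∣ Nat.card Q) (h4 : ¬ 4 ∣ Nat.card Q) :
    ∃ φ : Q →* ℤˣ, ∃ x, φ x ≠ 1 := by
  obtain ⟨x, hx⟩ := exists_prime_orderOf_dvd_card' 2 h2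
  obtain ⟨m, hm⟩ := h2
  have hmo : Odd m := by
    rw [← Nat.not_even_iff_odd, even_iff_two_dvd]
    rintro ⟨k, hk⟩
    exact h4 ⟨k, by rw [hm, hk]; ring⟩
  obtain ⟨φ, hφ⟩ := Classification.TransferSign.exists_hom_neg_one_of_index (⊥ : Subgroup Q) m hmo
    (by rw [Subgroup.index_bot]; exact hm) x hx (by
      intro g hg
      rw [mem_bot] at hg
      have h3 : x = 1 := by
        have h2 : x = g⁻¹ * (g * x * g⁻¹) * g := by group
        rw [h2, hg]; group
      rw [h3, orderOf_one] at hx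
      exact absurd hx (by norm_num))
  exact ⟨φ, x, by rw [hφ]; decide⟩

section main
variable {G : Type u} [Group G] [Finite G] {ι : Type*} [Fintype ι] [DecidableEq ι] {t : G} {f : G → W ι}

/-- the image of a normal subgroup with solvable quotient -/
theorem inf_le (h : Sit t f) {N : Subgroup G} [hN : N.Normal] (hs : Group.IsSolvable (G ⧸ N)) :
    Winf ι ≤ h.img N := by
  have hsix := h.six
  rcases h.img_cases hN with h1 | h1
  · exfalso
    let φ : ↥(Ce t) →* Equiv.Perm ι :=
      { toFun := fun g => (f g).s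
        map_one' := by
          show (f 1).s = 1
          rw [h.one]; rfl
        map_mul' := fun g k => by
          show (f (g * k)).s = (f g).s * (f k).s
          rw [h.mul _ g.2 _ k.2]; rfl }
    let π : ↥(Ce t) →* G ⧸ N := (QuotientGroup.mk' N).comp (Ce t).subtype
    have hle : π.ker ≤ φ.ker := by
      intro g hg
      have h2 : (g : G) ∈ N := (QuotientGroup.eq_one_iff (g : G)).1 hg
      exact h1 g h2 g.2
    have h3 : Group.IsSolvable (↥(Ce t) ⧸ π.ker) :=
      Group.isSolvable_of_isSolvable_injective (QuotientGroup.kerLift_injective π)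
    have h4 : Function.Surjective (QuotientGroup.lift π.ker φ hle) := by
      intro σ
      obtain ⟨g, hg, hgf⟩ := h.surj (P σ)
      refine ⟨QuotientGroup.mk ⟨g, hg⟩, ?_⟩
      show (f g).s = σ
      rw [hgf]; rfl
    have h5 : Group.IsSolvable (Equiv.Perm ι) := Group.isSolvable_of_surjective h4
    refine Equiv.Perm.not_isSolvable ι ?_ h5
    rw [Cardinal.mk_fintype]
    exact_mod_cast (by omega : 5 ≤ Fintype.card ι)
  · exact h1

end main

end Cfsg.Agent.H217.Pf
end

private theorem dce_7c32dddfca2a : _root_.True := by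
  try have : _root_.True := by simp only [_root_.Cfsg.Agent.H217.SP.e.congr_simp]
  exact _root_.True.intro
end

-- part: H313/AltCard
section
prune_inst 0x400000000092200000000001000002060580001020063000010000e000a07114100028f0074a02f0011020220400a004810000049000000002000020040000521002b20e21034010821000000e803180c00000000000000000000000000041000000000000
set_option linter.all false
open scoped Cfsg.Agent.FastGrp

-- part: H313/AltFr
section
/-!
# Centralizers of involutions in alternating groups: the frame (helper313)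
-/

set_option autoImplicit false
set_option linter.unusedSectionVars false

namespace Cfsg.Agent.H313.Alt

open Equiv Equiv.Perm Subgroup

/-- The facts on the centralizer `C` of an involution `z` of an alternating group with at least six fixed points:
`A` is the alternating group on the fixed points, `S` its centralizer. -/
structure Fr (C : Type*) [Group C] (z : C) (A S E : Subgroup C) : Prop where
  ne : z ≠ 1
  sq : z * z = 1
  cen : ∀ x, x * z = z * x
  memS : z ∈ S
  An : A.Normal
  simple : IsSimpleGroup A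
  na : ∃ a ∈ A, ∃ b ∈ A, a * b ≠ b * a
  cenA : ∀ x, x ∈ S ↔ ∀ a ∈ A, x * a = a * x
  umin : ∀ N : Subgroup C, N.Normal → N ≤ S → N ≠ ⊥ → z ∈ N
  abel : ∀ N : Subgroup C, N.Normal → N ≤ S → ∀ y ∈ N, y ≠ 1 → y ≠ z → (∀ n ∈ N, n * y = y * n) →
    ∀ n ∈ N, n * n = 1
  En : E.Normal
  ES : E ≤ S
  Esq : ∀ x ∈ E, x * x = 1
  self : ∀ x ∈ S, (∀ e ∈ E, x * e = e * x) → x ∈ E
  odd : ∃ c : C, c * c = 1 ∧ ∀ a ∈ A, c * a ∉ S
  cm : ∃ a b : C, a * a = 1 ∧ b * b = 1 ∧ a * b * a⁻¹ * b⁻¹ ∈ S ∧ a * b * a⁻¹ * b⁻¹ ≠ 1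
  rich : ∀ u ∈ A, u ≠ 1 → u * u = 1 → ∃ x ∈ A, x * u = u * x ∧ x * x ≠ 1

variable {Ω : Type*} [DecidableEq Ω] [Fintype Ω] {s : Perm Ω}

/-- the alternating group on the fixed points -/
def AA (s : Perm Ω) : Subgroup ↥(CC s) where
  carrier := {c | ∀ x, s x ≠ x → (c : Perm Ω) x = x}
  one_mem' := fun x _ => rfl
  mul_mem' := by
    intro a b ha hb x hx
    rw [Subgroup.coe_mul, Perm.mul_apply, hb x hx, ha x hx]
  inv_mem' := by
    intro a ha x hx
    rw [Subgroup.coe_inv, Perm.inv_eq_iff_eq]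
    exact (ha x hx).symm

/-- the elements trivial on the fixed points -/
def SS (s : Perm Ω) : Subgroup ↥(CC s) where
  carrier := {c | ∀ x, s x = x → (c : Perm Ω) x = x}
  one_mem' := fun x _ => rfl
  mul_mem' := by
    intro a b ha hb x hx
    rw [Subgroup.coe_mul, Perm.mul_apply, hb x hx, ha x hx]
  inv_mem' := by
    intro a ha x hx
    rw [Subgroup.coe_inv, Perm.inv_eq_iff_eq]
    exact (ha x hx).symm

theorem app_inv (g : Perm Ω) (x : Ω) : g (g⁻¹ x) = x := by simp

theorem comm_of_mem (c : ↥(CC s)) : (c : Perm Ω) * s = s * c := (mem_CC.1 c.2).1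

/-- the even part of the base group -/
def EE (hs : s * s = 1) : Subgroup ↥(CC s) where
  carrier := {c | ∀ x, (c : Perm Ω) x = x ∨ (c : Perm Ω) x = s x}
  one_mem' := fun x => Or.inl rfl
  mul_mem' := by
    intro a b ha hb x
    rw [Subgroup.coe_mul, Perm.mul_apply]
    rcases hb x with e | e
    · rw [e]; exact ha x
    · rw [e, app_comm (comm_of_mem a)]
      rcases ha x with e1 | e1
      · right; rw [e1]
      · left; rw [e1, ss hs]
  inv_mem' := by
    intro a ha x
    rw [Subgroup.coe_inv, Perm.inv_eq_iff_eq, Perm.inv_eq_iff_eq, app_comm (comm_of_mem a)]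
    rcases ha x with e | e
    · left; exact e.symm
    · right; rw [e, ss hs]

theorem fix_iff (c : ↥(CC s)) {x : Ω} : s ((c : Perm Ω) x) = (c : Perm Ω) x ↔ s x = x := by
  rw [← app_comm (comm_of_mem c)]
  exact ⟨fun h => (c : Perm Ω).injective h, fun h => by rw [h]⟩

theorem AA_normal : (AA s).Normal := by
  constructor
  intro n hn g x hx
  have h1 : s (((g⁻¹ : ↥(CC s)) : Perm Ω) x) ≠ ((g⁻¹ : ↥(CC s)) : Perm Ω) x := fun e => hx ((fix_iff g⁻¹).1 e)
  have h2 := hn _ h1
  rw [Subgroup.coe_mul, Subgroup.coe_mul, Perm.mul_apply, Perm.mul_apply, h2, Subgroup.coe_inv, app_inv]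

theorem SS_normal : (SS s).Normal := by
  constructor
  intro n hn g x hx
  have h1 : s (((g⁻¹ : ↥(CC s)) : Perm Ω) x) = ((g⁻¹ : ↥(CC s)) : Perm Ω) x := (fix_iff g⁻¹).2 hx
  have h2 := hn _ h1
  rw [Subgroup.coe_mul, Subgroup.coe_mul, Perm.mul_apply, Perm.mul_apply, h2, Subgroup.coe_inv, app_inv]

theorem EE_normal (hs : s * s = 1) : (EE hs).Normal := by
  constructor
  intro n hn g x
  rw [Subgroup.coe_mul, Subgroup.coe_mul, Perm.mul_apply, Perm.mul_apply]
  rcases hn (((g⁻¹ : ↥(CC s)) : Perm Ω) x) with e | e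
  · left; rw [e, Subgroup.coe_inv, app_inv]
  · right; rw [e, app_comm (comm_of_mem g), Subgroup.coe_inv, app_inv]

theorem EE_sq (hs : s * s = 1) {c : ↥(CC s)} (hc : c ∈ EE hs) : c * c = 1 := by
  apply Subtype.ext
  ext x
  rw [Subgroup.coe_mul, Perm.mul_apply]
  rcases hc x with e | e
  · rw [e, e]; rfl
  · rw [e, app_comm (comm_of_mem c), e, ss hs]; rfl

theorem EE_le_SS (hs : s * s = 1) : EE hs ≤ SS s := by
  intro c hc x hx
  rcases hc x with e | e
  · exact e
  · rw [e, hx]

/-- elements of `AA` and `SS` commute -/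
theorem comm_AS {a b : ↥(CC s)} (ha : a ∈ AA s) (hb : b ∈ SS s) : b * a = a * b := by
  apply Subtype.ext
  ext x
  rw [Subgroup.coe_mul, Subgroup.coe_mul, Perm.mul_apply, Perm.mul_apply]
  by_cases hx : s x = x
  · rw [hb x hx, hb _ ((fix_iff a).2 hx)]
  · rw [ha x hx, ha _ (fun e => hx ((fix_iff b).1 e))]

/-- centralizer of `AA` -/
theorem mem_SS_of_comm (hF : 4 ≤ Fintype.card {x // s x = x}) {c : ↥(CC s)} (hc : ∀ a ∈ AA s, c * a = a * c) :
    c ∈ SS s := by
  intro f hf
  by_contra hcf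
  have hcf' : s ((c : Perm Ω) f) = (c : Perm Ω) f := (fix_iff c).2 hf
  -- two more fixed points
  obtain ⟨g, hg, g1, g2, h, hh, h1, h2, h3⟩ : ∃ g, s g = g ∧ g ≠ f ∧ g ≠ (c : Perm Ω) f ∧ ∃ h, s h = h ∧ h ≠ f ∧
      h ≠ (c : Perm Ω) f ∧ h ≠ g := by
    have e1 : ∃ g : {x // s x = x}, g ∉ ({⟨f, hf⟩, ⟨_, hcf'⟩} : Finset {x // s x = x}) := by
      by_contra hcc
      push Not at hcc
      have := Finset.card_le_two (a := (⟨f, hf⟩ : {x // s x = x})) (b := ⟨_, hcf'⟩)
      have h3 : Fintype.card {x // s x = x} ≤ 2 := by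
        rw [← Finset.card_univ]
        exact (Finset.card_le_card fun g _ => hcc g).trans this
      omega
    obtain ⟨g, hg⟩ := e1
    have e2 : ∃ h : {x // s x = x}, h ∉ ({⟨f, hf⟩, ⟨_, hcf'⟩, g} : Finset {x // s x = x}) := by
      by_contra hcc
      push Not at hcc
      have := Finset.card_le_three (a := (⟨f, hf⟩ : {x // s x = x})) (b := ⟨_, hcf'⟩) (c := g)
      have h3 : Fintype.card {x // s x = x} ≤ 3 := by
        rw [← Finset.card_univ]
        exact (Finset.card_le_card fun g _ => hcc g).trans this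
      omega
    obtain ⟨h, hh⟩ := e2
    simp only [Finset.mem_insert, Finset.mem_singleton, not_or] at hg hh
    exact ⟨g, g.2, fun e => hg.1 (Subtype.ext e), fun e => hg.2 (Subtype.ext e), h, h.2,
      fun e => hh.1 (Subtype.ext e), fun e => hh.2.1 (Subtype.ext e), fun e => hh.2.2 (Subtype.ext e)⟩
  have hmem : swap f g * swap g h ∈ CC s := by
    refine mem_CC.2 ⟨comm_mul (sw_comm hf hg) (sw_comm hg hh), ?_⟩
    rw [Perm.sign_mul, sign_swap g1.symm, sign_swap h3.symm]; rfl
  have hA : (⟨_, hmem⟩ : ↥(CC s)) ∈ AA s := by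
    intro x hx
    have x1 : x ≠ f := fun e => hx (by rw [e]; exact hf)
    have x2 : x ≠ g := fun e => hx (by rw [e]; exact hg)
    have x3 : x ≠ h := fun e => hx (by rw [e]; exact hh)
    change (swap f g * swap g h) x = x
    rw [Perm.mul_apply, swap_apply_of_ne_of_ne x2 x3, swap_apply_of_ne_of_ne x1 x2]
  have h4 := congrArg (fun p : ↥(CC s) => (p : Perm Ω) f) (hc _ hA)
  change (c : Perm Ω) ((swap f g * swap g h) f) = (swap f g * swap g h) ((c : Perm Ω) f) at h4
  rw [Perm.mul_apply, Perm.mul_apply, swap_apply_of_ne_of_ne g1.symm h1.symm, swap_apply_left,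
    swap_apply_of_ne_of_ne g2.symm h2.symm, swap_apply_of_ne_of_ne hcf g2.symm] at h4
  exact g1 ((c : Perm Ω).injective h4)

/-- an element commuting with two products of pairs having one pair in common preserves the common pair -/
theorem base_of_comm (hs : s * s = 1) {c : Perm Ω} (hc : c * s = s * c) {x y w : Ω} (hxy : Dis s x y) (hxw : Dis s x w)
    (hyw : Dis s y w) (h1 : c * (tr s x * tr s y) = tr s x * tr s y * c)
    (h2 : c * (tr s x * tr s w) = tr s x * tr s w * c) : c x = x ∨ c x = s x := by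
  have key : ∀ {y : Ω}, Dis s x y → c * (tr s x * tr s y) = tr s x * tr s y * c →
      c x = x ∨ c x = s x ∨ c x = y ∨ c x = s y := by
    intro y hxy h1
    by_contra hcc
    push Not at hcc
    obtain ⟨a1, a2, a3, a4⟩ := hcc
    have h3 := congrArg (fun p : Perm Ω => p x) h1
    simp only [Perm.mul_apply] at h3
    rw [tr_of_ne hxy.ne hxy.ns, tr_left, tr_of_ne a3 a4, tr_of_ne a1 a2] at h3
    exact hxy.x1 (c.injective h3)
  rcases key hxy h1 with e | e | e | e
  · exact Or.inl e
  · exact Or.inr e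
  · rcases key hxw h2 with e' | e' | e' | e'
    · exact Or.inl e'
    · exact Or.inr e'
    · exact absurd (e.symm.trans e') hyw.ne
    · exact absurd (e.symm.trans e') hyw.ns
  · rcases key hxw h2 with e' | e' | e' | e'
    · exact Or.inl e'
    · exact Or.inr e'
    · exact absurd (e.symm.trans e') (hyw.ns' hs)
    · exact absurd (e.symm.trans e') (hyw.ss hs)

/-- a point moved by `s`, outside two given pairs -/
theorem exists_third (hD : 5 ≤ s.support.card) (x y : Ω) :
    ∃ w, s w ≠ w ∧ w ≠ x ∧ w ≠ s x ∧ w ≠ y ∧ w ≠ s y := by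
  by_contra hcc
  push Not at hcc
  have h1 : s.support ⊆ ({x, s x, y, s y} : Finset Ω) := by
    intro w hw
    rw [mem_support] at hw
    by_cases a1 : w = x
    · simp [a1]
    by_cases a2 : w = s x
    · simp [a2]
    by_cases a3 : w = y
    · simp [a3]
    have := hcc w hw a1 a2 a3
    simp [this]
  have h2 := (Finset.card_le_card h1).trans Finset.card_le_four
  omega


section fields

/-- the image of a normal subgroup -/
theorem map_conj {N : Subgroup ↥(CC s)} (hN : N.Normal) :
    ∀ c ∈ CC s, ∀ n ∈ N.map (CC s).subtype, c * n * c⁻¹ ∈ N.map (CC s).subtype := by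
  rintro c hc _ ⟨n, hn, rfl⟩
  exact ⟨(⟨c, hc⟩ * n * ⟨c, hc⟩⁻¹ :), hN.conj_mem n hn _, rfl⟩

theorem mem_map_iff {N : Subgroup ↥(CC s)} {c : Perm Ω} (hc : c ∈ CC s) :
    c ∈ N.map (CC s).subtype ↔ (⟨c, hc⟩ : ↥(CC s)) ∈ N := by
  constructor
  · rintro ⟨n, hn, rfl⟩; exact hn
  · intro h; exact ⟨_, h, rfl⟩

/-- all the products of two pairs are in a normal subgroup which is not too small -/
theorem trtr_of_normal (hs : s * s = 1) {N : Subgroup ↥(CC s)} (hN : N.Normal) (hNS : N ≤ SS s) {f g : Ω}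
    (hf : s f = f) (hg : s g = g) (hfg : f ≠ g) {y : ↥(CC s)} (hy : y ∈ N) (h1 : y ≠ 1) (h2 : (y : Perm Ω) ≠ s) :
    ∀ x y, s x ≠ x → s y ≠ y → tr s x * tr s y ∈ N.map (CC s).subtype := by
  obtain ⟨a, b, hab, h⟩ := key hs (map_conj hN) (by rintro _ ⟨n, -, rfl⟩; exact comm_of_mem n)
    (by rintro _ ⟨n, hn, rfl⟩; exact hNS hn) hf hg hfg (y := y) ⟨y, hy, rfl⟩ (fun e => h1 (Subtype.ext e)) h2
  exact spread hs (map_conj hN) hab h

theorem umin (hs : s * s = 1) (hsC : s ∈ CC s) {f g : Ω} (hf : s f = f) (hg : s g = g) (hfg : f ≠ g)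
    (N : Subgroup ↥(CC s)) (hN : N.Normal) (hNS : N ≤ SS s) (hN1 : N ≠ ⊥) : (⟨s, hsC⟩ : ↥(CC s)) ∈ N := by
  obtain ⟨⟨y, hy⟩, hy1'⟩ := Subgroup.ne_bot_iff_exists_ne_one.1 hN1
  have hy1 : y ≠ 1 := fun e => hy1' (Subtype.ext e)
  by_cases h2 : ((y : ↥(CC s)) : Perm Ω) = s
  · have : (⟨s, hsC⟩ : ↥(CC s)) = y := Subtype.ext h2.symm
    rw [this]; exact hy
  · have h3 := trtr_of_normal hs hN hNS hf hg hfg hy hy1 h2
    exact (mem_map_iff hsC).1 (base_mem hs h3 _ s rfl rfl (fun x => Or.inr rfl) (mem_CC.1 hsC).2)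

/-- more than two pairs: elements commuting with the base group -/
theorem base_of_all (hs : s * s = 1) (hD : 5 ≤ s.support.card) {c : ↥(CC s)} (hcS : c ∈ SS s)
    (h : ∀ x y, s x ≠ x → s y ≠ y → (c : Perm Ω) * (tr s x * tr s y) = tr s x * tr s y * c) : c ∈ EE hs := by
  intro x
  by_cases hx : s x = x
  · exact Or.inl (hcS x hx)
  obtain ⟨y, hy, y1, y2, -, -⟩ := exists_third hD x x
  have hxy : Dis s x y := ⟨hx, hy, y1.symm, fun e => y2 (by rw [e, ss hs])⟩
  obtain ⟨w, hw, w1, w2, w3, w4⟩ := exists_third hD x y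
  have hxw : Dis s x w := ⟨hx, hw, w1.symm, fun e => w2 (by rw [e, ss hs])⟩
  have hyw : Dis s y w := ⟨hy, hw, w3.symm, fun e => w4 (by rw [e, ss hs])⟩
  exact base_of_comm hs (comm_of_mem c) hxy hxw hyw (h x y hx hy) (h x w hx hw)

theorem abel (hs : s * s = 1) (hD : 5 ≤ s.support.card) {f g : Ω} (hf : s f = f) (hg : s g = g) (hfg : f ≠ g)
    (N : Subgroup ↥(CC s)) (hN : N.Normal) (hNS : N ≤ SS s) (y : ↥(CC s)) (hy : y ∈ N) (h1 : y ≠ 1)
    (h2 : (y : Perm Ω) ≠ s) (hc : ∀ n ∈ N, n * y = y * n) : ∀ n ∈ N, n * n = 1 := by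
  set Y := N ⊓ Subgroup.centralizer (N : Set ↥(CC s)) with hY
  have hYn : Y.Normal := inferInstance
  have hyY : y ∈ Y := ⟨hy, Subgroup.mem_centralizer_iff.2 fun n hn => hc n hn⟩
  have h3 := trtr_of_normal hs hYn (inf_le_left.trans hNS) hf hg hfg hyY h1 h2
  intro n hn
  refine EE_sq hs (base_of_all hs hD (hNS hn) fun x y hx hy => ?_)
  obtain ⟨w, hw, e⟩ := h3 x y hx hy
  have h4 := Subgroup.mem_centralizer_iff.1 hw.2 n hn
  have h5 := congrArg Subtype.val h4
  rw [← e]
  exact h5

/-- two pairs: all elements trivial on the fixed points are involutions -/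
theorem sq_two (hs : s * s = 1) (hD : s.support.card = 4) {n : ↥(CC s)} (hn : n ∈ SS s) : n * n = 1 := by
  obtain ⟨x, hx⟩ : ∃ x, s x ≠ x := by
    by_contra hcc
    push Not at hcc
    have : s = 1 := Equiv.ext hcc
    rw [this] at hD
    simp at hD
  have hx2 : s x ∈ s.support := by rw [mem_support]; exact fun e => hx (s.injective e)
  obtain ⟨y0, hy0⟩ : ∃ y, s y ≠ y ∧ y ≠ x ∧ y ≠ s x := by
    by_contra hcc
    push Not at hcc
    have h1 : s.support ⊆ ({x, s x} : Finset Ω) := by
      intro w hw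
      rw [mem_support] at hw
      by_cases a1 : w = x
      · simp [a1]
      · simp [hcc w hw a1]
    have h2 := (Finset.card_le_card h1).trans Finset.card_le_two
    omega
  have hall : ∀ w, s w ≠ w → w = x ∨ w = s x ∨ w = y0 ∨ w = s y0 := by
    intro w hw
    by_contra hcc
    push Not at hcc
    obtain ⟨a1, a2, a3, a4⟩ := hcc
    have hd : Dis s x y0 := ⟨hx, hy0.1, hy0.2.1.symm, fun e => hy0.2.2 (by rw [e, ss hs])⟩
    have h1 : ({w, x, s x, y0, s y0} : Finset Ω) ⊆ s.support := by
      intro v hv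
      rw [mem_support]
      simp only [Finset.mem_insert, Finset.mem_singleton] at hv
      rcases hv with rfl | rfl | rfl | rfl | rfl
      · exact hw
      · exact hx
      · exact fun e => hx (s.injective e)
      · exact hy0.1
      · exact fun e => hy0.1 (s.injective e)
    have h2 : ({w, x, s x, y0, s y0} : Finset Ω).card = 5 := by
      rw [Finset.card_insert_of_notMem, Finset.card_insert_of_notMem, Finset.card_insert_of_notMem,
        Finset.card_insert_of_notMem, Finset.card_singleton]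
      · simpa using hy0.1.symm
      · simp only [Finset.mem_insert, Finset.mem_singleton, not_or]
        exact ⟨hd.ns' hs, hd.ss hs⟩
      · simp only [Finset.mem_insert, Finset.mem_singleton, not_or]
        exact ⟨hx.symm, hd.ne, hd.ns⟩
      · simp only [Finset.mem_insert, Finset.mem_singleton, not_or]
        exact ⟨a1, a2, a3, a4⟩
    have := Finset.card_le_card h1
    omega
  have hnc := comm_of_mem n
  by_cases hnx : (n : Perm Ω) x = x ∨ (n : Perm Ω) x = s x
  · refine EE_sq hs (fun w => ?_)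
    have hnsx : (n : Perm Ω) (s x) = x ∨ (n : Perm Ω) (s x) = s x := by
      rw [app_comm hnc]
      rcases hnx with e | e
      · right; rw [e]
      · left; rw [e, ss hs]
    by_cases hw : s w = w
    · exact Or.inl (hn w hw)
    have key : ∀ w, s w ≠ w → w ≠ x → w ≠ s x → (n : Perm Ω) w = y0 ∨ (n : Perm Ω) w = s y0 := by
      intro w hw a1 a2
      rcases hall _ (fun e => hw ((fix_iff n).1 e)) with e | e | e | e
      · exfalso
        rcases hnx with e' | e'
        · exact a1 ((n : Perm Ω).injective (e.trans e'.symm))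
        · rcases hnsx with e2 | e2
          · exact a2 ((n : Perm Ω).injective (e.trans e2.symm))
          · exact hx (((n : Perm Ω).injective (e'.trans e2.symm)).symm)
      · exfalso
        rcases hnx with e' | e'
        · rcases hnsx with e2 | e2
          · exact hx ((n : Perm Ω).injective (e2.trans e'.symm))
          · exact a2 ((n : Perm Ω).injective (e.trans e2.symm))
        · exact a1 ((n : Perm Ω).injective (e.trans e'.symm))
      · exact Or.inl e
      · exact Or.inr e
    rcases hall w hw with rfl | rfl | rfl | rfl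
    · exact hnx
    · rcases hnsx with e | e
      · right; rw [e, ss hs]
      · left; exact e
    · exact key _ hw hy0.2.1 hy0.2.2
    · rcases key (s y0) hw (fun e => hy0.2.2 (by rw [← e, ss hs])) (fun e => hy0.2.1 (s.injective e)) with e | e
      · right; rw [e, ss hs]
      · left; exact e
  · push Not at hnx
    set y := (n : Perm Ω) x with hydef
    have hy : y = y0 ∨ y = s y0 := by
      rcases hall _ (fun e => hx ((fix_iff n).1 e)) with e | e | e | e
      · exact absurd e hnx.1
      · exact absurd e hnx.2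
      · exact Or.inl e
      · exact Or.inr e
    have hall' : ∀ w, s w ≠ w → w = x ∨ w = s x ∨ w = y ∨ w = s y := by
      intro w hw
      rcases hall w hw with e | e | e | e
      · exact Or.inl e
      · exact Or.inr (Or.inl e)
      · rcases hy with e' | e'
        · exact Or.inr (Or.inr (Or.inl (by rw [e, e'])))
        · exact Or.inr (Or.inr (Or.inr (by rw [e, e', ss hs])))
      · rcases hy with e' | e'
        · exact Or.inr (Or.inr (Or.inr (by rw [e, e'])))
        · exact Or.inr (Or.inr (Or.inl (by rw [e, e'])))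
    have hsy : s y ≠ y := fun e => hx ((fix_iff n).1 e)
    have hd : Dis s x y := ⟨hx, hsy, hnx.1.symm, fun e => hnx.2 (by rw [e, ss hs])⟩
    have hnsx : (n : Perm Ω) (s x) = s y := by rw [app_comm hnc]
    have hny : (n : Perm Ω) y = x := by
      rcases hall' _ (fun e => hsy ((fix_iff n).1 e)) with e | e | e | e
      · exact e
      · exfalso
        have h1 : (n : Perm Ω) = bs s x y * tr s y := by
          ext w
          rw [Perm.mul_apply]
          by_cases hw : s w = w
          · have w1 : w ≠ y := fun h => hsy (by rw [← h]; exact hw)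
            have w2 : w ≠ s y := fun h => hsy (s.injective (by rw [← h]; exact hw))
            have w3 : w ≠ x := fun h => hx (by rw [← h]; exact hw)
            have w4 : w ≠ s x := fun h => hx (s.injective (by rw [← h]; exact hw))
            rw [hn w hw, tr_of_ne w1 w2, bs_of_ne w3 w1 w4 w2]
          · rcases hall' w hw with h | h | h | h
            · rw [h, tr_of_ne hd.ne hd.ns, bs_left hs hd]
            · rw [h, tr_of_ne (hd.ns' hs) (hd.ss hs), app_comm (bs_comm hs hd), bs_left hs hd, hnsx]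
            · rw [h, tr_left, app_comm (bs_comm hs hd), bs_right hs hd, e]
            · rw [h, tr_right, bs_right hs hd, app_comm hnc, e, ss hs]
        have h2 := (mem_CC.1 n.2).2
        rw [h1, Perm.sign_mul, sign_bs hd.ne, sign_tr hsy] at h2
        exact absurd h2 (by decide)
      · exact absurd ((n : Perm Ω).injective (e.trans hydef)) hd.ne.symm
      · exact absurd ((n : Perm Ω).injective (e.trans hnsx.symm)) (hd.ns' hs).symm
    have hnsy : (n : Perm Ω) (s y) = s x := by rw [app_comm hnc, hny]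
    apply Subtype.ext
    ext w
    rw [Subgroup.coe_mul, Perm.mul_apply]
    by_cases hw : s w = w
    · rw [hn w hw, hn w hw]; rfl
    · rcases hall' w hw with h | h | h | h
      · rw [h, ← hydef, hny]; rfl
      · rw [h, hnsx, hnsy]; rfl
      · rw [h, hny, ← hydef]; rfl
      · rw [h, hnsy, hnsx]; rfl

theorem sq_of_comm {G : Type*} [Group G] {a b : G} (h : a * b = b * a) (ha : a * a = 1) (hb : b * b = 1) :
    a * b * (a * b) = 1 := by
  nth_rewrite 1 [h]
  rw [mul_assoc, ← mul_assoc a, ha, one_mul, hb]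

theorem swap_or (a b x : Ω) : swap a b x = b ∨ swap a b x = a ∨ swap a b x = x := by
  by_cases h : x = a
  · left; rw [h, swap_apply_left]
  by_cases h2 : x = b
  · right; left; rw [h2, swap_apply_right]
  · right; right; exact swap_apply_of_ne_of_ne h h2

theorem tr_fix {x w : Ω} (hx : s x ≠ x) (hw : s w = w) : tr s x w = w :=
  tr_of_ne (fun e => hx (by rw [← e]; exact hw)) (fun e => hx (s.injective (by rw [← e]; exact hw)))

theorem disj_comm {x f g : Ω} (hx : s x ≠ x) (hf : s f = f) (hg : s g = g) : tr s x * swap f g = swap f g * tr s x := by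
  have h1 : ∀ w, s w = w → w ≠ x ∧ w ≠ s x := fun w hw =>
    ⟨fun e => hx (by rw [← e]; exact hw), fun e => hx (s.injective (by rw [← e]; exact hw))⟩
  exact swap_swap_comm (h1 f hf).1 (h1 f hf).2 (h1 g hg).1 (h1 g hg).2

theorem odd (hs : s * s = 1) {x f g : Ω} (hx : s x ≠ x) (hf : s f = f) (hg : s g = g) (hfg : f ≠ g) :
    ∃ c : ↥(CC s), c * c = 1 ∧ ∀ a ∈ AA s, c * a ∉ SS s := by
  refine ⟨⟨_, trsw_mem hs hx hf hg hfg⟩, ?_, ?_⟩
  · apply Subtype.ext
    change tr s x * swap f g * (tr s x * swap f g) = 1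
    exact sq_of_comm (disj_comm hx hf hg) (tr_tr x) (swap_mul_self _ _)
  · intro a ha hc
    have key : swap f g * (a : Perm Ω) = 1 := by
      ext w
      rw [Perm.mul_apply]
      change _ = w
      by_cases hw : s w = w
      · have h1 := hc w hw
        change (tr s x * swap f g) ((a : Perm Ω) w) = w at h1
        rw [Perm.mul_apply] at h1
        have h2 : s ((a : Perm Ω) w) = (a : Perm Ω) w := (fix_iff a).2 hw
        have h3 : s (swap f g ((a : Perm Ω) w)) = swap f g ((a : Perm Ω) w) := by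
          rcases swap_or f g ((a : Perm Ω) w) with e | e | e
          · rw [e]; exact hg
          · rw [e]; exact hf
          · rw [e]; exact h2
        rw [tr_of_ne (fun e => hx (by rw [← e]; exact h3)) (fun e => hx (s.injective (by rw [← e]; exact h3)))] at h1
        exact h1
      · rw [ha w hw]
        exact swap_apply_of_ne_of_ne (fun e => hw (by rw [e]; exact hf)) (fun e => hw (by rw [e]; exact hg))
    have h2 := congrArg sign key
    rw [Perm.sign_mul, sign_swap hfg, (mem_CC.1 a.2).2, Perm.sign_one] at h2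
    exact absurd h2 (by decide)

theorem cm (hs : s * s = 1) {x y f g : Ω} (hd : Dis s x y) (hf : s f = f) (hg : s g = g) (hfg : f ≠ g) :
    ∃ a b : ↥(CC s), a * a = 1 ∧ b * b = 1 ∧ a * b * a⁻¹ * b⁻¹ ∈ SS s ∧ a * b * a⁻¹ * b⁻¹ ≠ 1 := by
  have e : bs s x y * (tr s x * swap f g) * (bs s x y)⁻¹ * (tr s x * swap f g)⁻¹ = tr s y * tr s x := by
    have h1 := conj_tr (bs_comm hs hd) x
    rw [bs_left hs hd] at h1
    have h2 := swap_apply_apply (bs s x y) f g
    have h3 : ∀ w, s w = w → bs s x y w = w := by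
      intro w hw
      refine bs_of_ne (fun e => hd.x1 (by rw [← e]; exact hw)) (fun e => hd.y1 (by rw [← e]; exact hw))
        (fun e => hd.x1 (s.injective (by rw [← e]; exact hw))) (fun e => hd.y1 (s.injective (by rw [← e]; exact hw)))
    rw [h3 f hf, h3 g hg] at h2
    have h4 : bs s x y * (tr s x * swap f g) * (bs s x y)⁻¹ * (tr s x * swap f g)⁻¹ =
      (bs s x y * tr s x * (bs s x y)⁻¹) * (bs s x y * swap f g * (bs s x y)⁻¹) * (swap f g)⁻¹ * (tr s x)⁻¹ := by group
    rw [h4, h1, ← h2, tr_inv]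
    group
  refine ⟨⟨_, bs_mem hs hd⟩, ⟨_, trsw_mem hs hd.x1 hf hg hfg⟩, Subtype.ext (bs_bs hs hd), Subtype.ext ?_, ?_, ?_⟩
  · exact sq_of_comm (disj_comm hd.x1 hf hg) (tr_tr x) (swap_mul_self _ _)
  · intro w hw
    change (bs s x y * (tr s x * swap f g) * (bs s x y)⁻¹ * (tr s x * swap f g)⁻¹) w = w
    rw [e, Perm.mul_apply, tr_fix hd.x1 hw, tr_fix hd.y1 hw]
  · intro h1
    have h2 : bs s x y * (tr s x * swap f g) * (bs s x y)⁻¹ * (tr s x * swap f g)⁻¹ = 1 := congrArg Subtype.val h1
    rw [e] at h2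
    have h3 := congrArg (fun p : Perm Ω => p x) h2
    simp only [Perm.mul_apply, Perm.one_apply] at h3
    rw [tr_left, tr_of_ne (hd.ns' hs) (hd.ss hs)] at h3
    exact hd.x1 h3

/-- four fixed points -/
theorem exists_fix (n : ℕ) (hF : n < Fintype.card {x // s x = x}) (T : Finset Ω) (hT : T.card ≤ n) :
    ∃ g, s g = g ∧ g ∉ T := by
  by_contra hcc
  push Not at hcc
  have h1 : (Finset.univ.filter fun x => s x = x) ⊆ T := by
    intro w hw
    rw [Finset.mem_filter] at hw
    exact hcc w hw.2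
  have h2 := Finset.card_le_card h1
  rw [← Fintype.card_subtype] at h2
  omega

theorem na (hF : 4 ≤ Fintype.card {x // s x = x}) : ∃ a ∈ AA s, ∃ b ∈ AA s, a * b ≠ b * a := by
  obtain ⟨f, hf, -⟩ := exists_fix 0 (by omega) (s := s) ∅ (by simp)
  obtain ⟨g, hg, g1⟩ := exists_fix 1 (by omega) (s := s) {f} (by simp)
  obtain ⟨h, hh, h1⟩ := exists_fix 2 (by omega) (s := s) {f, g} Finset.card_le_two
  rw [Finset.mem_singleton] at g1
  simp only [Finset.mem_insert, Finset.mem_singleton, not_or] at h1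
  have hmem : swap f g * swap g h ∈ CC s := by
    refine mem_CC.2 ⟨comm_mul (sw_comm hf hg) (sw_comm hg hh), ?_⟩
    rw [Perm.sign_mul, sign_swap (fun e => g1 e.symm), sign_swap (fun e => h1.2 e.symm)]; rfl
  have hA : (⟨_, hmem⟩ : ↥(CC s)) ∈ AA s := by
    intro x hx
    have x1 : x ≠ f := fun e => hx (by rw [e]; exact hf)
    have x2 : x ≠ g := fun e => hx (by rw [e]; exact hg)
    have x3 : x ≠ h := fun e => hx (by rw [e]; exact hh)
    change (swap f g * swap g h) x = x
    rw [Perm.mul_apply, swap_apply_of_ne_of_ne x2 x3, swap_apply_of_ne_of_ne x1 x2]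
  refine ⟨_, hA, ?_⟩
  by_contra hcc
  push Not at hcc
  have h2 := mem_SS_of_comm hF hcc f hf
  change (swap f g * swap g h) f = f at h2
  rw [Perm.mul_apply, swap_apply_of_ne_of_ne (fun e => g1 e.symm) (fun e => h1.1 e.symm), swap_apply_left] at h2
  exact g1 h2

theorem rich (hF : 6 ≤ Fintype.card {x // s x = x}) (u : ↥(CC s)) (hu : u ∈ AA s) (hu1 : u ≠ 1) (hu2 : u * u = 1) :
    ∃ x ∈ AA s, x * u = u * x ∧ x * x ≠ 1 := by
  have huu : (u : Perm Ω) * u = 1 := congrArg Subtype.val hu2
  have huF : ∀ w, (u : Perm Ω) w ≠ w → s w = w := by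
    intro w hw
    by_contra hc
    exact hw (hu w hc)
  obtain ⟨a, ha⟩ : ∃ a, (u : Perm Ω) a ≠ a := by
    by_contra hcc
    push Not at hcc
    exact hu1 (Subtype.ext (Equiv.ext hcc))
  obtain ⟨c, hc, c1, c2⟩ : ∃ c, (u : Perm Ω) c ≠ c ∧ c ≠ a ∧ c ≠ (u : Perm Ω) a := by
    by_contra hcc
    push Not at hcc
    have : (u : Perm Ω) = tr (u : Perm Ω) a := by
      ext w
      by_cases e1 : w = a
      · rw [e1, tr_left]
      by_cases e2 : w = (u : Perm Ω) a
      · rw [e2, tr_right, ss huu]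
      rw [tr_of_ne e1 e2]
      by_contra h3
      exact e2 (hcc w h3 e1)
    have h2 := (mem_CC.1 u.2).2
    rw [this, sign_tr ha] at h2
    exact absurd h2 (by decide)
  have hd : Dis (u : Perm Ω) a c := ⟨ha, hc, c1.symm, fun e => c2 (by rw [e, ss huu])⟩
  set b := (u : Perm Ω) a with hb
  set d := (u : Perm Ω) c with hdd
  have sa : s a = a := huF a ha
  have sb : s b = b := huF b (fun e => ha ((u : Perm Ω).injective (by rw [← hb]; exact e)))
  have sc : s c = c := huF c hc
  have sd : s d = d := huF d (fun e => hc ((u : Perm Ω).injective (by rw [← hdd]; exact e)))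
  -- the second pair
  obtain ⟨e, e', he, he', hee, h1, h2, h3, h4, h1', h2', h3', h4', hcomm⟩ : ∃ e e', s e = e ∧ s e' = e' ∧ e ≠ e' ∧
      e ≠ a ∧ e ≠ b ∧ e ≠ c ∧ e ≠ d ∧ e' ≠ a ∧ e' ≠ b ∧ e' ≠ c ∧ e' ≠ d ∧
      swap e e' * (u : Perm Ω) = u * swap e e' := by
    by_cases hex : ∃ e, (u : Perm Ω) e ≠ e ∧ e ≠ a ∧ e ≠ b ∧ e ≠ c ∧ e ≠ d
    · obtain ⟨e, he, h1, h2, h3, h4⟩ := hex
      refine ⟨e, (u : Perm Ω) e, huF e he, ?_, he.symm, h1, h2, h3, h4, ?_, ?_, ?_, ?_, tr_comm huu e⟩
      · exact (fix_iff u).2 (huF e he)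
      · intro h; apply h2; rw [hb, ← h, ss huu]
      · intro h; exact h1 ((u : Perm Ω).injective h)
      · intro h; apply h4; rw [hdd, ← h, ss huu]
      · intro h; exact h3 ((u : Perm Ω).injective h)
    · push Not at hex
      obtain ⟨e, he, h1⟩ := exists_fix 4 (by omega) (s := s) {a, b, c, d} Finset.card_le_four
      obtain ⟨e', he', h1'⟩ := exists_fix 5 (by omega) (s := s) {e, a, b, c, d} Finset.card_le_five
      simp only [Finset.mem_insert, Finset.mem_singleton, not_or] at h1 h1'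
      have ue : (u : Perm Ω) e = e := by
        by_contra h
        exact h1.2.2.2 (hex e h h1.1 h1.2.1 h1.2.2.1)
      have ue' : (u : Perm Ω) e' = e' := by
        by_contra h
        exact h1'.2.2.2.2 (hex e' h h1'.2.1 h1'.2.2.1 h1'.2.2.2.1)
      exact ⟨e, e', he, he', fun h => h1'.1 h.symm, h1.1, h1.2.1, h1.2.2.1, h1.2.2.2, h1'.2.1, h1'.2.2.1, h1'.2.2.2.1,
        h1'.2.2.2.2, sw_comm ue ue'⟩
  have hmem : bs (u : Perm Ω) a c * tr (u : Perm Ω) c * swap e e' ∈ CC s := by
    refine mem_CC.2 ⟨?_, ?_⟩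
    · refine comm_mul (comm_mul (comm_mul (sw_comm sa sc) (sw_comm sb sd)) (sw_comm sc sd)) (sw_comm he he')
    · rw [Perm.sign_mul, Perm.sign_mul, sign_bs hd.ne, sign_tr hc, sign_swap hee]; rfl
  refine ⟨⟨_, hmem⟩, ?_, ?_, ?_⟩
  · intro x hx
    have hne : ∀ w, s w = w → x ≠ w := fun w hw h => hx (by rw [h]; exact hw)
    change (bs (u : Perm Ω) a c * tr (u : Perm Ω) c * swap e e') x = x
    rw [Perm.mul_apply, Perm.mul_apply, swap_apply_of_ne_of_ne (hne e he) (hne e' he'),
      tr_of_ne (hne c sc) (hne d sd), bs_of_ne (hne a sa) (hne c sc) (hne b sb) (hne d sd)]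
  · apply Subtype.ext
    change bs (u : Perm Ω) a c * tr (u : Perm Ω) c * swap e e' * u = u * (bs (u : Perm Ω) a c * tr (u : Perm Ω) c * swap e e')
    exact comm_mul (comm_mul (bs_comm huu hd) (tr_comm huu c)) hcomm
  · intro h
    have h5 : (bs (u : Perm Ω) a c * tr (u : Perm Ω) c * swap e e') * (bs (u : Perm Ω) a c * tr (u : Perm Ω) c * swap e e') = 1 :=
      congrArg Subtype.val h
    have h6 := congrArg (fun p : Perm Ω => p a) h5
    simp only [Perm.mul_apply, Perm.one_apply] at h6
    rw [swap_apply_of_ne_of_ne h1.symm h1'.symm, tr_of_ne hd.ne hd.ns, bs_left huu hd,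
      swap_apply_of_ne_of_ne h3.symm h3'.symm, tr_left, ← hdd] at h6
    rw [hdd, app_comm (bs_comm huu hd), bs_right huu hd] at h6
    exact ha h6

/-- the alternating group of the fixed points -/
noncomputable def altEquiv (s : Perm Ω) : ↥(alternatingGroup {x // s x = x}) ≃* ↥(AA s) := by
  have hsub : ∀ a : ↥(alternatingGroup {x // s x = x}), ofSubtype (a : Perm {x // s x = x}) ∈ CC s := by
    intro a
    refine mem_CC.2 ⟨comm_of_app fun x => ?_, ?_⟩
    · by_cases hx : s x = x
      · have h1 := ofSubtype_apply_of_mem (p := fun x => s x = x) (a : Perm {x // s x = x}) hx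
        rw [hx, h1]
        exact (((a : Perm {x // s x = x}) ⟨x, hx⟩).2).symm
      · have h1 := ofSubtype_apply_of_not_mem (p := fun x => s x = x) (a : Perm {x // s x = x}) hx
        have h2 := ofSubtype_apply_of_not_mem (p := fun x => s x = x) (a := s x) (a : Perm {x // s x = x})
          (fun e => hx (s.injective e))
        rw [h1, h2]
    · rw [sign_ofSubtype]; exact mem_alternatingGroup.1 a.2
  let φ : ↥(alternatingGroup {x // s x = x}) →* ↥(AA s) :=
    { toFun := fun a => ⟨⟨ofSubtype (a : Perm {x // s x = x}), hsub a⟩, fun x hx => ofSubtype_apply_of_not_mem _ hx⟩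
      map_one' := by
        apply Subtype.ext; apply Subtype.ext
        exact map_one (ofSubtype (p := fun x => s x = x))
      map_mul' := fun a b => by
        apply Subtype.ext; apply Subtype.ext
        exact map_mul (ofSubtype (p := fun x => s x = x)) _ _ }
  refine MulEquiv.ofBijective φ ⟨?_, ?_⟩
  · intro a b hab
    have h1 : ofSubtype (a : Perm {x // s x = x}) = ofSubtype (b : Perm {x // s x = x}) :=
      congrArg (fun c : ↥(AA s) => ((c : ↥(CC s)) : Perm Ω)) hab
    exact Subtype.ext (ofSubtype_injective h1)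
  · rintro ⟨c, hc⟩
    have h1 : ∀ x, s ((c : Perm Ω) x) = (c : Perm Ω) x ↔ s x = x := fun x => fix_iff c
    have h2 : ofSubtype (Perm.subtypePerm (p := fun x => s x = x) (c : Perm Ω) h1) = (c : Perm Ω) := by
      refine ofSubtype_subtypePerm (p := fun x => s x = x) h1 ?_
      intro x hx
      by_contra h
      exact hx (hc x h)
    refine ⟨⟨Perm.subtypePerm (p := fun x => s x = x) (c : Perm Ω) h1, ?_⟩, ?_⟩
    · rw [mem_alternatingGroup, ← sign_ofSubtype, h2]
      exact (mem_CC.1 c.2).2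
    · apply Subtype.ext; apply Subtype.ext
      exact h2

theorem simple (hF : 5 ≤ Fintype.card {x // s x = x}) : IsSimpleGroup ↥(AA s) := by
  have h1 : IsSimpleGroup ↥(alternatingGroup {x // s x = x}) := alternatingGroup.isSimpleGroup (by
    rw [Nat.card_eq_fintype_card]; exact hF)
  exact (altEquiv s).symm.isSimpleGroup

/-- **The frame.** -/
theorem fr (hs : s * s = 1) (hsC : s ∈ CC s) (h1 : s ≠ 1) (hD : 4 ∣ s.support.card)
    (hF : 6 ≤ Fintype.card {x // s x = x}) : ∃ E, Fr ↥(CC s) ⟨s, hsC⟩ (AA s) (SS s) E := by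
  obtain ⟨x, hx⟩ : ∃ x, s x ≠ x := by
    by_contra hcc
    push Not at hcc
    exact h1 (Equiv.ext hcc)
  obtain ⟨f, hf, -⟩ := exists_fix 0 (by omega) (s := s) ∅ (by simp)
  obtain ⟨g, hg, g1⟩ := exists_fix 1 (by omega) (s := s) {f} (by simp)
  rw [Finset.mem_singleton] at g1
  have hfg : f ≠ g := fun e => g1 e.symm
  have hpos : 0 < s.support.card := Finset.card_pos.2 ⟨x, mem_support.2 hx⟩
  obtain ⟨y, hy⟩ : ∃ y, Dis s x y := by
    by_contra hcc
    push Not at hcc
    have h1 : s.support ⊆ ({x, s x} : Finset Ω) := by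
      intro w hw
      rw [mem_support] at hw
      by_contra hw'
      simp only [Finset.mem_insert, Finset.mem_singleton, not_or] at hw'
      exact hcc w ⟨hx, hw, fun e => hw'.1 e.symm, fun e => hw'.2 (by rw [e, ss hs])⟩
    have h2 := (Finset.card_le_card h1).trans Finset.card_le_two
    obtain ⟨k, hk⟩ := hD
    omega
  obtain ⟨E, En, ES, Esq, self, ab⟩ : ∃ E : Subgroup ↥(CC s), E.Normal ∧ E ≤ SS s ∧ (∀ x ∈ E, x * x = 1) ∧
      (∀ x ∈ SS s, (∀ e ∈ E, x * e = e * x) → x ∈ E) ∧ (∀ N : Subgroup ↥(CC s), N.Normal → N ≤ SS s →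
        ∀ y ∈ N, y ≠ 1 → y ≠ ⟨s, hsC⟩ → (∀ n ∈ N, n * y = y * n) → ∀ n ∈ N, n * n = 1) := by
    by_cases h5 : 5 ≤ s.support.card
    · refine ⟨EE hs, EE_normal hs, EE_le_SS hs, fun x hx => EE_sq hs hx, ?_, ?_⟩
      · intro c hc h
        refine base_of_all hs h5 hc fun x y hx hy => ?_
        have hm : (⟨_, trtr_mem hs hx hy⟩ : ↥(CC s)) ∈ EE hs := by
          intro w
          change (tr s x * tr s y) w = w ∨ (tr s x * tr s y) w = s w
          have hor : ∀ x w, tr s x w = w ∨ tr s x w = s w := by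
            intro x w
            by_cases a1 : w = x
            · right; rw [a1, tr_left]
            by_cases a2 : w = s x
            · right; rw [a2, tr_right, ss hs]
            left; exact tr_of_ne a1 a2
          rw [Perm.mul_apply]
          rcases hor y w with e | e
          · rw [e]; exact hor x w
          · rw [e, app_comm (tr_comm hs x)]
            rcases hor x w with e' | e'
            · right; rw [e']
            · left; rw [e', ss hs]
        exact congrArg Subtype.val (h _ hm)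
      · intro N hN hNS y hy hy1 hy2 hc
        exact abel hs h5 hf hg hfg N hN hNS y hy hy1 (fun e => hy2 (Subtype.ext e)) hc
    · have h4 : s.support.card = 4 := by obtain ⟨k, hk⟩ := hD; omega
      refine ⟨SS s, SS_normal, le_rfl, fun x hx => sq_two hs h4 hx, fun c hc _ => hc, ?_⟩
      intro N hN hNS y hy hy1 hy2 hc n hn
      exact sq_two hs h4 (hNS hn)
  refine ⟨E, ?_⟩
  exact
    { ne := fun e => h1 (congrArg Subtype.val e)
      sq := Subtype.ext hs
      cen := fun c => Subtype.ext (comm_of_mem c)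
      memS := fun w hw => hw
      An := AA_normal
      simple := simple (by omega)
      na := na (by omega)
      cenA := fun c => ⟨fun hc a ha => comm_AS ha hc, fun h => mem_SS_of_comm (by omega) h⟩
      umin := fun N hN hNS hN1 => umin hs hsC hf hg hfg N hN hNS hN1
      abel := ab
      En := En
      ES := ES
      Esq := Esq
      self := self
      odd := odd hs hx hf hg hfg
      cm := cm hs hy hf hg hfg
      rich := fun u hu hu1 hu2 => rich hF u hu hu1 hu2 }

end fields

end Cfsg.Agent.H313.Alt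
end

-- part: H313/AltRed
section
/-!
# Reduction to an almost simple group for the centralizers of type `A_m` (helper313)

`FX t A E`: the facts on the centralizer of the involution `t` of `X`; `FX.main`: a finite group without normal subgroups
of odd order and without subgroups of index two has a simple normal subgroup `M` with `C_X(M) = 1` and `A < M`.
-/

set_option autoImplicit false
set_option linter.unusedSectionVars false

namespace Cfsg.Agent.H313.AltRed

open Subgroup Cfsg
open Cfsg.Agent.Cit (cj mem_cj conj_mem_cj conj_mem_cj_iff cj_one cj_mul cj_inv_cj cj_cj_inv cj_mono cj_le_cj cj_inj)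

/-- The facts on the centralizer `C` of an involution `t` at the level of the group `X`. -/
structure FX {X : Type*} [Group X] (t : X) (A E : Subgroup X) : Prop where
  ne : t ≠ 1
  sq : t * t = 1
  cA : ∀ a ∈ A, a * t = t * a
  nA : ∀ c, c * t = t * c → ∀ a ∈ A, c * a * c⁻¹ ∈ A
  simple : IsSimpleGroup A
  na : ∃ a ∈ A, ∃ b ∈ A, a * b ≠ b * a
  umin : ∀ N : Subgroup X, (∀ n ∈ N, n * t = t * n) → (∀ n ∈ N, ∀ a ∈ A, n * a = a * n) →
    (∀ c, c * t = t * c → ∀ n ∈ N, c * n * c⁻¹ ∈ N) → N ≠ ⊥ → t ∈ N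
  abel : ∀ N : Subgroup X, (∀ n ∈ N, n * t = t * n) → (∀ n ∈ N, ∀ a ∈ A, n * a = a * n) →
    (∀ c, c * t = t * c → ∀ n ∈ N, c * n * c⁻¹ ∈ N) → ∀ y ∈ N, y ≠ 1 → y ≠ t → (∀ n ∈ N, n * y = y * n) →
    ∀ n ∈ N, n * n = 1
  Et : ∀ e ∈ E, e * t = t * e
  EA : ∀ e ∈ E, ∀ a ∈ A, e * a = a * e
  nE : ∀ c, c * t = t * c → ∀ e ∈ E, c * e * c⁻¹ ∈ E
  Esq : ∀ e ∈ E, e * e = 1
  self : ∀ x, x * t = t * x → (∀ a ∈ A, x * a = a * x) → (∀ e ∈ E, x * e = e * x) → x ∈ E
  odd : ∃ c, c * t = t * c ∧ c * c = 1 ∧ ∀ a ∈ A, ¬ ∀ b ∈ A, c * a * b = b * (c * a)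
  cm : ∃ a b, a * t = t * a ∧ b * t = t * b ∧ a * a = 1 ∧ b * b = 1 ∧
    (∀ x ∈ A, a * b * a⁻¹ * b⁻¹ * x = x * (a * b * a⁻¹ * b⁻¹)) ∧ a * b * a⁻¹ * b⁻¹ ≠ 1
  rich : ∀ u ∈ A, u ≠ 1 → u * u = 1 → ∃ x ∈ A, x * u = u * x ∧ x * x ≠ 1

section

variable {X : Type*} [Group X]

theorem simple_dichotomy {A N : Subgroup X} (hA : IsSimpleGroup A) (hn : ∀ a ∈ A, ∀ n ∈ N, a * n * a⁻¹ ∈ N) :
    A ≤ N ∨ ∀ x ∈ A, x ∈ N → x = 1 := by
  have h1 : (N.subgroupOf A).Normal := ⟨fun n hn' g => mem_subgroupOf.2 (by simpa only [_root_.Subgroup.coe_mul, _root_.InvMemClass.coe_inv] using hn g g.2 n (mem_subgroupOf.1 hn'))⟩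
  rcases h1.eq_bot_or_eq_top with h2 | h2
  · right
    intro x hx hxN
    have h3 : (⟨x, hx⟩ : A) ∈ N.subgroupOf A := mem_subgroupOf.2 hxN
    rw [h2, mem_bot] at h3
    exact congrArg Subtype.val h3
  · left
    intro x hx
    have h3 : (⟨x, hx⟩ : A) ∈ N.subgroupOf A := by rw [h2]; trivial
    exact mem_subgroupOf.1 h3

theorem conj_comm {c n t : X} (h1 : c * t = t * c) (h2 : n * t = t * n) : c * n * c⁻¹ * t = t * (c * n * c⁻¹) := by
  have h3 : Commute c t := h1
  have h4 : Commute n t := h2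
  exact ((h3.mul_left h4).mul_left h3.inv_left)

/-- A fixed point free involution inverts. -/
theorem inv_of_fpf [Finite X] {t : X} (sq : t * t = 1) {N : Subgroup X} (hn : ∀ n ∈ N, t * n * t⁻¹ ∈ N)
    (hf : ∀ n ∈ N, n * t = t * n → n = 1) : ∀ n ∈ N, t * n * t⁻¹ = n⁻¹ := by
  have hti : t⁻¹ = t := inv_eq_of_mul_eq_one_left sq
  let φ : ↥N →* ↥N :=
    { toFun := fun n => ⟨t * n * t⁻¹, hn n n.2⟩
      map_one' := by apply Subtype.ext; simp
      map_mul' := by
        intro a b; apply Subtype.ext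
        show t * ((a : X) * b) * t⁻¹ = t * a * t⁻¹ * (t * b * t⁻¹)
        group }
  have hφ : ∀ m : N, ((φ m : N) : X) = t * m * t⁻¹ := fun m => rfl
  have hfp : MonoidHom.FixedPointFree φ := by
    intro m hm
    apply Subtype.ext
    apply hf m m.2
    have h1 := congrArg Subtype.val hm
    rw [hφ] at h1
    exact (mul_inv_eq_iff_eq_mul.mp h1).symm
  have hinv : Function.Involutive φ := by
    intro m
    apply Subtype.ext
    rw [hφ, hφ, hti]
    calc t * (t * m * t) * t = (t * t) * m * (t * t) := by group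
      _ = m := by rw [sq]; group
  intro m hm
  have := congrFun (hfp.coe_eq_inv_of_involutive hinv) ⟨m, hm⟩
  exact congrArg Subtype.val this

theorem comm_of_inv {t : X} {N : Subgroup X} (h1 : ∀ n ∈ N, t * n * t⁻¹ = n⁻¹) : ∀ a ∈ N, ∀ b ∈ N, a * b = b * a := by
  intro a ha b hb
  have e1 := h1 _ (N.mul_mem ha hb)
  have e2 : t * (a * b) * t⁻¹ = (t * a * t⁻¹) * (t * b * t⁻¹) := by group
  rw [e2, h1 a ha, h1 b hb] at e1
  have e3 : (a⁻¹ * b⁻¹)⁻¹ = ((a * b)⁻¹)⁻¹ := by rw [e1]
  rw [mul_inv_rev, inv_inv, inv_inv, inv_inv] at e3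
  exact e3.symm

/-- two conjugates: a subgroup of index two -/
theorem index_of_two [Finite X] (hno : ∀ K : Subgroup X, K.index ≠ 2) {D D' : Subgroup X} (hne : D' ≠ D)
    (h1 : ∃ g, cj g D = D') (h2 : ∀ g, cj g D = D ∨ cj g D = D') : False := by
  obtain ⟨g0, hg0⟩ := h1
  apply hno (normalizer (D : Set X))
  rw [index_eq_two_iff]
  have mem : ∀ g, g ∈ normalizer (D : Set X) ↔ cj g D = D := by
    intro g
    rw [mem_normalizer_iff]
    constructor
    · intro h
      ext x
      rw [mem_cj]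
      have := h (g⁻¹ * x * g)
      rw [this]
      have e : g * (g⁻¹ * x * g) * g⁻¹ = x := by group
      rw [e]
    · intro h x
      constructor
      · intro hx
        rw [← h]; exact conj_mem_cj hx
      · intro hx
        rw [← h] at hx
        exact conj_mem_cj_iff.1 hx
  have hsw : ∀ g, cj g D = D' → ∀ k, cj k D = D' → cj (k * g⁻¹) D' = D' := by
    intro g hg k hk
    rw [cj_mul, ← hg, cj_inv_cj, hk, hg]
  refine ⟨g0, fun b => ?_⟩
  rw [mem, mem, cj_mul, hg0]
  rcases h2 b with h3 | h3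
  · right
    refine ⟨h3, fun h4 => ?_⟩
    exact hne (cj_inj.1 (h4.trans h3.symm))
  · left
    refine ⟨?_, fun h4 => hne (h3.symm.trans h4)⟩
    rcases h2 (b * g0) with h5 | h5
    · rwa [cj_mul, hg0] at h5
    · exfalso
      rw [cj_mul, hg0] at h5
      exact hne (cj_inj.1 (h5.trans h3.symm))

end

section main

variable {X : Type*} [Group X] [Finite X] {t : X} {A E : Subgroup X}

theorem FX.star (h : FX t A E) (hodd : ∀ N : Subgroup X, N.Normal → Odd (Nat.card N) → N = ⊥) (N : Subgroup X)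
    (hN : N.Normal) (hN1 : N ≠ ⊥) : A ≤ N ∨ t ∈ N := by
  rcases simple_dichotomy h.simple (N := N ⊓ centralizer ({t} : Set X)) (fun a ha n hn => ⟨hN.conj_mem n hn.1 a,
    mem_centralizer_singleton_iff.2 (conj_comm (h.cA a ha) (mem_centralizer_singleton_iff.1 hn.2))⟩) with h1 | h1
  · left; exact h1.trans inf_le_left
  · right
    have hn : ∀ n ∈ N ⊓ centralizer ({t} : Set X), n ∈ N ∧ n * t = t * n := fun n hn =>
      ⟨hn.1, mem_centralizer_singleton_iff.1 hn.2⟩
    have hc : ∀ n ∈ N ⊓ centralizer ({t} : Set X), ∀ a ∈ A, n * a = a * n := by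
      intro n hn' a ha
      obtain ⟨h2, h3⟩ := hn n hn'
      have h4 : n * a * n⁻¹ * a⁻¹ ∈ A := A.mul_mem (h.nA n h3 a ha) (A.inv_mem ha)
      have h5 : n * a * n⁻¹ * a⁻¹ ∈ N := by
        have e : n * a * n⁻¹ * a⁻¹ = n * (a * n⁻¹ * a⁻¹) := by group
        rw [e]
        exact N.mul_mem h2 (hN.conj_mem _ (N.inv_mem h2) a)
      have h6 : n * a * n⁻¹ * a⁻¹ * t = t * (n * a * n⁻¹ * a⁻¹) := h.cA _ h4
      have h7 := h1 _ h4 ⟨h5, mem_centralizer_singleton_iff.2 h6⟩
      rw [mul_inv_eq_one] at h7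
      exact mul_inv_eq_iff_eq_mul.1 h7
    by_cases hb : N ⊓ centralizer ({t} : Set X) = ⊥
    · exfalso
      have h2 := inv_of_fpf h.sq (N := N) (fun n hn => hN.conj_mem n hn t) (fun n hn hc => by
        have : n ∈ N ⊓ centralizer ({t} : Set X) := ⟨hn, mem_centralizer_singleton_iff.2 hc⟩
        rwa [hb, mem_bot] at this)
      apply hN1
      apply hodd N hN
      by_contra hev
      obtain ⟨x, hx, hx1, hx2⟩ := Red.exists_inv_of_not_odd N hev
      have h3 := h2 x hx
      rw [inv_eq_of_mul_eq_one_left hx2, mul_inv_eq_iff_eq_mul] at h3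
      have : x ∈ N ⊓ centralizer ({t} : Set X) := ⟨hx, mem_centralizer_singleton_iff.2 h3.symm⟩
      rw [hb, mem_bot] at this
      exact hx1 this
    · exact (hn t (h.umin _ (fun n hn' => (hn n hn').2) hc (fun c hcc n hn' => ⟨hN.conj_mem n hn'.1 c,
        mem_centralizer_singleton_iff.2 (conj_comm hcc (hn n hn').2)⟩) hb)).1

theorem FX.quasi (h : FX t A E) : IsQuasisimple A := by
  have := h.simple
  apply CTwoTab.isQuasisimple_of_simple
  rintro ⟨⟨hc⟩⟩
  obtain ⟨a, ha, b, hb, hab⟩ := h.na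
  exact hab (congrArg Subtype.val (hc ⟨a, ha⟩ ⟨b, hb⟩))

theorem FX.compA (h : FX t A E) : IsComponentOf A (centralizer ({t} : Set X)) :=
  OddTab.isComponentOf_of_normalized (fun a ha => mem_centralizer_singleton_iff.2 (h.cA a ha)) h.quasi
    (fun g hg x hx => h.nA g (mem_centralizer_singleton_iff.1 hg) x hx)

/-- the only component of the centralizer is `A` -/
theorem FX.comp_eq (h : FX t A E) {D : Subgroup X} (hD : IsComponentOf D (centralizer ({t} : Set X))) : D = A := by
  by_contra hne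
  have h1 : ∀ d ∈ D, ∀ a ∈ A, d * a = a * d := by
    intro d hd a ha
    have h2 := Cit.Comp.comm_of_ne hD.2 h.compA.2 (fun e => hne (by
      have := congrArg (Subgroup.map (centralizer ({t} : Set X)).subtype) e
      rwa [subgroupOf_map_subtype, subgroupOf_map_subtype, inf_eq_left.2 hD.1, inf_eq_left.2 h.compA.1] at this))
      (x := ⟨d, hD.1 hd⟩) (y := ⟨a, h.compA.1 ha⟩) (mem_subgroupOf.2 hd) (mem_subgroupOf.2 ha)
    exact congrArg Subtype.val h2
  have hEc : ∀ a ∈ E, ∀ b ∈ E, a * b = b * a := by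
    intro a ha b hb
    have h1 := h.Esq _ (E.mul_mem ha hb)
    have h2 := h.Esq a ha
    have h3 := h.Esq b hb
    calc a * b = b⁻¹ * a⁻¹ := by rw [← mul_inv_rev]; exact eq_inv_of_mul_eq_one_left h1
      _ = b * a := by rw [inv_eq_of_mul_eq_one_left h2, inv_eq_of_mul_eq_one_left h3]
  have hcomm : ∀ a b : E, a * b = b * a := fun a b => Subtype.ext (hEc a a.2 b b.2)
  have hsol : Group.IsSolvable ↥E := by
    exact Group.isSolvable_of_comm hcomm
  have h4 := CTwoTab.comp_comm_solvable hD (R := E) (fun e he => mem_centralizer_singleton_iff.2 (h.Et e he))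
    (fun c hc e he => h.nE c (mem_centralizer_singleton_iff.1 hc) e he) hsol
  have h5 : D ≤ E := fun d hd => h.self d (mem_centralizer_singleton_iff.1 (hD.1 hd)) (h1 d hd) (fun e he => h4 d hd e he)
  have h6 : IsQuasisimple D := OddTab.isQuasisimple_of_isComponentOf hD
  apply SignalizersComponents.Components.quasisimple_not_isSolvable h6
  exact Group.isSolvable_of_isSolvable_injective (f := Subgroup.inclusion h5) (Subgroup.inclusion_injective h5)

/-- a component of `X` in the centralizer of `t` is `A` -/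
theorem FX.eq_of_le (h : FX t A E) {D : Subgroup X} (hD : IsComponent D) (hc : ∀ d ∈ D, d * t = t * d) : D = A := by
  have h1 : D ≤ centralizer ({t} : Set X) := fun d hd => mem_centralizer_singleton_iff.2 (hc d hd)
  exact h.comp_eq ⟨h1, SignalizersComponents.Components.isComponent_subgroupOf h1 hD⟩

/-- `A` is not normal in `X` -/
theorem FX.not_normal (h : FX t A E) (hno : ∀ K : Subgroup X, K.index ≠ 2)
    (hOut : ∀ α : MulAut A, ∃ k : ℕ, α ^ 2 ^ k ∈ (MulAut.conj : A →* MulAut A).range) : ¬ A.Normal := by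
  intro hA
  have hRn : ((MulAut.conj : A →* MulAut A).range).Normal := by
    constructor
    rintro _ ⟨a, rfl⟩ g
    refine ⟨g a, ?_⟩
    ext x
    simp only [MulAut.mul_apply, map_mul, _root_.MulAut.conj_apply, _root_.Subgroup.coe_mul, _root_.InvMemClass.coe_inv, _root_.MulAut.inv_apply, _root_.MulEquiv.apply_symm_apply, _root_.map_inv]
  set K : Subgroup X := ((MulAut.conj : A →* MulAut A).range).comap (MulAut.conjNormal : X →* MulAut A) with hK
  have hKn : K.Normal := hRn.comap _
  have hp : IsPGroup 2 (X ⧸ K) := by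
    intro a
    obtain ⟨x, rfl⟩ := QuotientGroup.mk'_surjective K a
    obtain ⟨k, hk⟩ := hOut (MulAut.conjNormal x)
    refine ⟨k, ?_⟩
    rw [← map_pow, QuotientGroup.mk'_apply, QuotientGroup.eq_one_iff, hK, mem_comap, map_pow]
    exact hk
  obtain ⟨c, hct, hc2, hcA⟩ := h.odd
  have hcK : c ∉ K := by
    rintro ⟨a, ha⟩
    have h1 : ∀ b ∈ A, (a : X) * b * (a : X)⁻¹ = c * b * c⁻¹ := by
      intro b hb
      have h2 := congrArg (fun f : MulAut A => ((f ⟨b, hb⟩ : A) : X)) ha
      simpa only [_root_.MulAut.conj_apply, _root_.Subgroup.coe_mul, _root_.InvMemClass.coe_inv, _root_.MulAut.conjNormal_apply] using h2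
    have h3 : c⁻¹ * (a : X)⁻¹ * c ∈ A := by simpa only [_root_.inv_inv] using hA.conj_mem _ (A.inv_mem a.2) c⁻¹
    apply hcA _ h3
    intro b hb
    have e : c * (c⁻¹ * (a : X)⁻¹ * c) = (a : X)⁻¹ * c := by group
    rw [e]
    have h4 := h1 b hb
    have h5 : c * b = a * b * (a : X)⁻¹ * c := by rw [h4]; group
    calc (a : X)⁻¹ * c * b = (a : X)⁻¹ * (c * b) := by group
      _ = b * ((a : X)⁻¹ * c) := by rw [h5]; group
  obtain ⟨N, -, hN⟩ := GH.WRank.exists_index_two hp (H := ⊥) (by
    intro e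
    have h1 : QuotientGroup.mk' K c ∈ (⊥ : Subgroup (X ⧸ K)) := by rw [e]; trivial
    rw [mem_bot, QuotientGroup.mk'_apply, QuotientGroup.eq_one_iff] at h1
    exact hcK h1)
  exact Red.quot_no_two K hno N hN

/-- a class of components not centralizing `t` -/
theorem FX.exists_not_comm (h : FX t A E) (hA : ¬ A.Normal) {D : Subgroup X} (hD : IsComponent D) :
    ∃ g, ∃ d ∈ cj g D, d * t ≠ t * d := by
  by_contra hc
  push Not at hc
  have h1 : ∀ g, cj g D = A := fun g => h.eq_of_le (Cit.Comp.isComponent_cj hD g) (hc g)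
  apply hA
  constructor
  intro n hn g
  have h2 : cj g A = A := by rw [← h1 1, cj_one]; exact (h1 g).trans (by rw [← h1 1, cj_one])
  rw [← h2]
  exact conj_mem_cj hn

theorem quasi_not_comm {D : Subgroup X} (hD : IsQuasisimple D) : ¬ ∀ a ∈ D, ∀ b ∈ D, a * b = b * a := by
  intro hc
  apply SignalizersComponents.Components.quasisimple_not_isSolvable hD
  exact Group.isSolvable_of_comm fun a b => Subtype.ext (hc a a.2 b b.2)

theorem le_cent_of_ne {D K : Subgroup X} (hD : IsComponent D) (hK : IsComponent K) (hne : D ≠ K) :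
    D ≤ centralizer (K : Set X) := by
  intro x hx
  rw [mem_centralizer_iff]
  intro y hy
  exact (Cit.Comp.comm_of_ne hD hK hne hx hy).symm

theorem FX.cj_c (h : FX t A E) {D : Subgroup X} (hD : IsComponent D) (hle : A ≤ D ⊔ cj t D) :
    ∀ c, c * t = t * c → cj c D = D ∨ cj c D = cj t D := by
  intro c hc
  by_contra hne
  push Not at hne
  obtain ⟨hne1, hne2⟩ := hne
  have e1 : cj c (cj t D) = cj t (cj c D) := by rw [← cj_mul, ← cj_mul, hc]
  have e2 : ∀ K : Subgroup X, cj t (cj t K) = K := fun K => by rw [← cj_mul, h.sq, cj_one]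
  have hne3 : cj t (cj c D) ≠ D := fun e => hne2 (by rw [← e2 (cj c D), e])
  have hne4 : cj t (cj c D) ≠ cj t D := fun e => hne1 (cj_inj.1 e)
  have c1 := Cit.Comp.isComponent_cj hD t
  have c2 := Cit.Comp.isComponent_cj hD c
  have c3 := Cit.Comp.isComponent_cj c2 t
  have h1 : D ⊔ cj t D ≤ centralizer ((cj c D ⊔ cj t (cj c D) : Subgroup X) : Set X) := by
    apply sup_le
    · rw [le_centralizer_iff]
      exact sup_le (le_cent_of_ne c2 hD hne1) (le_cent_of_ne c3 hD hne3)
    · rw [le_centralizer_iff]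
      exact sup_le (le_cent_of_ne c2 c1 hne2) (le_cent_of_ne c3 c1 hne4)
  have h2 : A ≤ cj c D ⊔ cj t (cj c D) := by
    intro a ha
    have hcI : c⁻¹ * t = t * c⁻¹ := (show Commute c t from hc).inv_left
    have h3 : c⁻¹ * a * c ∈ A := by simpa using h.nA c⁻¹ hcI a ha
    have h4 := conj_mem_cj (g := c) (hle h3)
    have e : c * (c⁻¹ * a * c) * c⁻¹ = a := by group
    rw [e, Cfsg.Agent.Cit.cj_sup, e1] at h4
    exact h4
  obtain ⟨a, ha, b, hb, hab⟩ := h.na
  exact hab ((mem_centralizer_iff.1 (h1 (hle ha))) b (h2 hb)).symm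

/-- a component containing (the diagonal containing) `A` -/
theorem FX.normal_of_le (h : FX t A E) (hno : ∀ K : Subgroup X, K.index ≠ 2) {D : Subgroup X} (hD : IsComponent D)
    (hle : A ≤ D ⊔ cj t D) (hnc : ∃ d ∈ D, d * t ≠ t * d) : D.Normal := by
  have hcl := h.cj_c hD hle
  have key : ∀ g, cj g D = D ∨ cj g D = cj t D := by
    intro g0
    by_contra hne
    push Not at hne
    obtain ⟨hne1, hne2⟩ := hne
    set R : Subgroup X := sSup {K | (∃ g, K = cj g D) ∧ K ≠ D ∧ K ≠ cj t D} with hR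
    have hK0 : cj g0 D ≤ R := le_sSup ⟨⟨g0, rfl⟩, hne1, hne2⟩
    have hRc : ∀ c, c * t = t * c → ∀ n ∈ R, c * n * c⁻¹ ∈ R := by
      intro c hc
      have hle' : R ≤ R.comap (MulAut.conj c).toMonoidHom := by
        rw [hR]
        apply sSup_le
        rintro _ ⟨⟨g, rfl⟩, h1, h2⟩
        rw [← map_le_iff_le_comap]
        apply le_sSup
        have hcI : c⁻¹ * t = t * c⁻¹ := (show Commute c t from hc).inv_left
        refine ⟨⟨c * g, (cj_mul c g D).symm⟩, ?_, ?_⟩
        · intro e
          have e1 : cj g D = cj c⁻¹ D := (cj_inv_cj c (cj g D)).symm.trans (congrArg (cj c⁻¹) e)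
          rcases hcl c⁻¹ hcI with e2 | e2
          · exact h1 (e1.trans e2)
          · exact h2 (e1.trans e2)
        · intro e
          have e1 : cj g D = cj (c⁻¹ * t) D :=
            (cj_inv_cj c (cj g D)).symm.trans ((congrArg (cj c⁻¹) e).trans (cj_mul c⁻¹ t D).symm)
          rcases hcl (c⁻¹ * t) (by rw [hcI, mul_assoc, hcI, ← mul_assoc]) with e2 | e2
          · exact h1 (e1.trans e2)
          · exact h2 (e1.trans e2)
      intro n hn
      exact mem_comap.1 (hle' hn)
    have hRD : R ≤ centralizer ((D ⊔ cj t D : Subgroup X) : Set X) := by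
      rw [hR]
      apply sSup_le
      rintro _ ⟨⟨g, rfl⟩, h1, h2⟩
      rw [le_centralizer_iff]
      exact sup_le (le_cent_of_ne hD (Cit.Comp.isComponent_cj hD g) h1.symm)
        (le_cent_of_ne (Cit.Comp.isComponent_cj hD t) (Cit.Comp.isComponent_cj hD g) h2.symm)
    by_cases hb : R ⊓ centralizer ({t} : Set X) = ⊥
    · have h2 := inv_of_fpf h.sq (N := R) (hRc t rfl) (fun n hn hc => by
        have : n ∈ R ⊓ centralizer ({t} : Set X) := ⟨hn, mem_centralizer_singleton_iff.2 hc⟩
        rwa [hb, mem_bot] at this)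
      have h3 := comm_of_inv h2
      exact quasi_not_comm (Cit.Comp.isComponent_cj hD g0).2 (fun a ha b hb => h3 a (hK0 ha) b (hK0 hb))
    · have h2 := h.umin (R ⊓ centralizer ({t} : Set X)) (fun n hn => mem_centralizer_singleton_iff.1 hn.2)
        (fun n hn a ha => ((mem_centralizer_iff.1 (hRD hn.1)) a (hle ha)).symm)
        (fun c hc n hn => ⟨hRc c hc n hn.1, mem_centralizer_singleton_iff.2
          (conj_comm hc (mem_centralizer_singleton_iff.1 hn.2))⟩) hb
      obtain ⟨d, hd, hdt⟩ := hnc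
      exact hdt ((mem_centralizer_iff.1 (hRD h2.1)) d (mem_sup_left hd))
  by_cases htD : cj t D = D
  · have h1 : ∀ g, cj g D = D := by
      intro g
      rcases key g with e | e
      · exact e
      · exact e.trans htD
    constructor
    intro n hn g
    rw [← h1 g]
    exact conj_mem_cj hn
  · exact (index_of_two hno htD ⟨t, rfl⟩ key).elim

/-- the case of a component `A` of `X` -/
theorem FX.not_comp (h : FX t A E) (hno : ∀ K : Subgroup X, K.index ≠ 2) (hAn : ¬ A.Normal) (hA : IsComponent A) : False := by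
  -- the product of the other conjugates
  set R : Subgroup X := sSup {K | (∃ g, K = cj g A) ∧ K ≠ A} with hR
  have hcA : ∀ c, c * t = t * c → cj c A = A := by
    intro c hc
    apply le_antisymm
    · rintro _ ⟨a, ha, rfl⟩
      exact h.nA c hc a ha
    · intro a ha
      rw [mem_cj]
      have hcI : c⁻¹ * t = t * c⁻¹ := (show Commute c t from hc).inv_left
      simpa using h.nA c⁻¹ hcI a ha
  have hRc : ∀ c, c * t = t * c → ∀ n ∈ R, c * n * c⁻¹ ∈ R := by
    intro c hc
    have hle' : R ≤ R.comap (MulAut.conj c).toMonoidHom := by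
      rw [hR]
      apply sSup_le
      rintro _ ⟨⟨g, rfl⟩, h1⟩
      rw [← map_le_iff_le_comap]
      apply le_sSup
      refine ⟨⟨c * g, (cj_mul c g A).symm⟩, ?_⟩
      intro e
      have hcI : c⁻¹ * t = t * c⁻¹ := (show Commute c t from hc).inv_left
      exact h1 ((cj_inv_cj c (cj g A)).symm.trans ((congrArg (cj c⁻¹) e).trans (hcA c⁻¹ hcI)))
    intro n hn
    exact mem_comap.1 (hle' hn)
  have hRA : R ≤ centralizer (A : Set X) := by
    rw [hR]
    apply sSup_le
    rintro _ ⟨⟨g, rfl⟩, h1⟩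
    exact le_cent_of_ne (Cit.Comp.isComponent_cj hA g) hA h1
  -- a conjugate not centralizing `t`
  obtain ⟨g1, d1, hd1, hd1t⟩ := h.exists_not_comm hAn hA
  have hne1 : cj g1 A ≠ A := by
    intro e
    rw [e] at hd1
    exact hd1t (h.cA d1 hd1)
  have hK1 : cj g1 A ≤ R := le_sSup ⟨⟨g1, rfl⟩, hne1⟩
  have htR : t ∈ R := by
    by_cases hb : R ⊓ centralizer ({t} : Set X) = ⊥
    · exfalso
      have h2 := inv_of_fpf h.sq (N := R) (hRc t rfl) (fun n hn hc => by
        have : n ∈ R ⊓ centralizer ({t} : Set X) := ⟨hn, mem_centralizer_singleton_iff.2 hc⟩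
        rwa [hb, mem_bot] at this)
      have h3 := comm_of_inv h2
      exact quasi_not_comm (Cit.Comp.isComponent_cj hA g1).2 (fun a ha b hb => h3 a (hK1 ha) b (hK1 hb))
    · exact (h.umin (R ⊓ centralizer ({t} : Set X)) (fun n hn => mem_centralizer_singleton_iff.1 hn.2)
        (fun n hn a ha => ((mem_centralizer_iff.1 (hRA hn.1)) a ha).symm)
        (fun c hc n hn => ⟨hRc c hc n hn.1, mem_centralizer_singleton_iff.2
          (conj_comm hc (mem_centralizer_singleton_iff.1 hn.2))⟩) hb).1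
  -- `R = K * R'`
  set K : Subgroup X := cj g1 A with hK
  set R' : Subgroup X := sSup {L | (∃ g, L = cj g A) ∧ L ≠ A ∧ L ≠ K} with hR'
  have hKc : IsComponent K := Cit.Comp.isComponent_cj hA g1
  have hR'K : R' ≤ centralizer (K : Set X) := by
    rw [hR']
    apply sSup_le
    rintro _ ⟨⟨g, rfl⟩, h1, h2⟩
    exact le_cent_of_ne (Cit.Comp.isComponent_cj hA g) hKc h2
  have hKR' : ∀ a ∈ K, ∀ b ∈ R', a * b = b * a := fun a ha b hb => (mem_centralizer_iff.1 (hR'K hb)) a ha
  have hRle : R ≤ K ⊔ R' := by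
    rw [hR]
    apply sSup_le
    rintro _ ⟨⟨g, rfl⟩, h1⟩
    by_cases h2 : cj g A = K
    · rw [h2]; exact le_sup_left
    · have h3 : cj g A ≤ R' := le_sSup ⟨⟨g, rfl⟩, h1, h2⟩
      exact h3.trans le_sup_right
  have hsimpK : ∀ x ∈ K, (∀ y ∈ K, x * y = y * x) → x = 1 := by
    intro x hx hc
    have h1 : g1⁻¹ * x * g1 ∈ A := mem_cj.1 hx
    have h2 : ∀ a ∈ A, g1⁻¹ * x * g1 * a = a * (g1⁻¹ * x * g1) := by
      intro a ha
      have h3 := hc _ (conj_mem_cj (g := g1) ha)
      calc g1⁻¹ * x * g1 * a = g1⁻¹ * (x * (g1 * a * g1⁻¹)) * g1 := by group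
        _ = g1⁻¹ * ((g1 * a * g1⁻¹) * x) * g1 := by rw [h3]
        _ = a * (g1⁻¹ * x * g1) := by group
    have h4 : g1⁻¹ * x * g1 = 1 := by
      have hs := h.simple
      rcases (inferInstance : (center A).Normal).eq_bot_or_eq_top with h5 | h5
      · have h6 : (⟨g1⁻¹ * x * g1, h1⟩ : A) ∈ center A := by
          rw [mem_center_iff]
          intro y
          exact Subtype.ext (h2 y y.2).symm
        rw [h5, mem_bot] at h6
        exact congrArg Subtype.val h6
      · exfalso
        obtain ⟨a, ha, b, hb, hab⟩ := h.na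
        have h6 : (⟨b, hb⟩ : A) ∈ center A := by rw [h5]; trivial
        exact hab (congrArg Subtype.val ((mem_center_iff.1 h6) ⟨a, ha⟩))
    have h5 : x = g1 * (g1⁻¹ * x * g1) * g1⁻¹ := by group
    rw [h5, h4]; group
  have hint : ∀ x ∈ K, x ∈ R' → x = 1 := fun x hx hx' => hsimpK x hx (fun y hy => (hKR' y hy x hx').symm)
  obtain ⟨k, hk, r, hr, hkr⟩ := Cit.Comp.mem_sup_comm hKR' (hRle htR)
  have hkt : k * t = t * k := by rw [← hkr, mul_assoc, ← hKR' k hk r hr]
  have hk1 : k ≠ 1 := by
    intro e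
    rw [e, one_mul] at hkr
    exact hd1t (by rw [← hkr]; exact hKR' d1 hd1 r hr)
  have hk2 : k * k = 1 := by
    apply hint _ (K.mul_mem hk hk)
    have h1 : k * k * (r * r) = 1 := by
      rw [← h.sq, ← hkr]
      calc k * k * (r * r) = k * (k * r) * r := by group
        _ = k * (r * k) * r := by rw [hKR' k hk r hr]
        _ = k * r * (k * r) := by group
    rw [eq_inv_of_mul_eq_one_left h1]
    exact R'.inv_mem (R'.mul_mem hr hr)
  have hKA : ∀ a ∈ K, ∀ b ∈ A, a * b = b * a := fun a ha b hb => Cit.Comp.comm_of_ne hKc hA hne1 ha hb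
  by_cases hkt' : k = t
  · -- no third conjugate
    apply index_of_two hno hne1 ⟨g1, rfl⟩
    intro g
    by_contra hne
    push Not at hne
    apply hne.1
    apply h.eq_of_le (Cit.Comp.isComponent_cj hA g)
    intro d hd
    rw [← hkt']
    exact Cit.Comp.comm_of_ne (Cit.Comp.isComponent_cj hA g) hKc hne.2 hd hk
  · -- a centralizer
    obtain ⟨x, hx, hxu, hxx⟩ := h.rich (g1⁻¹ * k * g1) (mem_cj.1 hk) (fun e => hk1 (by
        have e2 : k = g1 * (g1⁻¹ * k * g1) * g1⁻¹ := by group
        rw [e2, e]; group)) (by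
        have e2 : g1⁻¹ * k * g1 * (g1⁻¹ * k * g1) = g1⁻¹ * (k * k) * g1 := by group
        rw [e2, hk2]; group)
    have hx1 : g1 * x * g1⁻¹ ∈ K := conj_mem_cj hx
    have hx2 : g1 * x * g1⁻¹ * k = k * (g1 * x * g1⁻¹) := by
      calc g1 * x * g1⁻¹ * k = g1 * (x * (g1⁻¹ * k * g1)) * g1⁻¹ := by group
        _ = g1 * ((g1⁻¹ * k * g1) * x) * g1⁻¹ := by rw [hxu]
        _ = k * (g1 * x * g1⁻¹) := by group
    have hx3 : g1 * x * g1⁻¹ * t = t * (g1 * x * g1⁻¹) := by
      rw [← hkr, ← mul_assoc, hx2, mul_assoc k, hKR' _ hx1 r hr, ← mul_assoc]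
    have h3 := h.abel (R ⊓ centralizer ({t} : Set X)) (fun n hn => mem_centralizer_singleton_iff.1 hn.2)
        (fun n hn a ha => ((mem_centralizer_iff.1 (hRA hn.1)) a ha).symm)
        (fun c hc n hn => ⟨hRc c hc n hn.1, mem_centralizer_singleton_iff.2
          (conj_comm hc (mem_centralizer_singleton_iff.1 hn.2))⟩) k ⟨hK1 hk, mem_centralizer_singleton_iff.2 hkt⟩ hk1 hkt'
        (by
          intro n hn
          have hnt := mem_centralizer_singleton_iff.1 hn.2
          obtain ⟨m, hm, m', hm', e⟩ := Cit.Comp.mem_sup_comm hKR' (hRle hn.1)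
          have h4 : (k * m)⁻¹ * (m * k) = (r * m') * (m' * r)⁻¹ := by
            rw [inv_mul_eq_iff_eq_mul, ← mul_assoc, eq_mul_inv_iff_mul_eq]
            calc m * k * (m' * r) = m * (k * m') * r := by group
              _ = m * (m' * k) * r := by rw [hKR' k hk m' hm']
              _ = n * t := by rw [← hkr, ← e]; group
              _ = t * n := hnt
              _ = k * (r * m) * m' := by rw [← hkr, ← e]; group
              _ = k * (m * r) * m' := by rw [hKR' m hm r hr]
              _ = k * m * (r * m') := by group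
          have h5 := hint ((k * m)⁻¹ * (m * k)) (K.mul_mem (K.inv_mem (K.mul_mem hk hm)) (K.mul_mem hm hk)) (by
            rw [h4]
            exact R'.mul_mem (R'.mul_mem hr hm') (R'.inv_mem (R'.mul_mem hm' hr)))
          rw [inv_mul_eq_one] at h5
          rw [← e, mul_assoc, ← hKR' k hk m' hm', ← mul_assoc, ← h5, mul_assoc])
        (g1 * x * g1⁻¹) ⟨hK1 hx1, mem_centralizer_singleton_iff.2 hx3⟩
    apply hxx
    have e2 : g1 * x * g1⁻¹ * (g1 * x * g1⁻¹) = g1 * (x * x) * g1⁻¹ := by group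
    rw [e2, mul_inv_eq_one] at h3
    exact mul_eq_left.1 h3

theorem pLayer_eq (hodd : ∀ N : Subgroup X, N.Normal → Odd (Nat.card N) → N = ⊥) : pLayer 2 X = layer X := by
  apply FixBN.BCoreFree.pLayer_eq_layer (fun N hN => Cfsg.Agent.S0205.result hN)
  have h1 : oddCore X = ⊥ := hodd _ inferInstance Red.oddCore_odd
  rw [h1, commutator_bot_right]

/-- **The group is almost simple.** -/
theorem FX.exists_simple (h : FX t A E) (hodd : ∀ N : Subgroup X, N.Normal → Odd (Nat.card N) → N = ⊥)
    (hno : ∀ K : Subgroup X, K.index ≠ 2)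
    (hOut : ∀ α : MulAut A, ∃ k : ℕ, α ^ 2 ^ k ∈ (MulAut.conj : A →* MulAut A).range) :
    ∃ M : Subgroup X, M.Normal ∧ IsSimpleGroup M ∧ (∃ a ∈ M, ∃ b ∈ M, a * b ≠ b * a) ∧
      centralizer (M : Set X) = ⊥ ∧ A < M := by
  have hAn := h.not_normal hno hOut
  have ht : orderOf t = 2 := by
    have : Fact (Nat.Prime 2) := ⟨Nat.prime_two⟩
    exact orderOf_eq_prime (by rw [pow_two]; exact h.sq) h.ne
  have h0 : A ≤ centralizer ({t} : Set X) := fun a ha => mem_centralizer_singleton_iff.2 (h.cA a ha)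
  obtain ⟨D, hD, hcase⟩ := Cfsg.Agent.S1322.result (pLayer_eq hodd) t ht A h0 h.compA.2
  have fin : ∀ D : Subgroup X, IsComponent D → A ≤ D ⊔ cj t D → (∃ d ∈ D, d * t ≠ t * d) → 
      D.Normal ∧ IsSimpleGroup D ∧ (∃ a ∈ D, ∃ b ∈ D, a * b ≠ b * a) ∧ centralizer (D : Set X) = ⊥ ∧ A ≤ D := by
    intro D hD hle hnc
    have hDn := h.normal_of_le hno hD hle hnc
    have hcj : cj t D = D := by
      apply le_antisymm
      · rintro _ ⟨a, ha, rfl⟩
        exact hDn.conj_mem a ha t
      · intro a ha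
        rw [mem_cj]
        simpa using hDn.conj_mem a ha t⁻¹
    rw [hcj, sup_idem] at hle
    have hc : centralizer (D : Set X) = ⊥ := by
      by_contra hne
      rcases h.star hodd (centralizer (D : Set X)) inferInstance hne with h1 | h1
      · obtain ⟨a, ha, b, hb, hab⟩ := h.na
        exact hab ((mem_centralizer_iff.1 (h1 ha)) b (hle hb)).symm
      · obtain ⟨d, hd, hdt⟩ := hnc
        exact hdt ((mem_centralizer_iff.1 h1) d hd)
    refine ⟨hDn, ?_, ?_, hc, hle⟩
    · have hq := hD.2.2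
      have hz : center D = ⊥ := by
        rw [eq_bot_iff]
        intro x hx
        rw [mem_bot]
        have h1 : (x : X) ∈ centralizer (D : Set X) := by
          rw [mem_centralizer_iff]
          intro y hy
          exact congrArg Subtype.val ((mem_center_iff.1 hx) ⟨y, hy⟩)
        rw [hc, mem_bot] at h1
        exact Subtype.ext h1
      have e : D ⧸ center D ≃* D := (QuotientGroup.quotientMulEquivOfEq hz).trans QuotientGroup.quotientBot
      have hnt : Nontrivial (D ⧸ center D) := hq.toNontrivial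
      have hnt' : Nontrivial D := e.symm.toEquiv.nontrivial
      exact IsSimpleGroup.isSimpleGroup_of_surjective e.toMonoidHom e.surjective
    · by_contra hcon
      push Not at hcon
      exact quasi_not_comm hD.2 hcon
  rcases hcase with h1 | ⟨h1, h2⟩ | ⟨h1, h2⟩
  · rw [← h1] at hD
    exact (h.not_comp hno hAn hD).elim
  · obtain ⟨f1, f2, f3, f4, f5⟩ := fin D hD (h1.le.trans le_sup_left) (by
      by_contra hcon
      push Not at hcon
      have h3 : ⁅D, zpowers t⁆ = ⊥ := by
        rw [commutator_eq_bot_iff_le_centralizer, le_centralizer_iff, zpowers_le]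
        rw [mem_centralizer_iff]
        intro d hd
        exact hcon d hd
      rw [h3] at h2
      rw [h2] at h1
      exact not_lt_bot h1)
    exact ⟨D, f1, f2, f3, f4, h1⟩
  · exfalso
    have h3 : ∃ d ∈ D, d * t ≠ t * d := by
      by_contra hcon
      push Not at hcon
      apply h1
      apply le_antisymm
      · rintro _ ⟨d, hd, rfl⟩
        have e : (MulAut.conj t).toMonoidHom d = d := by
          show t * d * t⁻¹ = d
          rw [← hcon d hd]; group
        rw [e]; exact hd
      · intro d hd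
        refine ⟨d, hd, ?_⟩
        show t * d * t⁻¹ = d
        rw [← hcon d hd]; group
    have h4 : A ≤ D ⊔ cj t D := by
      rw [h2]
      rintro _ ⟨x, hx, rfl⟩
      exact x.2.1
    obtain ⟨f1, f2, f3, f4, f5⟩ := fin D hD h4 h3
    apply h1
    apply le_antisymm
    · rintro _ ⟨a, ha, rfl⟩
      exact f1.conj_mem a ha t
    · intro a ha
      refine ⟨t⁻¹ * a * t, by simpa using f1.conj_mem a ha t⁻¹, ?_⟩
      show t * (t⁻¹ * a * t) * t⁻¹ = a
      group

end main

end Cfsg.Agent.H313.AltRed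
end

-- part: H313/AltTrans
section
/-!
# Transport of the frame of the centralizer (helper313)
-/

set_option autoImplicit false
set_option linter.unusedSectionVars false

namespace Cfsg.Agent.H313.AltTrans

open Subgroup Cfsg
open Cfsg.Agent.H313.Alt (Fr)
open Cfsg.Agent.H313.AltRed

section map

variable {C C' : Type*} [Group C] [Group C'] {z : C} {A S E : Subgroup C}

theorem mem_map_iff (e : C ≃* C') (K : Subgroup C) (x : C') : x ∈ K.map e.toMonoidHom ↔ e.symm x ∈ K := by
  constructor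
  · rintro ⟨k, hk, rfl⟩; simpa using hk
  · intro h; exact ⟨e.symm x, h, by simp⟩

theorem Fr.map (h : Fr C z A S E) (e : C ≃* C') :
    Fr C' (e z) (A.map e.toMonoidHom) (S.map e.toMonoidHom) (E.map e.toMonoidHom) := by
  have mm : ∀ (K : Subgroup C') (x : C), x ∈ K.map e.symm.toMonoidHom ↔ e x ∈ K := fun K x => by
    rw [mem_map_iff, MulEquiv.symm_symm]
  have hle : ∀ N : Subgroup C', N ≤ S.map e.toMonoidHom → N.map e.symm.toMonoidHom ≤ S := by
    intro N hN x hx
    have := hN ((mm N x).1 hx)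
    rw [mem_map_iff] at this
    simpa using this
  exact
  { ne := fun e1 => h.ne (by simpa using e1)
    sq := by rw [← map_mul, h.sq, map_one]
    cen := fun x => by
      obtain ⟨y, rfl⟩ := e.surjective x
      rw [← map_mul, ← map_mul, h.cen]
    memS := mem_map_of_mem _ h.memS
    An := h.An.map _ e.surjective
    simple := by
      have := h.simple
      exact ((A.equivMapOfInjective e.toMonoidHom e.injective).symm).isSimpleGroup
    na := by
      obtain ⟨a, ha, b, hb, hab⟩ := h.na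
      exact ⟨e a, mem_map_of_mem _ ha, e b, mem_map_of_mem _ hb, fun e1 => hab (e.injective (by simpa only [_root_.map_mul] using e1))⟩
    cenA := by
      intro x
      rw [mem_map_iff, h.cenA]
      constructor
      · rintro h1 _ ⟨a, ha, rfl⟩
        have := congrArg e (h1 a ha)
        simpa only [_root_.MulEquiv.toMonoidHom_eq_coe, _root_.MonoidHom.coe_coe, _root_.map_mul, _root_.MulEquiv.apply_symm_apply] using this
      · intro h1 a ha
        have := congrArg e.symm (h1 (e a) (mem_map_of_mem _ ha))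
        simpa only [_root_.map_mul, _root_.MulEquiv.symm_apply_apply] using this
    umin := by
      intro N hN hNS hN1
      have h1 := h.umin (N.map e.symm.toMonoidHom) (hN.map _ e.symm.surjective) (hle N hNS) (by
        rw [Ne, Subgroup.map_eq_bot_iff]
        intro h2
        apply hN1
        rw [eq_bot_iff]
        refine h2.trans ?_
        intro x hx
        rw [MonoidHom.mem_ker] at hx
        rw [mem_bot]
        exact e.symm.injective (by simpa using hx))
      exact (mm N z).1 h1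
    abel := by
      intro N hN hNS y hy hy1 hyz hc n hn
      have h1 := h.abel (N.map e.symm.toMonoidHom) (hN.map _ e.symm.surjective) (hle N hNS) (e.symm y)
        (mem_map_of_mem _ hy) (fun e1 => hy1 (by simpa using e1)) (fun e1 => hyz (by rw [← e1]; simp)) (by
          rintro _ ⟨m, hm, rfl⟩
          have := congrArg e.symm (hc m hm)
          simpa only [_root_.MulEquiv.toMonoidHom_eq_coe, _root_.MonoidHom.coe_coe, _root_.map_mul] using this) (e.symm n) (mem_map_of_mem _ hn)
      have := congrArg e h1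
      simpa only [_root_.map_mul, _root_.MulEquiv.apply_symm_apply, _root_.map_one] using this
    En := h.En.map _ e.surjective
    ES := map_mono h.ES
    Esq := by
      rintro _ ⟨x, hx, rfl⟩
      have := congrArg e (h.Esq x hx)
      simpa only [_root_.MulEquiv.toMonoidHom_eq_coe, _root_.MonoidHom.coe_coe, _root_.map_mul, _root_.map_one] using this
    self := by
      intro x hx hc
      rw [mem_map_iff] at hx ⊢
      apply h.self _ hx
      intro y hy
      have := congrArg e.symm (hc (e y) (mem_map_of_mem _ hy))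
      simpa only [_root_.map_mul, _root_.MulEquiv.symm_apply_apply] using this
    odd := by
      obtain ⟨c, hc, hcA⟩ := h.odd
      refine ⟨e c, by rw [← map_mul, hc, map_one], ?_⟩
      rintro _ ⟨a, ha, rfl⟩ h1
      rw [mem_map_iff] at h1
      exact hcA a ha (by simpa using h1)
    cm := by
      obtain ⟨a, b, ha, hb, h1, h2⟩ := h.cm
      refine ⟨e a, e b, by rw [← map_mul, ha, map_one], by rw [← map_mul, hb, map_one], ?_, ?_⟩
      · rw [mem_map_iff]; simpa only [_root_.map_mul, _root_.MulEquiv.symm_apply_apply, _root_.map_inv] using h1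
      · intro h3
        apply h2
        apply e.injective
        simpa only [_root_.map_mul, _root_.map_inv, _root_.map_one] using h3
    rich := by
      rintro _ ⟨u, hu, rfl⟩ hu1 hu2
      obtain ⟨x, hx, hxu, hxx⟩ := h.rich u hu (fun e1 => hu1 (by rw [e1]; exact map_one e))
        (e.injective (by simpa only [_root_.map_mul, _root_.map_one, _root_.MulEquiv.toMonoidHom_eq_coe, _root_.MonoidHom.coe_coe] using hu2))
      refine ⟨e x, mem_map_of_mem _ hx, ?_, ?_⟩
      · have := congrArg e hxu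
        simpa only [_root_.MulEquiv.toMonoidHom_eq_coe, _root_.MonoidHom.coe_coe, _root_.map_mul] using this
      · intro e1
        exact hxx (e.injective (by simpa using e1)) }

/-- the central involution -/
theorem Fr.eq_z (h : Fr C z A S E) {w : C} (hw : w * w = 1) (hw1 : w ≠ 1) (hc : ∀ x, x * w = w * x) : w = z := by
  have h1 : ∀ x ∈ zpowers w, x = 1 ∨ x = w := by
    rintro _ ⟨k, rfl⟩
    rcases Int.even_or_odd' k with ⟨m, rfl | rfl⟩
    · left
      show w ^ (2 * m) = 1
      rw [zpow_mul, zpow_two, hw, one_zpow]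
    · right
      show w ^ (2 * m + 1) = w
      rw [zpow_add, zpow_mul, zpow_two, hw, one_zpow, one_mul, zpow_one]
  have h2 := h.umin (zpowers w) ⟨fun n hn g => by
      rcases h1 n hn with e | e
      · rw [e]; simp
      · rw [e, hc g, mul_inv_cancel_right]; exact mem_zpowers w⟩ (by
        rw [zpowers_le, h.cenA]
        intro a _
        exact (hc a).symm) (fun e => hw1 (by
          have := mem_zpowers w
          rwa [e, mem_bot] at this))
  rcases h1 z h2 with e | e
  · exact absurd e h.ne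
  · exact e.symm

/-- no normal subgroup of odd order -/
theorem Fr.odd_bot [Finite C] (h : Fr C z A S E) (N : Subgroup C) (hN : N.Normal) (ho : Odd (Nat.card N)) : N = ⊥ := by
  by_contra hne
  rcases simple_dichotomy h.simple (N := N) (fun a _ n hn => hN.conj_mem n hn a) with h1 | h1
  · have h2 : Odd (Nat.card A) := Odd.of_dvd_nat ho (card_dvd_of_le h1)
    have h3 : Group.IsSolvable A := Cfsg.Agent.S0205.result h2
    have h4 : IsQuasisimple A := by
      have := h.simple
      apply CTwoTab.isQuasisimple_of_simple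
      rintro ⟨⟨hc⟩⟩
      obtain ⟨a, ha, b, hb, hab⟩ := h.na
      exact hab (congrArg Subtype.val (hc ⟨a, ha⟩ ⟨b, hb⟩))
    exact SignalizersComponents.Components.quasisimple_not_isSolvable h4 h3
  · have h2 : z ∈ N := h.umin N hN (by
      intro n hn
      rw [h.cenA]
      intro a ha
      have h3 : n * a * n⁻¹ * a⁻¹ ∈ A := A.mul_mem (h.An.conj_mem a ha n) (A.inv_mem ha)
      have h4 : n * a * n⁻¹ * a⁻¹ ∈ N := by
        have e : n * a * n⁻¹ * a⁻¹ = n * (a * n⁻¹ * a⁻¹) := by group
        rw [e]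
        exact N.mul_mem hn (hN.conj_mem _ (N.inv_mem hn) a)
      have h5 := h1 _ h3 h4
      rw [mul_inv_eq_one] at h5
      exact mul_inv_eq_iff_eq_mul.1 h5) hne
    have h5 : orderOf (⟨z, h2⟩ : N) ∣ Nat.card N := _root_.orderOf_dvd_natCard _
    have h6 : orderOf (⟨z, h2⟩ : N) = 2 := by
      have : Fact (Nat.Prime 2) := ⟨Nat.prime_two⟩
      apply orderOf_eq_prime
      · apply Subtype.ext; simpa only [pow_two, _root_.MulMemClass.mk_mul_mk, _root_.OneMemClass.coe_one] using h.sq
      · intro e; exact h.ne (congrArg Subtype.val e)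
    rw [h6] at h5
    exact (Nat.not_even_iff_odd.mpr ho) (even_iff_two_dvd.mpr h5)

end map

section cent

variable {X : Type*} [Group X] {t : X} {z : ↥(centralizer ({t} : Set X))} {A S E : Subgroup ↥(centralizer ({t} : Set X))}

theorem FX.of_fr (h : Fr ↥(centralizer ({t} : Set X)) z A S E) (hz : (z : X) = t) :
    FX t (A.map (centralizer ({t} : Set X)).subtype) (E.map (centralizer ({t} : Set X)).subtype) := by
  have mc : ∀ {x : X}, x * t = t * x → x ∈ centralizer ({t} : Set X) := fun hx => mem_centralizer_singleton_iff.2 hx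
  have cm : ∀ x : ↥(centralizer ({t} : Set X)), (x : X) * t = t * x := fun x => mem_centralizer_singleton_iff.1 x.2
  -- subgroups of `C`
  have sub : ∀ N : Subgroup X, (∀ n ∈ N, n * t = t * n) → (∀ n ∈ N, ∀ a ∈ A.map (centralizer ({t} : Set X)).subtype, n * a = a * n) →
    (∀ c, c * t = t * c → ∀ n ∈ N, c * n * c⁻¹ ∈ N) → (N.subgroupOf (centralizer ({t} : Set X))).Normal ∧
      N.subgroupOf (centralizer ({t} : Set X)) ≤ S := by
    intro N h1 h2 h3
    refine ⟨⟨fun n hn g => mem_subgroupOf.2 ?_⟩, fun n hn => ?_⟩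
    · exact h3 g (cm g) n (mem_subgroupOf.1 hn)
    · rw [h.cenA]
      intro a ha
      exact Subtype.ext (h2 n (mem_subgroupOf.1 hn) a (mem_map_of_mem _ ha))
  exact
  { ne := fun e => h.ne (Subtype.ext (hz.trans e))
    sq := by
      have := congrArg Subtype.val h.sq
      simpa only [hz, _root_.Subgroup.coe_mul, _root_.OneMemClass.coe_one] using this
    cA := by rintro _ ⟨a, ha, rfl⟩; exact cm a
    nA := by
      rintro c hc _ ⟨a, ha, rfl⟩
      exact ⟨(⟨c, mc hc⟩ * a * ⟨c, mc hc⟩⁻¹ :), h.An.conj_mem a ha _, rfl⟩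
    simple := by
      have := h.simple
      exact ((A.equivMapOfInjective _ (subtype_injective _)).symm).isSimpleGroup
    na := by
      obtain ⟨a, ha, b, hb, hab⟩ := h.na
      exact ⟨a, mem_map_of_mem _ ha, b, mem_map_of_mem _ hb, fun e1 => hab (Subtype.ext e1)⟩
    umin := by
      intro N h1 h2 h3 hN
      obtain ⟨h4, h5⟩ := sub N h1 h2 h3
      have h6 := h.umin _ h4 h5 (by
        intro e
        apply hN
        rw [eq_bot_iff]
        intro n hn
        have : (⟨n, mc (h1 n hn)⟩ : ↥(centralizer ({t} : Set X))) ∈ N.subgroupOf (centralizer ({t} : Set X)) := mem_subgroupOf.2 hn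
        rw [e, mem_bot] at this
        exact mem_bot.2 (congrArg Subtype.val this))
      rw [← hz]; exact mem_subgroupOf.1 h6
    abel := by
      intro N h1 h2 h3 y hy hy1 hyt hc n hn
      obtain ⟨h4, h5⟩ := sub N h1 h2 h3
      have h6 := h.abel _ h4 h5 ⟨y, mc (h1 y hy)⟩ (mem_subgroupOf.2 hy) (fun e => hy1 (congrArg Subtype.val e))
        (fun e => hyt (by rw [← hz, ← e])) (fun m hm => Subtype.ext (hc m (mem_subgroupOf.1 hm)))
        ⟨n, mc (h1 n hn)⟩ (mem_subgroupOf.2 hn)
      exact congrArg Subtype.val h6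
    Et := by rintro _ ⟨a, ha, rfl⟩; exact cm a
    EA := by
      rintro _ ⟨e, he, rfl⟩ _ ⟨a, ha, rfl⟩
      exact congrArg Subtype.val ((h.cenA e).1 (h.ES he) a ha)
    nE := by
      rintro c hc _ ⟨a, ha, rfl⟩
      exact ⟨(⟨c, mc hc⟩ * a * ⟨c, mc hc⟩⁻¹ :), h.En.conj_mem a ha _, rfl⟩
    Esq := by
      rintro _ ⟨e, he, rfl⟩
      exact congrArg Subtype.val (h.Esq e he)
    self := by
      intro x hx h1 h2
      refine ⟨⟨x, mc hx⟩, ?_, rfl⟩
      apply h.self
      · rw [h.cenA]
        intro a ha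
        exact Subtype.ext (h1 a (mem_map_of_mem _ ha))
      · intro e he
        exact Subtype.ext (h2 e (mem_map_of_mem _ he))
    odd := by
      obtain ⟨c, hc, hcA⟩ := h.odd
      refine ⟨c, cm c, congrArg Subtype.val hc, ?_⟩
      rintro _ ⟨a, ha, rfl⟩ h1
      apply hcA a ha
      rw [h.cenA]
      intro b hb
      exact Subtype.ext (h1 b (mem_map_of_mem _ hb))
    cm := by
      obtain ⟨a, b, ha, hb, h1, h2⟩ := h.cm
      refine ⟨a, b, cm a, cm b, congrArg Subtype.val ha, congrArg Subtype.val hb, ?_, fun e => h2 (Subtype.ext e)⟩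
      rintro _ ⟨x, hx, rfl⟩
      exact congrArg Subtype.val ((h.cenA _).1 h1 x hx)
    rich := by
      rintro _ ⟨u, hu, rfl⟩ hu1 hu2
      obtain ⟨x, hx, hxu, hxx⟩ := h.rich u hu (fun e => hu1 (by rw [e]; rfl)) (Subtype.ext hu2)
      exact ⟨x, mem_map_of_mem _ hx, congrArg Subtype.val hxu, fun e => hxx (Subtype.ext e)⟩ }

end cent

section quot

variable {G : Type*} [Group G] [Finite G] {z : G}

/-- The centralizer in the quotient by a normal subgroup of odd order on which `z` has no fixed points. -/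
theorem cent_quot (M : Subgroup G) [M.Normal] (hM : Odd (Nat.card M)) (hz : z * z = 1)
    (hfree : ∀ m ∈ M, m * z = z * m → m = 1) :
    ∃ f : ↥(centralizer ({z} : Set G)) ≃* ↥(centralizer ({(QuotientGroup.mk' M z)} : Set (G ⧸ M))),
      ∀ x, ((f x : ↥(centralizer ({(QuotientGroup.mk' M z)} : Set (G ⧸ M)))) : G ⧸ M) = QuotientGroup.mk' M x := by
  have : Fact (Nat.Prime 2) := ⟨Nat.prime_two⟩
  let f : ↥(centralizer ({z} : Set G)) →* ↥(centralizer ({(QuotientGroup.mk' M z)} : Set (G ⧸ M))) :=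
    ((QuotientGroup.mk' M).comp (centralizer ({z} : Set G)).subtype).codRestrict _ (fun x => by
      rw [mem_centralizer_singleton_iff, MonoidHom.comp_apply, ← map_mul, ← map_mul]
      congr 1
      exact mem_centralizer_singleton_iff.mp x.2)
  have hf : ∀ x, ((f x : ↥(centralizer ({(QuotientGroup.mk' M z)} : Set (G ⧸ M)))) : G ⧸ M) = QuotientGroup.mk' M x := fun _ => rfl
  have hsurj : Function.Surjective f := by
    intro y
    have h1 := PLocal.CoprimeLift.map_centralizer_mk (p := 2) M (zpowers z) (Nat.coprime_two_right.mpr hM)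
      (Red.isPGroup_zpowers hz)
    have h2 : (y : G ⧸ M) ∈ centralizer ((zpowers z).map (QuotientGroup.mk' M) : Set (G ⧸ M)) := by
      rw [MonoidHom.map_zpowers]
      rw [mem_centralizer_iff]
      rintro _ ⟨k, rfl⟩
      have h3 := mem_centralizer_singleton_iff.mp y.2
      exact (Commute.zpow_left (show Commute (QuotientGroup.mk' M z) (y : G ⧸ M) from h3.symm) k)
    rw [← h1] at h2
    obtain ⟨x, hx, e1⟩ := h2
    refine ⟨⟨x, ?_⟩, Subtype.ext e1⟩
    exact mem_centralizer_singleton_iff.mpr (((mem_centralizer_iff.mp hx) z (mem_zpowers z)).symm)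
  have hinj : Function.Injective f := by
    rw [injective_iff_map_eq_one]
    intro a ha
    have h1 := congrArg Subtype.val ha
    rw [hf] at h1
    exact Subtype.ext (hfree a ((QuotientGroup.eq_one_iff _).mp h1) (mem_centralizer_singleton_iff.1 a.2))
  exact ⟨MulEquiv.ofBijective f ⟨hinj, hsurj⟩, fun x => rfl⟩

end quot

section out

open Equiv Equiv.Perm

theorem sq_range {n : ℕ} {α : MulAut (alternatingGroup (Fin n))} (h : ∃ σ : Perm (Fin n),
    ∀ x : alternatingGroup (Fin n), (α x : Perm (Fin n)) = σ * x * σ⁻¹) :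
    α * α ∈ (MulAut.conj : alternatingGroup (Fin n) →* MulAut (alternatingGroup (Fin n))).range := by
  obtain ⟨σ, hσ⟩ := h
  have hs : σ * σ ∈ alternatingGroup (Fin n) := by
    rw [Perm.mem_alternatingGroup, map_mul]
    rcases Int.units_eq_one_or (Perm.sign σ) with h | h <;> rw [h] <;> decide
  refine ⟨⟨σ * σ, hs⟩, ?_⟩
  apply MulEquiv.ext
  intro x
  apply Subtype.ext
  rw [MulAut.mul_apply, hσ, hσ, MulAut.conj_apply]
  push_cast
  group

/-- `Out(A_n)` is a 2-group. -/
theorem out_alt {n : ℕ} (hn : 6 ≤ n) (α : MulAut (alternatingGroup (Fin n))) :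
    ∃ k : ℕ, α ^ 2 ^ k ∈ (MulAut.conj : alternatingGroup (Fin n) →* MulAut (alternatingGroup (Fin n))).range := by
  rcases Nat.lt_or_ge n 7 with h7 | h7
  · obtain rfl : n = 6 := by omega
    refine ⟨2, ?_⟩
    have h1 : StdAlt.Six.NS (α * α) := by
      by_cases h : StdAlt.Six.NS α
      · exact h.mul h
      · exact StdAlt.Six.NS.mul_of_not h h
    have h2 := sq_range h1
    have e : α ^ 2 ^ 2 = α * α * (α * α) := by
      rw [show (2 ^ 2 : ℕ) = 2 + 2 by norm_num, pow_add, pow_two]
    rw [e]; exact h2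
  · obtain ⟨m, rfl⟩ := Nat.exists_eq_add_of_le' (show 2 ≤ n by omega)
    refine ⟨1, ?_⟩
    have h2 := sq_range (Cfsg.Agent.StandardComponent.AltAut.exists_conj (by omega) α)
    rw [pow_one, pow_two]; exact h2

theorem out_equiv {A B : Type*} [Group A] [Group B] (e : A ≃* B)
    (h : ∀ α : MulAut B, ∃ k : ℕ, α ^ 2 ^ k ∈ (MulAut.conj : B →* MulAut B).range) (α : MulAut A) :
    ∃ k : ℕ, α ^ 2 ^ k ∈ (MulAut.conj : A →* MulAut A).range := by
  obtain ⟨k, b, hb⟩ := h (MulAut.congr e α)
  refine ⟨k, e.symm b, ?_⟩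
  rw [← map_pow] at hb
  have h1 : MulAut.congr e (MulAut.conj (e.symm b)) = MulAut.conj b := by
    apply MulEquiv.ext
    intro x
    simp only [MulAut.congr, MulAut.conj_apply, _root_.MulEquiv.coe_mk, _root_.Equiv.coe_fn_mk, _root_.MulEquiv.trans_apply, _root_.map_mul, _root_.MulEquiv.apply_symm_apply, _root_.map_inv]
  rw [← h1] at hb
  exact (MulAut.congr e).injective hb

end out

section cc

open Equiv Equiv.Perm Cfsg.Agent.H313.Alt

variable {Ω : Type*} [DecidableEq Ω] [Fintype Ω]

/-- the centralizer in the alternating group -/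
def centEquiv (zt : ↥(alternatingGroup Ω)) :
    ↥(centralizer ({zt} : Set ↥(alternatingGroup Ω))) ≃* ↥(CC (zt : Perm Ω)) where
  toFun x := ⟨((x : ↥(alternatingGroup Ω)) : Perm Ω), mem_CC.2
    ⟨congrArg Subtype.val (mem_centralizer_singleton_iff.1 x.2), mem_alternatingGroup.1 (x : ↥(alternatingGroup Ω)).2⟩⟩
  invFun x := ⟨⟨(x : Perm Ω), mem_alternatingGroup.2 (mem_CC.1 x.2).2⟩,
    mem_centralizer_singleton_iff.2 (Subtype.ext (mem_CC.1 x.2).1)⟩
  left_inv _ := rfl
  right_inv _ := rfl
  map_mul' _ _ := rfl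

/-- `Out` of the alternating group of the fixed points -/
theorem out_AA {s : Perm Ω} (hF : 6 ≤ Fintype.card {x // s x = x}) (α : MulAut ↥(AA s)) :
    ∃ k : ℕ, α ^ 2 ^ k ∈ (MulAut.conj : ↥(AA s) →* MulAut ↥(AA s)).range := by
  have e := (altEquiv s).symm.trans (Equiv.altCongrHom (Fintype.equivFin {x // s x = x}))
  exact out_equiv e (out_alt hF) α

end cc

section main

open Equiv Equiv.Perm Cfsg.Agent.H313.Alt

/-- **The reduction.** -/
theorem setup {Ω : Type*} [DecidableEq Ω] [Fintype Ω] {s : Perm Ω} (hs : s * s = 1) (hsC : s ∈ CC s) (h1 : s ≠ 1)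
    (hD : 4 ∣ s.support.card) (hF : 6 ≤ Fintype.card {x // s x = x})
    {G : Type*} [Group G] [Finite G] (hG : ∀ H : Subgroup G, H.index ≠ 2) {z : G} (hz : orderOf z = 2)
    (e : ↥(centralizer ({z} : Set G)) ≃* ↥(CC s)) :
    ∃ (f : ↥(CC s) ≃* ↥(centralizer ({(QuotientGroup.mk' (pPrimeCore 2 G) z)} : Set (G ⧸ pPrimeCore 2 G))))
      (E : Subgroup (G ⧸ pPrimeCore 2 G)),
      ((f ⟨s, hsC⟩ : ↥(centralizer ({(QuotientGroup.mk' (pPrimeCore 2 G) z)} : Set (G ⧸ pPrimeCore 2 G)))) :
        G ⧸ pPrimeCore 2 G) = QuotientGroup.mk' (pPrimeCore 2 G) z ∧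
      FX (QuotientGroup.mk' (pPrimeCore 2 G) z)
        (((AA s).map f.toMonoidHom).map
          (centralizer ({(QuotientGroup.mk' (pPrimeCore 2 G) z)} : Set (G ⧸ pPrimeCore 2 G))).subtype) E ∧
      (∀ m ∈ pPrimeCore 2 G, m * z = z * m → m = 1) ∧
      ∃ M : Subgroup (G ⧸ pPrimeCore 2 G), M.Normal ∧ IsSimpleGroup M ∧ (∃ a ∈ M, ∃ b ∈ M, a * b ≠ b * a) ∧
        centralizer (M : Set (G ⧸ pPrimeCore 2 G)) = ⊥ ∧
        (((AA s).map f.toMonoidHom).map
          (centralizer ({(QuotientGroup.mk' (pPrimeCore 2 G) z)} : Set (G ⧸ pPrimeCore 2 G))).subtype) < M := by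
  obtain ⟨E0, hE⟩ := fr hs hsC h1 hD hF
  have hC : Finite ↥(CC s) := inferInstance
  have hz2 : z * z = 1 := by rw [← pow_two, ← hz, pow_orderOf_eq_one]
  have hz1 : z ≠ 1 := by intro e1; rw [e1, orderOf_one] at hz; omega
  -- `z` corresponds to `s`
  have hes : e ⟨z, mem_centralizer_singleton_iff.2 rfl⟩ = ⟨s, hsC⟩ := by
    apply Fr.eq_z hE
    · rw [← map_mul, ← map_one e]; congr 1; exact Subtype.ext hz2
    · intro e1
      rw [EmbeddingLike.map_eq_one_iff] at e1
      exact hz1 (congrArg Subtype.val e1)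
    · intro x
      obtain ⟨y, rfl⟩ := e.surjective x
      rw [← map_mul, ← map_mul]
      congr 1
      exact Subtype.ext (mem_centralizer_singleton_iff.mp y.2)
  have hfree : ∀ m ∈ pPrimeCore 2 G, m * z = z * m → m = 1 := by
    intro m hm hmz
    have h2 : ((pPrimeCore 2 G).subgroupOf (centralizer ({z} : Set G))).map e.toMonoidHom = ⊥ := by
      apply Fr.odd_bot hE
      · exact (inferInstance : ((pPrimeCore 2 G).subgroupOf (centralizer ({z} : Set G))).Normal).map _ e.surjective
      · have h3 : Nat.card ↥(((pPrimeCore 2 G).subgroupOf (centralizer ({z} : Set G))).map e.toMonoidHom) =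
            Nat.card ↥((pPrimeCore 2 G).subgroupOf (centralizer ({z} : Set G))) :=
          Nat.card_congr (Subgroup.equivMapOfInjective _ e.toMonoidHom e.injective).symm.toEquiv
        rw [h3]
        refine Odd.of_dvd_nat (Red.oddCore_odd (G := G)) ?_
        exact card_dvd_of_injective (((centralizer ({z} : Set G)).subtype.comp
          ((pPrimeCore 2 G).subgroupOf (centralizer ({z} : Set G))).subtype).codRestrict (pPrimeCore 2 G)
            (fun x => mem_subgroupOf.1 x.2)) (by
          intro a b hab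
          have := congrArg Subtype.val hab
          exact Subtype.ext (Subtype.ext this))
    rw [Subgroup.map_eq_bot_iff] at h2
    have h3 : (⟨m, mem_centralizer_singleton_iff.2 hmz⟩ : ↥(centralizer ({z} : Set G))) ∈ e.toMonoidHom.ker :=
      h2 (mem_subgroupOf.2 hm)
    have h4 : e (⟨m, mem_centralizer_singleton_iff.2 hmz⟩ : ↥(centralizer ({z} : Set G))) = 1 := h3
    rw [EmbeddingLike.map_eq_one_iff] at h4
    exact congrArg Subtype.val h4
  obtain ⟨g, hg⟩ := cent_quot (pPrimeCore 2 G) Red.oddCore_odd hz2 hfree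
  have hfs : (((e.symm.trans g) ⟨s, hsC⟩ : ↥(centralizer ({(QuotientGroup.mk' (pPrimeCore 2 G) z)} : Set (G ⧸ pPrimeCore 2 G)))) :
        G ⧸ pPrimeCore 2 G) = QuotientGroup.mk' (pPrimeCore 2 G) z := by
    rw [MulEquiv.trans_apply, ← hes, MulEquiv.symm_apply_apply, hg]
  have hFX := FX.of_fr (Fr.map hE (e.symm.trans g)) hfs
  refine ⟨e.symm.trans g, _, hfs, hFX, hfree, ?_⟩
  refine hFX.exists_simple (fun N hN ho => Red.quot_no_odd N hN ho) (Red.quot_no_two _ hG) ?_
  exact out_equiv ((((AA s).equivMapOfInjective _ (e.symm.trans g).injective).trans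
    (Subgroup.equivMapOfInjective _ _ (subtype_injective _))).symm) (out_AA hF)

end main

end Cfsg.Agent.H313.AltTrans
end

-- part: H313/AltCard
section
/-!
# Orders of the centralizers of involutions in alternating groups (helper313)
-/

set_option autoImplicit false
set_option linter.unusedSectionVars false

namespace Cfsg.Agent.H313.AltCard

open Subgroup Equiv Equiv.Perm
open Cfsg.Agent.H313.Alt

variable {Ω : Type*} [DecidableEq Ω] [Fintype Ω] {s : Perm Ω}

theorem card_cent (hs : s * s = 1) : ∃ c : ℕ, s.support.card = 2 * c ∧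
    Nat.card (centralizer ({s} : Set (Perm Ω))) = (Fintype.card Ω - 2 * c).factorial * 2 ^ c * c.factorial := by
  have : Fact (Nat.Prime 2) := ⟨Nat.prime_two⟩
  have h1 : s ^ 2 = 1 := by rw [pow_two]; exact hs
  have h2 := cycleType_of_pow_prime_eq_one h1
  set c := Multiset.card s.cycleType with hc
  have h3 : s.support.card = 2 * c := by
    rw [← sum_cycleType, h2, Multiset.sum_replicate, smul_eq_mul, mul_comm]
  refine ⟨c, h3, ?_⟩
  have h4 := nat_card_centralizer (g := s)
  rw [sum_cycleType, h3, h2, Multiset.prod_replicate] at h4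
  rw [h4]
  congr 1
  rcases Nat.eq_zero_or_pos c with h0 | h0
  · rw [h0]; simp
  · rw [Multiset.toFinset_replicate, if_neg (by omega), Finset.prod_singleton, Multiset.count_replicate_self]

theorem card_CC (hs : s * s = 1) {f g : Ω} (hf : s f = f) (hg : s g = g) (hfg : f ≠ g) : ∃ c : ℕ,
    s.support.card = 2 * c ∧ 2 * Nat.card (CC s) = (Fintype.card Ω - 2 * c).factorial * 2 ^ c * c.factorial := by
  obtain ⟨c, h1, h2⟩ := card_cent hs
  refine ⟨c, h1, ?_⟩
  rw [← h2]
  have h3 : swap f g ∈ centralizer ({s} : Set (Perm Ω)) := mem_centralizer_singleton_iff.2 (sw_comm hf hg)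
  have h4 : (CC s).relIndex (centralizer ({s} : Set (Perm Ω))) = 2 := by
    have h5 : ((alternatingGroup Ω).subgroupOf (centralizer ({s} : Set (Perm Ω)))).index = 2 := by
      rw [index_eq_two_iff]
      refine ⟨⟨swap f g, h3⟩, fun b => ?_⟩
      rw [mem_subgroupOf, mem_subgroupOf, mem_alternatingGroup, mem_alternatingGroup, Subgroup.coe_mul, Perm.sign_mul,
        sign_swap hfg]
      rcases Int.units_eq_one_or (Perm.sign (b : Perm Ω)) with h | h <;> rw [h] <;> decide
    rw [← h5, relIndex]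
    congr 1
    ext x
    rw [mem_subgroupOf, mem_subgroupOf, CC, mem_inf]
    exact ⟨fun h => h.2, fun h => ⟨x.2, h⟩⟩
  have h6 : CC s ≤ centralizer ({s} : Set (Perm Ω)) := inf_le_left
  rw [← h4, mul_comm, ← Nat.card_congr (subgroupOfEquivOfLe h6).toEquiv]
  exact card_mul_index _

theorem fac_lt {a b : ℕ} (h : a < b) : 2 ^ a * a.factorial < 2 ^ b * b.factorial :=
  Nat.mul_lt_mul_of_lt_of_le (Nat.pow_lt_pow_right (by norm_num) h) (Nat.factorial_le h.le) (Nat.factorial_pos _)

/-- the number of fixed points -/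
theorem card_fix (s : Perm Ω) : Fintype.card {x // s x = x} = Fintype.card Ω - s.support.card := by
  rw [← sum_cycleType, ← card_fixedPoints]
  exact Fintype.card_congr (Equiv.refl _)

theorem card_CC' (hs : s * s = 1) (h2 : 2 ≤ Fintype.card {x // s x = x}) :
    ∃ c : ℕ, s.support.card = 2 * c ∧ 2 * Nat.card (CC s) = (Fintype.card {x // s x = x}).factorial * (2 ^ c * c.factorial) := by
  obtain ⟨⟨f, hf⟩, ⟨g, hg⟩, hfg⟩ := Fintype.one_lt_card_iff.1 (show 1 < Fintype.card {x // s x = x} by omega)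
  obtain ⟨c, h3, h4⟩ := card_CC hs hf hg (fun e => hfg (Subtype.ext e))
  exact ⟨c, h3, by rw [h4, card_fix, h3, mul_assoc]⟩

/-- The order of the centralizer determines the number of moved points. -/
theorem card_inj {Ω' : Type*} [DecidableEq Ω'] [Fintype Ω'] {s' : Perm Ω'} (hs : s * s = 1) (hs' : s' * s' = 1)
    (h2 : 2 ≤ Fintype.card {x // s x = x}) (hf : Fintype.card {x // s x = x} = Fintype.card {x // s' x = x})
    (hc : Nat.card (CC s) = Nat.card (CC s')) : Fintype.card Ω = Fintype.card Ω' := by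
  obtain ⟨c, h3, h4⟩ := card_CC' hs h2
  obtain ⟨c', h3', h4'⟩ := card_CC' hs' (by omega)
  rw [← hc, h4, hf] at h4'
  have h5 := Nat.eq_of_mul_eq_mul_left (Nat.factorial_pos _) h4'
  have h6 : c = c' := by
    rcases Nat.lt_trichotomy c c' with h | h | h
    · exact absurd h5 (fac_lt h).ne
    · exact h
    · exact absurd h5 (fac_lt h).ne'
  have h7 := card_fix s
  have h8 := card_fix s'
  have h9 := Finset.card_le_univ s.support
  have h10 := Finset.card_le_univ s'.support
  rw [← hf] at h8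
  omega

end Cfsg.Agent.H313.AltCard
end
end

-- part: H306/Kon/Finish_mg
section
prune_inst 0x420004000010000000000000000002000480001000020000000000a000201010100028100348002000102022000080020008800490000000000000200000005210028000210000000000000008800000000000000000000000000000000000000000000000
set_option linter.all false
open scoped Cfsg.Agent.FastGrp

-- part: H306/Kon/OddNormal
section
/-!
# Normal subgroups of odd order in the centralizer of an involution of an alternating group (helper306, for S3218)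
-/

set_option autoImplicit false
set_option linter.unusedSectionVars false

namespace Cfsg.Agent.H306.Kon

open Equiv Equiv.Perm Cfsg.Agent.H313.Alt

section

variable {Ω : Type*} [DecidableEq Ω] [Fintype Ω] {s : Perm Ω} {K : Subgroup (Perm Ω)}

theorem tr_comm_tr (hs : s * s = 1) (x y : Ω) : tr s x * tr s y = tr s y * tr s x := by
  have h := conj_tr (s := s) (c := tr s x) (tr_comm hs x) y
  have h2 : tr s (tr s x y) = tr s y := by
    by_cases h1 : y = x
    · rw [h1, tr_left, tr_s hs]
    by_cases h3 : y = s x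
    · rw [h3, tr_right, tr_s hs]
    rw [tr_of_ne h1 h3]
  rw [h2, mul_inv_eq_iff_eq_mul] at h
  exact h

theorem eq_one_of_sq {K : Subgroup (Perm Ω)} (hodd : Odd (Nat.card K)) {w : Perm Ω} (hw : w ∈ K) (hww : w * w = 1) :
    w = 1 := by
  have h1 : orderOf (⟨w, hw⟩ : K) ∣ Nat.card K := orderOf_dvd_natCard _
  have h2 : orderOf (⟨w, hw⟩ : K) ∣ 2 := orderOf_dvd_of_pow_eq_one (by rw [pow_two]; exact Subtype.ext hww)
  rcases (Nat.dvd_prime Nat.prime_two).1 h2 with h3 | h3
  · exact congrArg Subtype.val (orderOf_eq_one_iff.1 h3)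
  · rw [h3] at h1
    exact absurd (hodd.of_dvd_nat h1) (by decide)

/-- odd normal subgroups of the centralizer fix the moved points of `s` -/
theorem fix_moved (hs : s * s = 1) (hex : ∀ a, s a ≠ a → ∃ b, Dis s a b) (hK : K ≤ CC s)
    (hN : ∀ c ∈ CC s, ∀ n ∈ K, c * n * c⁻¹ ∈ K) (hodd : Odd (Nat.card K)) {n : Perm Ω} (hn : n ∈ K) {a : Ω}
    (ha : s a ≠ a) : n a = a := by
  obtain ⟨b, hab⟩ := hex a ha
  have hnC := (mem_CC.1 (hK hn)).1
  set u : Perm Ω := tr s a * tr s b with hu
  have huC : u ∈ CC s := trtr_mem hs hab.x1 hab.y1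
  have huu : u * u = 1 := by
    rw [hu, mul_assoc, ← mul_assoc (tr s b), ← tr_comm_tr hs a b, mul_assoc, tr_tr, mul_one, tr_tr]
  have hui : u⁻¹ = u := inv_eq_of_mul_eq_one_left huu
  have hw : n * u * n⁻¹ * u⁻¹ ∈ K := by
    have h1 := hN u huC n⁻¹ (K.inv_mem hn)
    have h2 := K.mul_mem hn h1
    have h3 : n * (u * n⁻¹ * u⁻¹) = n * u * n⁻¹ * u⁻¹ := by group
    rwa [h3] at h2
  have hcu : n * u * n⁻¹ = tr s (n a) * tr s (n b) := by
    rw [hu, ← conj_tr hnC, ← conj_tr hnC]; group
  have hcomm : (n * u * n⁻¹) * u = u * (n * u * n⁻¹) := by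
    rw [hcu, hu]
    have h1 := tr_comm_tr hs
    calc tr s (n a) * tr s (n b) * (tr s a * tr s b) = tr s (n a) * (tr s (n b) * tr s a) * tr s b := by group
      _ = tr s (n a) * tr s a * (tr s (n b) * tr s b) := by rw [h1 (n b) a]; group
      _ = tr s a * (tr s (n a) * tr s b) * tr s (n b) := by rw [h1 (n a) a, h1 (n b) b]; group
      _ = tr s a * tr s b * (tr s (n a) * tr s (n b)) := by rw [h1 (n a) b]; group
  have hww : (n * u * n⁻¹ * u⁻¹) * (n * u * n⁻¹ * u⁻¹) = 1 := by
    rw [hui]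
    calc n * u * n⁻¹ * u * (n * u * n⁻¹ * u) = n * u * n⁻¹ * u * (u * (n * u * n⁻¹)) := by rw [hcomm]
      _ = n * u * n⁻¹ * (u * u) * (n * u * n⁻¹) := by group
      _ = n * u * n⁻¹ * (n * u * n⁻¹) := by rw [huu, mul_one]
      _ = n * (u * u) * n⁻¹ := by group
      _ = 1 := by rw [huu, mul_one, mul_inv_cancel]
  have hone := eq_one_of_sq hodd hw hww
  have heq : tr s (n a) * tr s (n b) = tr s a * tr s b := by
    rw [← hcu, ← hu]
    exact mul_inv_eq_one.1 hone
  have hinj := n.injective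
  have hd : Dis s (n a) (n b) := ⟨by rw [← app_comm hnC]; exact fun e => hab.x1 (hinj e),
    by rw [← app_comm hnC]; exact fun e => hab.y1 (hinj e), fun e => hab.ne (hinj e),
    by rw [← app_comm hnC]; exact fun e => hab.ns (hinj e)⟩
  have h4 : ∀ x, x ≠ a → x ≠ s a → x ≠ b → x ≠ s b → (tr s a * tr s b) x = x := by
    intro x h1 h2 h3 h4
    rw [Perm.mul_apply, tr_of_ne h3 h4, tr_of_ne h1 h2]
  have h5 : (tr s (n a) * tr s (n b)) (n a) = s (n a) := by
    rw [Perm.mul_apply, tr_of_ne hd.ne hd.ns, tr_left]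
  have h6 : (tr s (n a) * tr s (n b)) (n b) = s (n b) := by
    rw [Perm.mul_apply, tr_left]
    refine tr_of_ne (fun e => ?_) (fun e => ?_)
    · exact hd.ns (by rw [e])
    · exact hd.ne (s.injective e.symm)
  have h7 : n a = a ∨ n a = s a ∨ n a = b ∨ n a = s b := by
    by_contra hc
    push Not at hc
    obtain ⟨c1, c2, c3, c4⟩ := hc
    rw [heq, h4 _ c1 c2 c3 c4] at h5
    exact hd.x1 h5.symm
  have h8 : n b = a ∨ n b = s a ∨ n b = b ∨ n b = s b := by
    by_contra hc
    push Not at hc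
    obtain ⟨c1, c2, c3, c4⟩ := hc
    rw [heq, h4 _ c1 c2 c3 c4] at h6
    exact hd.y1 h6.symm
  have hsa : n (s a) = s (n a) := app_comm hnC a
  have hsb : n (s b) = s (n b) := app_comm hnC b
  have hss : ∀ x, s (s x) = x := ss hs
  have h9 : (n ^ 4) a = a := by
    have e4 : (n ^ 4) a = n (n (n (n a))) := rfl
    rw [e4]
    rcases h7 with h | h | h | h
    · rw [h, h, h, h]
    · have e1 : n (n a) = a := by rw [h, hsa, h, hss]
      rw [e1, e1]
    · rcases h8 with h' | h' | h' | h'
      · have e1 : n (n a) = a := by rw [h, h']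
        rw [e1, e1]
      · have e1 : n (n a) = s a := by rw [h, h']
        rw [e1, hsa, h, hsb, h', hss]
      · exact absurd (hinj (h.trans h'.symm)) hab.ne
      · exfalso
        have e1 : n (s a) = n b := by rw [hsa, h, h']
        exact hab.ns' hs (hinj e1)
    · have hn2 : n (n a) = s (n b) := by rw [h, hsb]
      rcases h8 with h' | h' | h' | h'
      · rw [hn2, h', hsa, h, hss, h']
      · have e1 : n (n a) = a := by rw [hn2, h', hss]
        rw [e1, e1]
      · exfalso
        have e1 : n (s a) = n b := by rw [hsa, h, h', hss]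
        exact hab.ns' hs (hinj e1)
      · exact absurd (hinj (h.trans h'.symm)) hab.ne
  -- odd order
  have h10 : (orderOf n).Coprime 4 := by
    have h1 : orderOf (⟨n, hn⟩ : K) ∣ Nat.card K := orderOf_dvd_natCard _
    rw [Subgroup.orderOf_mk] at h1
    have h2 := hodd.of_dvd_nat h1
    have h3 : (4 : ℕ) = 2 ^ 2 := by norm_num
    rw [h3]
    exact Nat.Coprime.pow_right _ (Nat.coprime_comm.1 (Nat.coprime_two_left.2 h2))
  obtain ⟨k, hk⟩ := exists_pow_eq_self_of_coprime h10.symm
  have h11 : ∀ j : ℕ, ((n ^ 4) ^ j) a = a := by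
    intro j
    induction j with
    | zero => rfl
    | succ j ih => rw [pow_succ, Perm.mul_apply, h9, ih]
  have h12 := h11 k
  rwa [hk] at h12

/-- restriction of an odd normal subgroup to the fixed points -/
theorem card_odd_normal (hs : s * s = 1) (hex : ∀ a, s a ≠ a → ∃ b, Dis s a b) (hK : K ≤ CC s)
    (hN : ∀ c ∈ CC s, ∀ n ∈ K, c * n * c⁻¹ ∈ K) (hodd : Odd (Nat.card K)) {r : ℕ}
    (hr : Nat.card {x // s x = x} = r) (hr4 : r % 4 = 2 ∨ r % 4 = 3) :
    Nat.card K = 1 ∨ (r = 3 ∧ Nat.card K = 3) := by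
  classical
  set F := {x // s x = x} with hF
  have hfix : ∀ n ∈ K, ∀ x, s x ≠ x → n x = x := fun n hn x hx => fix_moved hs hex hK hN hodd hn hx
  have hpres : ∀ n ∈ K, ∀ x, s x = x ↔ s (n x) = n x := by
    intro n hn x
    have h1 := app_comm (mem_CC.1 (hK hn)).1 x
    rw [← h1]
    exact ⟨fun h => by rw [h], fun h => n.injective h⟩
  -- the restriction
  have hofs : ∀ n (hn : n ∈ K), ofSubtype (n.subtypePerm (p := fun x => s x = x) (fun x => (hpres n hn x).symm)) = n := by
    intro n hn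
    apply Perm.ofSubtype_subtypePerm
    intro x hx
    by_contra hc
    exact hx (hfix n hn x hc)
  let ψ : K →* Perm F :=
    { toFun := fun n => (n : Perm Ω).subtypePerm (p := fun x => s x = x) (fun x => (hpres n n.2 x).symm)
      map_one' := by
        apply Perm.ext
        intro x
        apply Subtype.ext
        rw [Perm.subtypePerm_apply]
        change ((1 : K) : Perm Ω) x = x
        rw [Subgroup.coe_one, Perm.one_apply]
      map_mul' := by
        intro a b
        apply Perm.ext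
        intro x
        apply Subtype.ext
        rw [Perm.mul_apply, Perm.subtypePerm_apply, Perm.subtypePerm_apply, Perm.subtypePerm_apply]
        change ((a * b : K) : Perm Ω) x = (a : Perm Ω) ((b : Perm Ω) x)
        rw [Subgroup.coe_mul, Perm.mul_apply] }
  have hψ : ∀ n : K, ofSubtype (ψ n) = n := fun n => hofs n n.2
  have hψa : ∀ n : K, ψ n ∈ alternatingGroup F := by
    intro n
    rw [mem_alternatingGroup, ← sign_ofSubtype, hψ]
    exact (mem_CC.1 (hK n.2)).2
  have hψinj : Function.Injective ψ := by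
    intro a b hab
    apply Subtype.ext
    rw [← hψ a, ← hψ b, hab]
  let Φ : K →* alternatingGroup F := ψ.codRestrict (alternatingGroup F) hψa
  have hΦ : Function.Injective Φ := by
    intro a b hab
    exact hψinj (congrArg Subtype.val hab)
  have hcard : Nat.card K = Nat.card Φ.range := Nat.card_congr (MonoidHom.ofInjective hΦ).toEquiv
  have hnorm : Φ.range.Normal := by
    constructor
    rintro _ ⟨n, rfl⟩ g
    have hgC : ofSubtype (g : Perm F) ∈ CC s := by
      rw [mem_CC]
      constructor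
      · apply comm_of_app
        intro x
        by_cases hx : s x = x
        · rw [hx]
          have h1 : ofSubtype (g : Perm F) x = ((g : Perm F) ⟨x, hx⟩ : F) :=
            ofSubtype_apply_of_mem (p := fun x => s x = x) _ hx
          rw [h1]
          exact (((g : Perm F) ⟨x, hx⟩ : F).2).symm
        · rw [ofSubtype_apply_of_not_mem (p := fun x => s x = x) _ hx,
            ofSubtype_apply_of_not_mem (p := fun x => s x = x)]
          intro h1
          exact hx (s.injective h1)
      · rw [sign_ofSubtype]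
        exact mem_alternatingGroup.1 g.2
    have h2 := hN _ hgC n n.2
    refine ⟨⟨_, h2⟩, ?_⟩
    apply Subtype.ext
    apply ofSubtype_injective
    have h5 : ofSubtype (ψ ⟨_, h2⟩) = ofSubtype (g : Perm F) * (n : Perm Ω) * (ofSubtype (g : Perm F))⁻¹ := hψ _
    change ofSubtype (ψ ⟨_, h2⟩) = ofSubtype ((g : Perm F) * ψ n * ((g : Perm F))⁻¹)
    rw [h5, map_mul, map_mul, map_inv, hψ]
  have hcF : Fintype.card F = r := by rw [← hr, Nat.card_eq_fintype_card]
  have hcA : 2 ≤ r → 2 * Nat.card (alternatingGroup F) = r.factorial := by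
    intro h2
    have : Nontrivial F := by
      rw [← Fintype.one_lt_card_iff_nontrivial, hcF]; omega
    rw [Nat.card_eq_fintype_card, two_mul_card_alternatingGroup, Fintype.card_perm, hcF]
  have hr2 : 2 ≤ r := by omega
  have hdvd : Nat.card K ∣ Nat.card (alternatingGroup F) := by
    rw [hcard]; exact Subgroup.card_subgroup_dvd_card _
  by_cases h5 : 5 ≤ r
  · have hsimple : IsSimpleGroup (alternatingGroup F) := alternatingGroup.isSimpleGroup (by rw [Nat.card_eq_fintype_card, hcF]; exact h5)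
    rcases hnorm.eq_bot_or_eq_top with h | h
    · left
      rw [hcard, h, Subgroup.card_bot]
    · exfalso
      rw [h, Subgroup.card_top] at hcard
      rw [hcard] at hodd
      have h6 := hcA hr2
      have h7 : 4 ∣ r.factorial := (by decide : 4 ∣ Nat.factorial 4).trans (Nat.factorial_dvd_factorial (by omega))
      rw [← h6] at h7
      rcases hodd with ⟨k, hk⟩
      rw [hk] at h7
      omega
  · have hr' : r = 2 ∨ r = 3 := by omega
    rcases hr' with rfl | rfl
    · left
      have h6 := hcA hr2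
      have h7 : Nat.card (alternatingGroup F) = 1 := by
        have : Nat.factorial 2 = 2 := rfl
        omega
      rw [h7] at hdvd
      exact Nat.dvd_one.1 hdvd
    · have h6 := hcA hr2
      have h7 : Nat.card (alternatingGroup F) = 3 := by
        have : Nat.factorial 3 = 6 := rfl
        omega
      rw [h7] at hdvd
      rcases (Nat.dvd_prime Nat.prime_three).1 hdvd with h | h
      · exact Or.inl h
      · exact Or.inr ⟨rfl, h⟩

/-- in the case of order `3` some involution of the centralizer acts nontrivially -/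
theorem exists_inverting (hs : s * s = 1) (hex : ∀ a, s a ≠ a → ∃ b, Dis s a b) (hK : K ≤ CC s)
    (hN : ∀ c ∈ CC s, ∀ n ∈ K, c * n * c⁻¹ ∈ K) (hc : Nat.card K = 3) (hmove : ∃ a, s a ≠ a) :
    ∃ y ∈ CC s, y * y = 1 ∧ ∃ n ∈ K, y * n ≠ n * y := by
  have hodd : Odd (Nat.card K) := by rw [hc]; decide
  have hfix : ∀ n ∈ K, ∀ x, s x ≠ x → n x = x := fun n hn x hx => fix_moved hs hex hK hN hodd hn hx
  obtain ⟨a, ha⟩ := hmove
  have hne : ∃ n ∈ K, n ≠ 1 := by
    by_contra h
    push Not at h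
    have : K = ⊥ := (Subgroup.eq_bot_iff_forall _).2 h
    rw [this, Subgroup.card_bot] at hc
    omega
  obtain ⟨n, hn, hn1⟩ := hne
  have h3 : n ^ 3 = 1 := by
    have := pow_card_eq_one' (x := (⟨n, hn⟩ : K))
    rw [hc] at this
    exact congrArg Subtype.val this
  obtain ⟨f, hf⟩ : ∃ f, n f ≠ f := by
    by_contra h
    push Not at h
    exact hn1 (Perm.ext h)
  have hsf : s f = f := by
    by_contra h
    exact hf (hfix n hn f h)
  have hnC := (mem_CC.1 (hK hn)).1
  have hsg : s (n f) = n f := by rw [← app_comm hnC, hsf]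
  have hfa : f ≠ a := fun e => ha (by rw [← e, hsf])
  have hfsa : f ≠ s a := by
    intro e
    apply hfa
    have h1 := hsf
    rw [e, ss hs] at h1
    rw [e, ← h1]
  have hga : n f ≠ a := fun e => ha (by rw [← e, hsg])
  have hgsa : n f ≠ s a := by
    intro e
    apply hga
    have h1 := hsg
    rw [e, ss hs] at h1
    rw [e, ← h1]
  have hcomm : tr s a * swap f (n f) = swap f (n f) * tr s a :=
    swap_swap_comm hfa hfsa hga hgsa
  refine ⟨tr s a * swap f (n f), trsw_mem hs ha hsf hsg hf.symm, ?_, n, hn, ?_⟩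
  · rw [mul_assoc, ← mul_assoc (swap f (n f)), ← hcomm, mul_assoc, swap_mul_self, mul_one, tr_tr]
  · intro h
    have h1 := congrArg (fun q : Perm Ω => q f) h
    simp only [Perm.mul_apply] at h1
    rw [swap_apply_right, tr_of_ne hfa hfsa, swap_apply_left, tr_of_ne hga hgsa] at h1
    -- `n (n f) = f`
    have h2 : (n ^ 3) f = f := by rw [h3]; rfl
    have h4 : (n ^ 3) f = n (n (n f)) := rfl
    rw [h4, ← h1] at h2
    exact hf h2

end

end Cfsg.Agent.H306.Kon
end

-- part: H306/Kon/FourGroup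
section
/-!
# Involutions of alternating groups: conjugacy, four-groups (helper306, for S3218)
-/

set_option autoImplicit false
set_option linter.unusedSectionVars false

namespace Cfsg.Agent.H306.Kon

open Equiv Equiv.Perm

section

variable {Ω : Type*} [DecidableEq Ω] [Fintype Ω]

/-- involutions of an alternating group moving the same number of points are conjugate -/
theorem isConj_alt {σ τ : alternatingGroup Ω} (hσ : orderOf σ = 2) (hτ : orderOf τ = 2)
    (h : (σ : Perm Ω).support.card = (τ : Perm Ω).support.card) : IsConj σ τ := by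
  have hσ' : orderOf (σ : Perm Ω) = 2 := by rw [Subgroup.orderOf_coe]; exact hσ
  have hτ' : orderOf (τ : Perm Ω) = 2 := by rw [Subgroup.orderOf_coe]; exact hτ
  have hss : (σ : Perm Ω) * σ = 1 := by rw [← pow_two, ← hσ']; exact pow_orderOf_eq_one _
  obtain ⟨m, hm⟩ := cycleType_prime_order (σ := (σ : Perm Ω)) (by rw [hσ']; exact Nat.prime_two)
  rw [hσ'] at hm
  have h1 := sum_cycleType (σ : Perm Ω)
  rw [hm, Multiset.sum_replicate] at h1
  have hcs := cycleType_of_order_two hσ' (k := m + 1) (by rw [← h1]; simp [mul_comm])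
  have hct := cycleType_of_order_two hτ' (k := m + 1) (by rw [← h, ← h1]; simp [mul_comm])
  have hc : IsConj (σ : Perm Ω) (τ : Perm Ω) := by rw [isConj_iff_cycleType_eq, hcs, hct]
  obtain ⟨g, hg⟩ := isConj_iff.1 hc
  rw [isConj_iff]
  rcases Int.units_eq_one_or (sign g) with hs | hs
  · exact ⟨⟨g, mem_alternatingGroup.2 hs⟩, Subtype.ext hg⟩
  · have hne : (σ : Perm Ω) ≠ 1 := by
      intro h2; rw [h2, orderOf_one] at hσ'; omega
    obtain ⟨x, hx⟩ : ∃ x, (σ : Perm Ω) x ≠ x := by
      by_contra hc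
      push Not at hc
      exact hne (Perm.ext hc)
    have hsw := Cfsg.Agent.H313.Alt.tr_comm hss x
    refine ⟨⟨g * Cfsg.Agent.H313.Alt.tr σ x, ?_⟩, Subtype.ext ?_⟩
    · rw [mem_alternatingGroup, Perm.sign_mul, hs, Cfsg.Agent.H313.Alt.sign_tr hx]; rfl
    · change g * Cfsg.Agent.H313.Alt.tr σ x * σ * (g * Cfsg.Agent.H313.Alt.tr σ x)⁻¹ = τ
      rw [mul_assoc g, hsw, ← hg]; group

/-- the number of points moved by an even involution is divisible by four -/
theorem four_dvd_support {σ : Perm Ω} (hσ : orderOf σ = 2) (hs : sign σ = 1) : 4 ∣ σ.support.card := by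
  obtain ⟨m, hm⟩ := cycleType_prime_order (σ := σ) (by rw [hσ]; exact Nat.prime_two)
  rw [hσ] at hm
  have h1 := sum_cycleType σ
  rw [hm, Multiset.sum_replicate] at h1
  have h2 := sign_of_cycleType σ
  rw [hs, hm, Multiset.sum_replicate, Multiset.card_replicate] at h2
  have h3 : Even (m + 1) := by
    rcases Nat.even_or_odd (m + 1) with h | h
    · exact h
    · exfalso
      have h4 : Odd ((m + 1) • 2 + (m + 1)) := by
        rw [smul_eq_mul]
        exact (Even.mul_left even_two _).add_odd h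
      rw [h4.neg_one_pow] at h2
      exact absurd h2 (by decide)
  rw [← h1]
  obtain ⟨k, hk⟩ := h3
  exact ⟨k, by rw [hk, smul_eq_mul]; ring⟩

end

section

variable (k r : ℕ)

/-- the model for four-groups -/
abbrev Y : Type := (Fin k × (ZMod 2 × ZMod 2)) ⊕ Fin r

/-- translation -/
def Tv (v : ZMod 2 × ZMod 2) : Perm (Y k r) :=
  Equiv.sumCongr (Equiv.prodCongrRight fun _ => Equiv.addLeft v) (Equiv.refl _)

theorem Tv_inl (v : ZMod 2 × ZMod 2) (i : Fin k) (w : ZMod 2 × ZMod 2) :
    Tv k r v (Sum.inl (i, w)) = Sum.inl (i, v + w) := rfl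

theorem Tv_inr (v : ZMod 2 × ZMod 2) (i : Fin r) : Tv k r v (Sum.inr i) = Sum.inr i := rfl

theorem Tv_mul (v w : ZMod 2 × ZMod 2) : Tv k r v * Tv k r w = Tv k r (v + w) := by
  apply Perm.ext
  rintro (⟨i, x⟩ | i)
  · rw [Perm.mul_apply, Tv_inl, Tv_inl, Tv_inl, add_assoc]
  · rw [Perm.mul_apply, Tv_inr, Tv_inr, Tv_inr]

theorem Tv_zero : Tv k r 0 = 1 := by
  apply Perm.ext
  rintro (⟨i, x⟩ | i)
  · rw [Tv_inl, zero_add]; rfl
  · rfl

theorem Tv_ne (hk : 1 ≤ k) {v : ZMod 2 × ZMod 2} (hv : v ≠ 0) : Tv k r v ≠ 1 := by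
  intro h
  have h1 := congrArg (fun p : Perm (Y k r) => p (Sum.inl (⟨0, by omega⟩, 0))) h
  simp only [Tv_inl, Perm.one_apply, Sum.inl.injEq, Prod.mk.injEq, true_and, add_zero] at h1
  exact hv h1

theorem orderOf_Tv (hk : 1 ≤ k) {v : ZMod 2 × ZMod 2} (hv : v ≠ 0) : orderOf (Tv k r v) = 2 := by
  apply orderOf_eq_prime
  · rw [pow_two, Tv_mul]
    have : v + v = 0 := by revert v; decide
    rw [this, Tv_zero]
  · exact Tv_ne k r hk hv

theorem card_support_Tv {v : ZMod 2 × ZMod 2} (hv : v ≠ 0) : (Tv k r v).support.card = 2 * (2 * k) := by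
  have h1 : (Tv k r v).support = Finset.univ.map (Function.Embedding.inl : _ ↪ Y k r) := by
    ext x
    rw [mem_support, Finset.mem_map]
    rcases x with ⟨i, x⟩ | i
    · rw [Tv_inl]
      refine ⟨fun _ => ⟨(i, x), Finset.mem_univ _, rfl⟩, fun _ h => hv ?_⟩
      simpa using h
    · rw [Tv_inr]
      refine ⟨fun h => absurd rfl h, ?_⟩
      rintro ⟨y, -, hy⟩
      exact absurd hy (by simp)
  rw [h1, Finset.card_map, Finset.card_univ, Fintype.card_prod, Fintype.card_prod, Fintype.card_fin, ZMod.card]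
  ring

end

/-- every involution of an alternating group lies in a four-group all whose involutions are conjugate to it -/
theorem exists_four {m : ℕ} (τ : alternatingGroup (Fin m)) (hτ : orderOf τ = 2) :
    ∃ τ' : alternatingGroup (Fin m), orderOf τ' = 2 ∧ τ' ≠ τ ∧ τ * τ' = τ' * τ ∧ IsConj τ τ' ∧ IsConj τ (τ * τ') := by
  have hτ' : orderOf (τ : Perm (Fin m)) = 2 := by rw [Subgroup.orderOf_coe]; exact hτ
  obtain ⟨k, hk⟩ := four_dvd_support hτ' (mem_alternatingGroup.1 τ.2)
  have hle : 4 * k ≤ m := by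
    rw [← hk]; exact (Finset.card_le_univ _).trans (by simp only [_root_.Fintype.card_fin, _root_.Std.le_refl])
  have hk1 : 1 ≤ k := by
    rcases Nat.eq_zero_or_pos k with h | h
    · exfalso
      rw [h, mul_zero, Finset.card_eq_zero, support_eq_empty_iff] at hk
      rw [hk, orderOf_one] at hτ'
      omega
    · exact h
  obtain ⟨r, rfl⟩ := Nat.exists_eq_add_of_le hle
  have e : Fin (4 * k + r) ≃ Y k r := Fintype.equivOfCardEq (by
    rw [Fintype.card_fin, Fintype.card_sum, Fintype.card_prod, Fintype.card_prod, Fintype.card_fin, Fintype.card_fin, ZMod.card]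
    ring)
  obtain ⟨f, hf⟩ := exists_equiv_conj (k := 2 * k) e hτ' (orderOf_Tv k r hk1 (v := (1, 0)) (by decide))
    (by rw [hk]; ring) (card_support_Tv k r (by decide))
  -- transport
  let c : Perm (Y k r) ≃* Perm (Fin (4 * k + r)) := f.symm.permCongrHom
  have hc : ∀ q x, c q x = f.symm (q (f x)) := fun q x => rfl
  have hcτ : c (Tv k r (1, 0)) = τ := by
    apply Perm.ext
    intro x
    rw [hc, ← hf, Equiv.symm_apply_apply]
  have hcs : ∀ v : ZMod 2 × ZMod 2, v ≠ 0 → (c (Tv k r v)).support.card = 4 * k := by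
    intro v hv
    have h1 : (c (Tv k r v)).support.card = (Tv k r v).support.card := by
      refine (Finset.card_bij (fun a _ => f a) ?_ ?_ ?_)
      · intro a ha
        rw [mem_support] at ha ⊢
        intro h3
        apply ha
        rw [hc, h3, Equiv.symm_apply_apply]
      · intro a _ b _ hab
        exact f.injective hab
      · intro b hb
        refine ⟨f.symm b, ?_, by simp⟩
        rw [mem_support] at hb ⊢
        intro h3
        apply hb
        rw [hc, Equiv.apply_symm_apply] at h3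
        exact f.symm.injective h3
    rw [h1, card_support_Tv k r hv]; ring
  have hco : ∀ v : ZMod 2 × ZMod 2, v ≠ 0 → orderOf (c (Tv k r v)) = 2 := by
    intro v hv
    rw [c.orderOf_eq, orderOf_Tv k r hk1 hv]
  have hsign : ∀ v : ZMod 2 × ZMod 2, v ≠ 0 → c (Tv k r v) ∈ alternatingGroup (Fin (4 * k + r)) := by
    intro v hv
    rw [mem_alternatingGroup, sign_of_cycleType, cycleType_of_order_two (hco v hv) (k := 2 * k) (by rw [hcs v hv]; ring),
      Multiset.sum_replicate, Multiset.card_replicate]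
    have : Even ((2 * k) • 2 + 2 * k) := by
      rw [smul_eq_mul]
      exact (Even.mul_left even_two _).add (even_two_mul k)
    exact this.neg_one_pow
  have h01 : ((0, 1) : ZMod 2 × ZMod 2) ≠ 0 := by decide
  have h11 : ((1, 1) : ZMod 2 × ZMod 2) ≠ 0 := by decide
  have hm : c (Tv k r (1, 0)) * c (Tv k r (0, 1)) = c (Tv k r (1, 1)) := by
    rw [← map_mul, Tv_mul]; rfl
  have hm' : c (Tv k r (0, 1)) * c (Tv k r (1, 0)) = c (Tv k r (1, 1)) := by
    rw [← map_mul, Tv_mul]; rfl
  have ho : orderOf (⟨c (Tv k r (0, 1)), hsign _ h01⟩ : alternatingGroup (Fin (4 * k + r))) = 2 := by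
    rw [← Subgroup.orderOf_coe]; exact hco _ h01
  have hmul : τ * ⟨c (Tv k r (0, 1)), hsign _ h01⟩ = (⟨c (Tv k r (1, 1)), hsign _ h11⟩ : alternatingGroup (Fin (4 * k + r))) := by
    apply Subtype.ext
    change (τ : Perm _) * c (Tv k r (0, 1)) = c (Tv k r (1, 1))
    rw [← hcτ, hm]
  refine ⟨⟨c (Tv k r (0, 1)), hsign _ h01⟩, ho, ?_, ?_, ?_, ?_⟩
  · intro h
    have h1 := congrArg Subtype.val h
    change c (Tv k r (0, 1)) = τ at h1
    rw [← hcτ] at h1
    have h2 := c.injective h1
    have h3 := congrArg (fun p : Perm (Y k r) => p (Sum.inl (⟨0, by omega⟩, 0))) h2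
    simp only [Tv_inl, Sum.inl.injEq, Prod.mk.injEq, true_and, add_zero] at h3
    exact absurd h3.1 (by decide)
  · rw [hmul]
    apply Subtype.ext
    change c (Tv k r (1, 1)) = c (Tv k r (0, 1)) * τ
    rw [← hcτ, hm']
  · apply isConj_alt hτ ho
    change _ = (c (Tv k r (0, 1))).support.card
    rw [hcs _ h01, hk]
  · rw [hmul]
    apply isConj_alt hτ
    · rw [← Subgroup.orderOf_coe]; exact hco _ h11
    · change _ = (c (Tv k r (1, 1))).support.card
      rw [hcs _ h11, hk]

end Cfsg.Agent.H306.Kon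
end

-- part: H306/Kon/Finish
section
/-!
# `G / O(G) ≅ A_m` and `C_G(z) ≅ C_{A_m}(zt)` imply `G ≅ A_m` (helper306, part F of S3218)
-/

set_option autoImplicit false
set_option linter.unusedSectionVars false

namespace Cfsg.Agent.H306.Kon

open Subgroup

section

variable {G : Type*} [Group G] [Finite G]

/-- fixed points of an element of prime order -/
theorem card_modEq (N : Subgroup G) [N.Normal] {p : ℕ} [Fact p.Prime] {y : G} (hy : orderOf y = p) :
    Nat.card N ≡ Nat.card ↥(N ⊓ centralizer ({y} : Set G)) [MOD p] := by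
  let act : MulAction (zpowers y) N :=
    MulAction.compHom N ((MulAut.conjNormal (H := N)).comp (zpowers y).subtype)
  have hP : IsPGroup p (zpowers y) := IsPGroup.of_card (n := 1) (by rw [Nat.card_zpowers, hy, pow_one])
  have h1 := hP.card_modEq_card_fixedPoints N
  have hsm : ∀ (g : zpowers y) (n : N), ((g • n : N) : G) = g.1 * n.1 * g.1⁻¹ := fun g n => rfl
  have h2 : Nat.card (MulAction.fixedPoints (zpowers y) N) = Nat.card ↥(N ⊓ centralizer ({y} : Set G)) := by
    refine Nat.card_congr ?_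
    exact
      { toFun := fun n => ⟨n.1.1, n.1.2, mem_centralizer_singleton_iff.2 (by
          have h3 := congrArg Subtype.val (n.2 ⟨y, mem_zpowers y⟩)
          rw [hsm, mul_inv_eq_iff_eq_mul] at h3
          exact h3.symm)⟩
        invFun := fun n => ⟨⟨n.1, n.2.1⟩, by
          rintro ⟨g, hg⟩
          apply Subtype.ext
          rw [hsm, mul_inv_eq_iff_eq_mul]
          have h3 : g ∈ centralizer ({n.1} : Set G) := by
            have h4 : zpowers y ≤ centralizer ({n.1} : Set G) := by
              rw [zpowers_le, mem_centralizer_singleton_iff]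
              exact (mem_centralizer_singleton_iff.1 n.2.2).symm
            exact h4 hg
          exact mem_centralizer_singleton_iff.1 h3⟩
        left_inv := fun n => rfl
        right_inv := fun n => rfl }
  rwa [h2] at h1

/-- a four-group lifts through a surjection with odd kernel -/
theorem lift_four {A : Type*} [Group A] (φ : G →* A) (hφ : Function.Surjective φ) (hker : Odd (Nat.card φ.ker))
    {a b : A} (ha : orderOf a = 2) (hb : orderOf b = 2) (hab : a * b = b * a) :
    ∃ x y : G, φ x = a ∧ φ y = b ∧ orderOf x = 2 ∧ orderOf y = 2 ∧ x * y = y * x := by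
  have ha2 : a * a = 1 := by rw [← pow_two, ← ha, pow_orderOf_eq_one]
  have hb2 : b * b = 1 := by rw [← pow_two, ← hb, pow_orderOf_eq_one]
  have hA : Finite A := Finite.of_surjective _ hφ
  have : Fact (Nat.Prime 2) := ⟨Nat.prime_two⟩
  set V : Subgroup A := zpowers a ⊔ zpowers b with hV
  have haV : a ∈ V := mem_sup_left (mem_zpowers a)
  have hbV : b ∈ V := mem_sup_right (mem_zpowers b)
  have hP : ∀ {x : A}, orderOf x = 2 → IsPGroup 2 (zpowers x) := fun {x} hx =>
    IsPGroup.of_card (n := 1) (by rw [Nat.card_zpowers, hx, pow_one])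
  have hVP : IsPGroup 2 V := by
    refine (hP ha).to_sup_of_normal_right' (hP hb) ?_
    rw [zpowers_le]
    refine Subgroup.mem_normalizer_iff.2 fun n => ?_
    have h3 : ∀ n ∈ zpowers b, a * n = n * a := by
      intro n hn
      have h4 : zpowers b ≤ centralizer ({a} : Set A) := by
        rw [zpowers_le, mem_centralizer_singleton_iff]
        exact hab.symm
      exact (mem_centralizer_singleton_iff.1 (h4 hn)).symm
    constructor
    · intro hn
      rw [h3 n hn, mul_inv_cancel_right]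
      exact hn
    · intro hn
      have h4 := h3 _ hn
      have h5 : n = a * n * a⁻¹ := by
        have : a * (a * n * a⁻¹) = a * n := by rw [h4]; group
        exact (mul_left_cancel this).symm
      rw [h5]; exact hn
  let π : V.comap φ →* V := φ.subgroupComap V
  have hπ : Function.Surjective π := by
    rintro ⟨v, hv⟩
    obtain ⟨g, rfl⟩ := hφ v
    exact ⟨⟨g, hv⟩, rfl⟩
  have hk : Odd (Nat.card π.ker) := by
    have h1 : Nat.card π.ker = Nat.card φ.ker := by
      refine Nat.card_congr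
        { toFun := fun x => ⟨x.1.1, congrArg Subtype.val x.2⟩
          invFun := fun x => ⟨⟨x.1, ?_⟩, Subtype.ext x.2⟩
          left_inv := fun x => rfl
          right_inv := fun x => rfl }
      change φ x.1 ∈ V
      rw [MonoidHom.mem_ker.1 x.2]
      exact V.one_mem
    rw [h1]; exact hker
  obtain ⟨P, j, h1, h2, h3⟩ := Cfsg.Agent.H244.Kondo.exists_lift (π := π) (J := MonoidHom.id V) (M := ⊤) hπ hk
    Function.injective_id hVP (by rw [Subgroup.index_top]; decide) (fun x _ y _ => ⟨x * y * x⁻¹, rfl⟩)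
  have hj : ∀ v : V, φ (j v : G) = v := fun v => congrArg Subtype.val (h1 v)
  have hne : ∀ {v : V}, orderOf (v : A) = 2 → orderOf ((j v : V.comap φ) : G) = 2 := by
    intro v hv
    refine orderOf_eq_prime ?_ ?_
    · have h4 : v * v = 1 := Subtype.ext (by
        rw [Subgroup.coe_mul, Subgroup.coe_one, ← pow_two, ← hv, pow_orderOf_eq_one])
      rw [pow_two, ← Subgroup.coe_mul, ← map_mul, h4, map_one, Subgroup.coe_one]
    · intro h4
      have h5 := hj v
      rw [h4, map_one] at h5
      rw [← h5, orderOf_one] at hv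
      omega
  refine ⟨j ⟨a, haV⟩, j ⟨b, hbV⟩, hj _, hj _, hne (v := ⟨a, haV⟩) ha, hne (v := ⟨b, hbV⟩) hb, ?_⟩
  rw [← Subgroup.coe_mul, ← Subgroup.coe_mul, ← map_mul, ← map_mul]
  have h6 : (⟨a, haV⟩ : V) * ⟨b, hbV⟩ = ⟨b, hbV⟩ * ⟨a, haV⟩ := Subtype.ext hab
  rw [h6]

/-- the four-group of two commuting involutions -/
def four (x y : G) (hx : x * x = 1) (hy : y * y = 1) (hxy : x * y = y * x) : Subgroup G where
  carrier := {1, x, y, x * y}
  one_mem' := by simp
  mul_mem' := by
    intro a b ha hb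
    have h1 : ∀ g, x * (x * g) = g := fun g => by rw [← mul_assoc, hx, one_mul]
    have h2 : ∀ g, y * (y * g) = g := fun g => by rw [← mul_assoc, hy, one_mul]
    have h3 : ∀ g, y * (x * g) = x * (y * g) := fun g => by rw [← mul_assoc, ← hxy, mul_assoc]
    simp only [Set.mem_insert_iff, Set.mem_singleton_iff] at ha hb ⊢
    rcases ha with rfl | rfl | rfl | rfl <;> rcases hb with rfl | rfl | rfl | rfl <;>
      simp only [mul_assoc, hx, hy, h1, h3, ← hxy, _root_.mul_one, _root_.true_or, _root_.one_mul, _root_.left_eq_mul, _root_.or_true, _root_.right_eq_mul, _root_.mul_eq_left, _root_.mul_eq_right]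
  inv_mem' := by
    intro a ha
    have hx' : x⁻¹ = x := inv_eq_of_mul_eq_one_left hx
    have hy' : y⁻¹ = y := inv_eq_of_mul_eq_one_left hy
    simp only [Set.mem_insert_iff, Set.mem_singleton_iff] at ha ⊢
    rcases ha with rfl | rfl | rfl | rfl <;> simp only [hx', hy', hxy, _root_.inv_one, _root_.true_or, _root_.right_eq_mul, _root_.or_true, _root_.left_eq_mul, _root_.mul_inv_rev, _root_.mul_eq_right, _root_.mul_eq_left]

theorem mem_four {x y : G} {hx : x * x = 1} {hy : y * y = 1} {hxy : x * y = y * x} {g : G} :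
    g ∈ four x y hx hy hxy ↔ g = 1 ∨ g = x ∨ g = y ∨ g = x * y := Iff.rfl

theorem card_four {x y : G} {hx : x * x = 1} {hy : y * y = 1} {hxy : x * y = y * x} (hx1 : x ≠ 1) (hy1 : y ≠ 1)
    (hne : x ≠ y) : Nat.card (four x y hx hy hxy) = 2 ^ 2 := by
  have h1 : Nat.card (four x y hx hy hxy) = Set.ncard ({1, x, y, x * y} : Set G) := rfl
  have hxy1 : x * y ≠ 1 := fun h => hne (by
    have := mul_eq_one_iff_eq_inv.1 h
    rw [this]; exact inv_eq_of_mul_eq_one_left hy)
  have h2 : y ∉ ({x * y} : Set G) := by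
    rw [Set.mem_singleton_iff]
    intro h
    exact hx1 (mul_eq_right.1 h.symm)
  have h3 : x ∉ ({y, x * y} : Set G) := by
    rw [Set.mem_insert_iff, Set.mem_singleton_iff]
    rintro (h | h)
    · exact hne h
    · exact hy1 (mul_eq_left.1 h.symm)
  have h4 : (1 : G) ∉ ({x, y, x * y} : Set G) := by
    rw [Set.mem_insert_iff, Set.mem_insert_iff, Set.mem_singleton_iff]
    rintro (h | h | h)
    · exact hx1 h.symm
    · exact hy1 h.symm
    · exact hxy1 h.symm
  rw [h1, Set.ncard_insert_of_notMem h4, Set.ncard_insert_of_notMem h3, Set.ncard_insert_of_notMem h2,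
    Set.ncard_singleton]
  norm_num

theorem card_four_cent {N : Subgroup G} [N.Normal] (hodd : Odd (Nat.card N)) {x y : G} (hx : orderOf x = 2)
    (hy : orderOf y = 2) (hx2 : x * x = 1) (hy2 : y * y = 1) (hxy : x * y = y * x) (hne : x ≠ y) {c : ℕ}
    (h : ∀ v, v = x ∨ v = y ∨ v = x * y → Nat.card ↥(N ⊓ centralizer ({v} : Set G)) = c) :
    (c ^ 2) ^ 3 = Nat.card ↥(N ⊓ centralizer (four x y hx2 hy2 hxy : Set G)) ^ 4 * Nat.card N ^ 2 := by
  classical
  have hx1 : x ≠ 1 := by rintro rfl; rw [orderOf_one] at hx; omega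
  have hy1 : y ≠ 1 := by rintro rfl; rw [orderOf_one] at hy; omega
  set F := four x y hx2 hy2 hxy with hF
  have hFc : Nat.card F = 2 ^ 2 := card_four hx1 hy1 hne
  have hxx : Fintype {f : G // f ∈ F ∧ f ≠ 1} := Fintype.ofFinite _
  have hcomm : ∀ a ∈ F, ∀ b ∈ F, a * b = b * a := by
    have h1 : ∀ g, x * (x * g) = g := fun g => by rw [← mul_assoc, hx2, one_mul]
    have h2 : ∀ g, y * (y * g) = g := fun g => by rw [← mul_assoc, hy2, one_mul]
    have h3 : ∀ g, y * (x * g) = x * (y * g) := fun g => by rw [← mul_assoc, ← hxy, mul_assoc]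
    intro a ha b hb
    rw [hF, mem_four] at ha hb
    rcases ha with rfl | rfl | rfl | rfl <;> rcases hb with rfl | rfl | rfl | rfl <;>
      simp only [mul_assoc, hx2, hy2, h1, h3, ← hxy, _root_.mul_one, _root_.one_mul]
  have hexp : ∀ a ∈ F, a ^ 2 = 1 := by
    intro a ha
    rw [hF, mem_four] at ha
    rcases ha with rfl | rfl | rfl | rfl
    · exact one_pow 2
    · rw [pow_two, hx2]
    · rw [pow_two, hy2]
    · rw [pow_two, mul_assoc, ← mul_assoc y, ← hxy, mul_assoc, hy2, mul_one, hx2]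
  have hb := Cfsg.Agent.H565.RankTwo.brauer_wielandt Nat.prime_two F N
    (by rw [Subgroup.normalizer_eq_top]; exact le_top) hFc hcomm hexp
    (fun h => (Nat.not_even_iff_odd.2 hodd) (even_iff_two_dvd.2 h))
  have hc : ∀ f : {f : G // f ∈ F ∧ f ≠ 1}, Nat.card ↥(N ⊓ centralizer ({f.1} : Set G)) ^ 2 = c ^ 2 := by
    rintro ⟨f, hf, hf1⟩
    rw [h f]
    rw [hF, mem_four] at hf
    rcases hf with hf | hf | hf | hf
    · exact absurd hf hf1
    · exact Or.inl hf
    · exact Or.inr (Or.inl hf)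
    · exact Or.inr (Or.inr hf)
  rw [Finset.prod_congr rfl (fun f _ => hc f), Finset.prod_const, Finset.card_univ] at hb
  have hcard : Fintype.card {f : G // f ∈ F ∧ f ≠ 1} = 3 := by
    have h5 : Nat.card {f : G // f ∈ F ∧ f ≠ 1} = 3 := by
      have h6 : Nat.card {f : G // f ∈ F ∧ f ≠ 1} = Set.ncard ((F : Set G) \ {1}) := rfl
      have h7 : Set.ncard (F : Set G) = Nat.card F := rfl
      rw [h6, Set.ncard_sdiff_singleton_of_mem F.one_mem, h7, hFc]
      norm_num
    rw [← h5, Nat.card_eq_fintype_card]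
  rw [hcard] at hb
  exact hb

theorem card_sq_dvd {N : Subgroup G} [N.Normal] (hodd : Odd (Nat.card N)) {x y : G} (hx : orderOf x = 2)
    (hy : orderOf y = 2) (hxy : x * y = y * x) (hne : x ≠ y) {c : ℕ}
    (h : ∀ v, v = x ∨ v = y ∨ v = x * y → Nat.card ↥(N ⊓ centralizer ({v} : Set G)) = c) :
    Nat.card N ^ 2 ∣ (c ^ 2) ^ 3 := by
  have hx2 : x * x = 1 := by rw [← pow_two, ← hx, pow_orderOf_eq_one]
  have hy2 : y * y = 1 := by rw [← pow_two, ← hy, pow_orderOf_eq_one]
  rw [card_four_cent hodd hx hy hx2 hy2 hxy hne h]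
  exact Dvd.intro_left _ rfl

theorem le_centralizer_seven {N : Subgroup G} [N.Normal] {y : G} (hy : orderOf y = 7)
    (hN : Nat.card N ^ 2 ∣ (3 ^ 2) ^ 3) : N ≤ centralizer ({y} : Set G) := by
  have : Fact (Nat.Prime 7) := ⟨by norm_num⟩
  have h1 : Nat.card N ∣ 27 := by
    have h2 : Nat.card N ^ 2 ∣ 27 ^ 2 := by
      have : (27 : ℕ) ^ 2 = (3 ^ 2) ^ 3 := by norm_num
      rw [this]; exact hN
    exact (Nat.pow_dvd_pow_iff (by norm_num)).1 h2
  have h3 := card_modEq N hy
  have h4 : Nat.card ↥(N ⊓ centralizer ({y} : Set G)) ∣ Nat.card N := card_dvd_of_le inf_le_left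
  have h5 : Nat.card ↥(N ⊓ centralizer ({y} : Set G)) = Nat.card N := by
    generalize Nat.card ↥(N ⊓ centralizer ({y} : Set G)) = c at h3 h4 ⊢
    generalize Nat.card N = n at h1 h3 h4 ⊢
    have h6 : n ∈ Nat.divisors 27 := Nat.mem_divisors.2 ⟨h1, by norm_num⟩
    have h7 : Nat.divisors 27 = {1, 3, 9, 27} := by decide +kernel
    have h8 : c ∣ 27 := h4.trans h1
    have h9 : c ∈ Nat.divisors 27 := Nat.mem_divisors.2 ⟨h8, by norm_num⟩
    rw [h7] at h6 h9
    simp only [Finset.mem_insert, Finset.mem_singleton] at h6 h9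
    have h10 : n % 7 = c % 7 := h3
    rcases h6 with rfl | rfl | rfl | rfl <;> rcases h9 with rfl | rfl | rfl | rfl <;> simp_all only [_root_.Nat.reducePow, _root_.isUnit_iff_eq_one, _root_.IsUnit.dvd, _root_.dvd_refl, _root_.Nat.one_mod, _root_.Nat.reduceDvd, _root_.Nat.dvd_one, _root_.OfNat.ofNat_ne_one, _root_.Nat.reduceMod, _root_.Nat.reduceEqDiff]
  have h6 : N ⊓ centralizer ({y} : Set G) = N := eq_of_le_of_card_ge inf_le_left h5.ge
  exact inf_eq_left.1 h6

end

open Equiv Equiv.Perm Cfsg.Agent.H313.Alt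

theorem card_conj {G : Type*} [Group G] (N : Subgroup G) [hN : N.Normal] {z w : G} (h : IsConj z w) :
    Nat.card ↥(N ⊓ centralizer ({w} : Set G)) = Nat.card ↥(N ⊓ centralizer ({z} : Set G)) := by
  obtain ⟨g, rfl⟩ := isConj_iff.1 h
  have key : ∀ x : G, g * x * g⁻¹ ∈ N ⊓ centralizer ({g * z * g⁻¹} : Set G) ↔
      x ∈ N ⊓ centralizer ({z} : Set G) := by
    intro x
    rw [Subgroup.mem_inf, Subgroup.mem_inf, mem_centralizer_singleton_iff, mem_centralizer_singleton_iff]
    refine and_congr ⟨fun h => ?_, fun h => hN.conj_mem _ h _⟩ ?_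
    · have h1 := hN.conj_mem _ h g⁻¹
      have h2 : g⁻¹ * (g * x * g⁻¹) * g⁻¹⁻¹ = x := by group
      rwa [h2] at h1
    · have h2 : g * x * g⁻¹ * (g * z * g⁻¹) = g * (x * z) * g⁻¹ := by group
      have h3 : g * z * g⁻¹ * (g * x * g⁻¹) = g * (z * x) * g⁻¹ := by group
      rw [h2, h3]
      exact ⟨fun h => mul_left_cancel (mul_right_cancel h), fun h => by rw [h]⟩
  refine Nat.card_congr ((Equiv.subtypeEquiv (MulAut.conj g).toEquiv fun x => ?_)).symm
  exact (key x).symm

theorem exists_noncomm_alt {m : ℕ} (hm : 7 ≤ m) : ∃ a b : alternatingGroup (Fin m), a * b ≠ b * a := by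
  by_contra h
  push Not at h
  have h1 : commutator (alternatingGroup (Fin m)) = ⊤ :=
    commutator_alternatingGroup_eq_top (by rw [Nat.card_fin]; omega)
  have h2 : commutator (alternatingGroup (Fin m)) = ⊥ := by
    rw [commutator_def, eq_bot_iff, Subgroup.commutator_le]
    intro a _ b _
    rw [Subgroup.mem_bot, commutatorElement_eq_one_iff_mul_comm]
    exact h a b
  have hs : IsSimpleGroup (alternatingGroup (Fin m)) := alternatingGroup.isSimpleGroup (by rw [Nat.card_fin]; omega)
  have := hs.toNontrivial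
  exact bot_ne_top (h2.symm.trans h1)

theorem finish {G : Type*} [Group G] [Finite G] {m : ℕ} (hm : 7 ≤ m) (hmod : m % 4 = 2 ∨ m % 4 = 3)
    (zt : alternatingGroup (Fin m)) (hzt : orderOf zt = 2) (z : G) (hz : orderOf z = 2)
    (e : ↥(Subgroup.centralizer ({z} : Set G)) ≃* ↥(Subgroup.centralizer ({zt} : Set ↥(alternatingGroup (Fin m)))))
    (N : Subgroup G) [hN : N.Normal] (hNodd : Odd (Nat.card N)) (φ : G →* alternatingGroup (Fin m))
    (hφ : Function.Surjective φ) (hker : φ.ker = N) : N = ⊥ := by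
  classical
  have hsimp : IsSimpleGroup (alternatingGroup (Fin m)) :=
    alternatingGroup.isSimpleGroup (by rw [Nat.card_fin]; omega)
  set s : Perm (Fin m) := (zt : Perm (Fin m)) with hs_def
  have hso : orderOf s = 2 := by rw [hs_def, Subgroup.orderOf_coe]; exact hzt
  have hs : s * s = 1 := by rw [← pow_two, ← hso, pow_orderOf_eq_one]
  have hs1 : s ≠ 1 := by
    intro h
    rw [h, orderOf_one] at hso
    omega
  obtain ⟨k, hk⟩ := four_dvd_support hso (mem_alternatingGroup.1 zt.2)
  have hk0 : 0 < s.support.card := by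
    rw [Finset.card_pos]
    exact Finset.nonempty_iff_ne_empty.2 fun h => hs1 (support_eq_empty_iff.1 h)
  have hmove : ∃ a, s a ≠ a := by
    obtain ⟨a, ha⟩ := Finset.card_pos.1 hk0
    exact ⟨a, mem_support.1 ha⟩
  have hex : ∀ a, s a ≠ a → ∃ b, Dis s a b := by
    intro a ha
    have h1 : 2 < s.support.card := by omega
    have h2 : ∃ b ∈ s.support, b ∉ ({a, s a} : Finset (Fin m)) := by
      apply Finset.exists_mem_notMem_of_card_lt_card
      exact (Finset.card_le_two).trans_lt h1
    obtain ⟨b, hb, hb2⟩ := h2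
    simp only [Finset.mem_insert, Finset.mem_singleton, not_or] at hb2
    exact ⟨b, ⟨ha, mem_support.1 hb, fun h => hb2.1 h.symm, fun h => hb2.2 (by rw [h, ss hs])⟩⟩
  have hr : Nat.card {x // s x = x} = m - s.support.card := by
    have h1 : Nat.card {x // s x = x} = (s.supportᶜ).card := by
      rw [Nat.card_eq_fintype_card, Fintype.card_subtype]
      congr 1
      ext x
      simp only [_root_.Finset.mem_filter, _root_.Finset.mem_univ, _root_.true_and, _root_.Finset.mem_compl, _root_.Equiv.Perm.mem_support, _root_.ne_eq, _root_.Decidable.not_not]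
    rw [h1, Finset.card_compl, Fintype.card_fin]
  have hle : s.support.card ≤ m := by
    have := Finset.card_le_univ s.support
    rwa [Fintype.card_fin] at this
  have hr4 : (m - s.support.card) % 4 = 2 ∨ (m - s.support.card) % 4 = 3 := by (clear * - hmod hk hle; omega)
  -- the embedding of `C(z)`
  let ι : ↥(centralizer ({z} : Set G)) →* Perm (Fin m) :=
    (alternatingGroup (Fin m)).subtype.comp ((centralizer ({zt} : Set (alternatingGroup (Fin m)))).subtype.comp
      e.toMonoidHom)
  have hιinj : Function.Injective ι :=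
    (Subtype.val_injective.comp Subtype.val_injective).comp e.injective
  have hι1 : ∀ x, ι x ∈ CC s := by
    intro x
    rw [mem_CC]
    refine ⟨?_, mem_alternatingGroup.1 (e x).1.2⟩
    have h1 := mem_centralizer_singleton_iff.1 (e x).2
    exact congrArg Subtype.val h1
  have hι2 : ∀ c ∈ CC s, ∃ x, ι x = c := by
    intro c hc
    rw [mem_CC] at hc
    have h1 : (⟨c, mem_alternatingGroup.2 hc.2⟩ : alternatingGroup (Fin m)) ∈
        centralizer ({zt} : Set (alternatingGroup (Fin m))) := by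
      rw [mem_centralizer_singleton_iff]
      exact Subtype.ext hc.1
    refine ⟨e.symm ⟨_, h1⟩, ?_⟩
    change (((e (e.symm ⟨_, h1⟩)) : alternatingGroup (Fin m)) : Perm (Fin m)) = c
    rw [e.apply_symm_apply]
  set K : Subgroup (Perm (Fin m)) := (N.subgroupOf (centralizer ({z} : Set G))).map ι with hKdef
  have hKc : Nat.card K = Nat.card ↥(N ⊓ centralizer ({z} : Set G)) := by
    have h1 : Nat.card K = Nat.card ↥(N.subgroupOf (centralizer ({z} : Set G))) :=
      (Nat.card_congr ((N.subgroupOf (centralizer ({z} : Set G))).equivMapOfInjective ι hιinj).toEquiv).symm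
    rw [h1]
    refine Nat.card_congr
      { toFun := fun x => ⟨x.1.1, x.2, x.1.2⟩
        invFun := fun x => ⟨⟨x.1, x.2.2⟩, x.2.1⟩
        left_inv := fun x => rfl
        right_inv := fun x => rfl }
  have hK : K ≤ CC s := by
    rintro _ ⟨x, -, rfl⟩
    exact hι1 x
  have hKN : ∀ c ∈ CC s, ∀ n ∈ K, c * n * c⁻¹ ∈ K := by
    rintro c hc _ ⟨x, hx, rfl⟩
    obtain ⟨y, rfl⟩ := hι2 c hc
    refine ⟨y * x * y⁻¹, ?_, by rw [map_mul, map_mul, map_inv]⟩
    exact hN.conj_mem _ hx _
  have hKodd : Odd (Nat.card K) := by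
    rw [hKc]
    exact hNodd.of_dvd_nat (card_dvd_of_le inf_le_left)
  have hz2 : z * z = 1 := by rw [← pow_two, ← hz, pow_orderOf_eq_one]
  have hz1 : z ≠ 1 := by
    intro h
    rw [h, orderOf_one] at hz
    omega
  have eφ : (G ⧸ N) ≃* alternatingGroup (Fin m) := by
    subst hker
    exact QuotientGroup.quotientKerEquivOfSurjective φ hφ
  rcases card_odd_normal hs hex hK hKN hKodd hr hr4 with hc | ⟨-, hc⟩
  · -- `z` inverts `N`
    have h1 : N ⊓ centralizer ({z} : Set G) = ⊥ := by
      rw [hKc] at hc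
      exact Subgroup.eq_bot_of_card_eq _ hc
    refine Cfsg.Agent.H313.Red.eq_bot_of_fixedPointFree N hNodd hz2 hz1 ?_ ?_ ?_
    · exact eφ.isSimpleGroup
    · obtain ⟨a, b, hab⟩ := exists_noncomm_alt hm
      refine ⟨eφ.symm a, eφ.symm b, fun h => hab ?_⟩
      rw [← map_mul, ← map_mul] at h
      exact eφ.symm.injective h
    · intro x hx hxz
      have h2 : x ∈ N ⊓ centralizer ({z} : Set G) := ⟨hx, mem_centralizer_singleton_iff.2 hxz⟩
      rw [h1] at h2
      exact h2
  · exfalso
    obtain ⟨y0, hy0C, hy0, n0, hn0K, hn0⟩ := exists_inverting hs hex hK hKN hc hmove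
    obtain ⟨y1, rfl⟩ := hι2 y0 hy0C
    obtain ⟨x1, hx1, rfl⟩ := hn0K
    have hy1 : (y1 : G) * y1 = 1 := by
      have h1 : y1 * y1 = 1 := hιinj (by rw [map_mul, hy0, map_one])
      exact congrArg Subtype.val h1
    have hxy : (y1 : G) * x1 ≠ x1 * y1 := by
      intro h
      apply hn0
      rw [← map_mul, ← map_mul]
      exact congrArg ι (Subtype.ext h)
    have hkerodd : Odd (Nat.card φ.ker) := by rw [hker]; exact hNodd
    have hφz : orderOf (φ z) = 2 := by
      refine orderOf_eq_prime ?_ ?_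
      · rw [pow_two, ← map_mul, hz2, map_one]
      · intro h
        have h1 : z ∈ N := by rw [← hker]; exact h
        have h2 : orderOf (⟨z, h1⟩ : N) ∣ Nat.card N := orderOf_dvd_natCard _
        rw [← Subgroup.orderOf_coe] at h2
        rw [show orderOf ((⟨z, h1⟩ : N) : G) = 2 from hz] at h2
        exact absurd (hNodd.of_dvd_nat h2) (by decide)
    obtain ⟨τ', h1, h2, h3, h4, h5⟩ := exists_four (φ z) hφz
    obtain ⟨u, v, hu, hv, hu2, hv2, huv⟩ := lift_four φ hφ hkerodd hφz h1 h3
    have huu : u * u = 1 := by rw [← pow_two, ← hu2, pow_orderOf_eq_one]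
    have hvv : v * v = 1 := by rw [← pow_two, ← hv2, pow_orderOf_eq_one]
    have hne : u ≠ v := by
      rintro rfl
      exact h2 (hv.symm.trans hu)
    have huv2 : orderOf (u * v) = 2 := by
      refine orderOf_eq_prime ?_ ?_
      · rw [pow_two, mul_assoc, ← mul_assoc v, ← huv, mul_assoc, hvv, mul_one, huu]
      · intro h
        have := mul_eq_one_iff_eq_inv.1 h
        exact hne (by rw [this]; exact inv_eq_of_mul_eq_one_left hvv)
    have hconj : ∀ w, orderOf w = 2 → IsConj (φ z) (φ w) → IsConj z w := by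
      intro w hw h
      obtain ⟨c, hc⟩ := isConj_iff.1 h
      obtain ⟨g, rfl⟩ := hφ c
      refine Cfsg.Agent.MTwelveType.PatQuot.isConj_of_isConj_quot N hNodd hz hw ?_
      rw [isConj_iff]
      refine ⟨(g : G ⧸ N), ?_⟩
      rw [← QuotientGroup.mk_mul, ← QuotientGroup.mk_inv, ← QuotientGroup.mk_mul, QuotientGroup.eq, ← hker,
        MonoidHom.mem_ker, map_mul, map_inv, map_mul, map_mul, map_inv, hc, inv_mul_cancel]
    have hcard3 : ∀ w, w = u ∨ w = v ∨ w = u * v → Nat.card ↥(N ⊓ centralizer ({w} : Set G)) = 3 := by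
      intro w hw
      have h6 : IsConj z w := by
        rcases hw with rfl | rfl | rfl
        · exact hconj _ hu2 (by rw [hu])
        · exact hconj _ hv2 (by rw [hv]; exact h4)
        · exact hconj _ huv2 (by rw [map_mul, hu, hv]; exact h5)
      rw [card_conj N h6, ← hKc, hc]
    have hdvd := card_sq_dvd hNodd hu2 hv2 huv hne hcard3
    have : Fact (Nat.Prime 7) := ⟨by norm_num⟩
    have h7 : 7 ∣ Nat.card G := by
      have h8 : 7 ∣ Nat.card (alternatingGroup (Fin m)) := by
        have hnt : Nontrivial (Fin m) := Fin.nontrivial_iff_two_le.2 (by omega)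
        have h9 := two_mul_nat_card_alternatingGroup (α := Fin m)
        rw [Nat.card_perm, Nat.card_fin] at h9
        have h10 : 7 ∣ m.factorial := (Nat.Prime.dvd_factorial (by norm_num)).2 hm
        rw [← h9] at h10
        exact (Nat.Coprime.dvd_mul_left (by norm_num)).1 h10
      exact h8.trans (Subgroup.card_dvd_of_surjective φ hφ)
    obtain ⟨y, hy⟩ := exists_prime_orderOf_dvd_card' 7 h7
    have hNy := le_centralizer_seven (N := N) hy hdvd
    have hLn : (centralizer (N : Set G)).Normal := inferInstance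
    have hyL : y ∈ centralizer (N : Set G) := by
      rw [Subgroup.mem_centralizer_iff]
      intro n hn
      exact mem_centralizer_singleton_iff.1 (hNy hn)
    have hmapn : ((centralizer (N : Set G)).map φ).Normal := hLn.map φ hφ
    have hN3 : ¬ 7 ∣ Nat.card N := by
      intro h
      have h11 : 7 ∣ (3 ^ 2) ^ 3 := (dvd_pow h (by norm_num)).trans hdvd
      norm_num at h11
    rcases hmapn.eq_bot_or_eq_top with hb | ht
    · have h12 : φ y = 1 := by
        have h13 : φ y ∈ (centralizer (N : Set G)).map φ := ⟨y, hyL, rfl⟩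
        rw [hb] at h13
        exact h13
      have h14 : y ∈ N := by rw [← hker]; exact h12
      apply hN3
      have h15 := orderOf_dvd_natCard (⟨y, h14⟩ : N)
      rw [← Subgroup.orderOf_coe] at h15
      rwa [show orderOf ((⟨y, h14⟩ : N) : G) = 7 from hy] at h15
    · -- involutions centralize `N`
      have hy1L : (y1 : G) ∈ centralizer (N : Set G) := by
        have h13 : φ y1 ∈ (centralizer (N : Set G)).map φ := by rw [ht]; exact Subgroup.mem_top _
        obtain ⟨l, hl, hl2⟩ := h13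
        have hn : l⁻¹ * y1 ∈ N := by
          rw [← hker, MonoidHom.mem_ker, map_mul, map_inv, hl2, inv_mul_cancel]
        have h16 : ((y1 : G) : G ⧸ centralizer (N : Set G)) = ((l⁻¹ * y1 : G) : G ⧸ centralizer (N : Set G)) := by
          have h17 : ((l⁻¹ : G) : G ⧸ centralizer (N : Set G)) = 1 :=
            (QuotientGroup.eq_one_iff _).2 (inv_mem hl)
          rw [QuotientGroup.mk_mul, h17, one_mul]
        rw [← QuotientGroup.eq_one_iff, ← orderOf_eq_one_iff]
        have h18 : orderOf ((y1 : G) : G ⧸ centralizer (N : Set G)) ∣ 2 :=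
          orderOf_dvd_of_pow_eq_one (by rw [pow_two, ← QuotientGroup.mk_mul, hy1, QuotientGroup.mk_one])
        have h19 : orderOf ((y1 : G) : G ⧸ centralizer (N : Set G)) ∣ Nat.card N := by
          rw [h16]
          have h20 : orderOf (QuotientGroup.mk' (centralizer (N : Set G)) (l⁻¹ * y1)) ∣ orderOf (l⁻¹ * (y1 : G)) :=
            orderOf_map_dvd _ _
          refine h20.trans ?_
          have h21 := orderOf_dvd_natCard (⟨_, hn⟩ : N)
          rwa [← Subgroup.orderOf_coe] at h21
        exact Nat.eq_one_of_dvd_coprimes (Nat.coprime_two_left.2 hNodd) h18 h19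
      apply hxy
      rw [Subgroup.mem_centralizer_iff] at hy1L
      exact (hy1L x1 hx1).symm

/-- part F of S3218 -/
theorem finish' {G : Type*} [Group G] [Finite G] {m : ℕ} (hm : 7 ≤ m) (hmod : m % 4 = 2 ∨ m % 4 = 3)
    (zt : alternatingGroup (Fin m)) (hzt : orderOf zt = 2) (z : G) (hz : orderOf z = 2)
    (e : ↥(Subgroup.centralizer ({z} : Set G)) ≃* ↥(Subgroup.centralizer ({zt} : Set ↥(alternatingGroup (Fin m)))))
    (f : (G ⧸ Cfsg.oddCore G) ≃* alternatingGroup (Fin m)) : Nonempty (G ≃* alternatingGroup (Fin m)) := by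
  have h1 : Cfsg.oddCore G = ⊥ := by
    refine finish hm hmod zt hzt z hz e (Cfsg.oddCore G) Cfsg.Agent.H313.Red.oddCore_odd
      (f.toMonoidHom.comp (QuotientGroup.mk' (Cfsg.oddCore G)))
      (f.surjective.comp (QuotientGroup.mk'_surjective _)) ?_
    ext x
    rw [MonoidHom.mem_ker, MonoidHom.comp_apply]
    change f (x : G ⧸ Cfsg.oddCore G) = 1 ↔ _
    rw [map_eq_one_iff f f.injective, QuotientGroup.eq_one_iff]
  exact ⟨(QuotientGroup.quotientBot.symm.trans (QuotientGroup.quotientMulEquivOfEq h1.symm)).trans f⟩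

end Cfsg.Agent.H306.Kon
end

-- part: H217/EvenRows
section
/-!
# The orders of the groups of Lie type in characteristic two as rows of a table (helper217, S3191)
-/

set_option autoImplicit false

namespace Cfsg.Agent.H217.Ev

open Cfsg Cfsg.Agent.OrdDiv Cfsg.Agent.H405.Shape Cfsg.Agent.H816.TwoOrd

universe u

/-- a product in a form which computes -/
def pr (f : ℕ → ℕ) : ℕ → ℕ
  | 0 => 1
  | n + 1 => pr f n * f n

theorem pr_eq (f : ℕ → ℕ) (n : ℕ) : ∏ i ∈ Finset.range n, f i = pr f n := by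
  induction n with
  | zero => rfl
  | succ n ih => rw [Finset.prod_range_succ, ih]; rfl

theorem odd_pr {f : ℕ → ℕ} {n : ℕ} (h : ∀ i, i < n → Odd (f i)) : Odd (pr f n) := by
  induction n with
  | zero => exact odd_one
  | succ n ih => exact Nat.odd_mul.2 ⟨ih fun i hi => h i (by omega), h n (by omega)⟩

/-- a row of the table -/
structure Row where
  /-- the name -/
  g : ℕ → ℕ → Grp
  /-- the number of positive roots -/
  N : ℕ → ℕ
  /-- the odd part -/
  F : ℕ → ℕ → ℕ
  /-- the denominator -/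
  den : ℕ → ℕ → ℕ

/-- a row without rank -/
def one (g : ℕ → Grp) (N : ℕ) (F den : ℕ → ℕ) : Row :=
  ⟨fun _ => g, fun k => if k = 0 then N else 0, fun _ => F, fun _ => den⟩

/-- the rows -/
def rows : List Row :=
  [⟨fun k q => .psl k q, fun k => k * (k - 1) / 2, fun k q => pr (fun i => q ^ (i + 1) - 1) k,
      fun k q => Nat.gcd k (q - 1) * (q - 1)⟩,
   ⟨fun k q => .psp k q, fun k => k ^ 2, fun k q => pr (fun i => q ^ (2 * (i + 1)) - 1) k,
      fun _ q => Nat.gcd 2 (q - 1)⟩,
   ⟨fun k q => .psu k q, fun k => k * (k - 1) / 2,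
      fun k q => pr (fun i => if Even i then q ^ (i + 1) + 1 else q ^ (i + 1) - 1) k,
      fun k q => Nat.gcd k (q + 1) * (q + 1)⟩,
   ⟨fun k q => .oplus k q, fun k => if 4 ≤ k then k * (k - 1) else 0,
      fun k q => (q ^ k - 1) * pr (fun i => q ^ (2 * (i + 1)) - 1) (k - 1), fun k q => Nat.gcd 4 (q ^ k - 1)⟩,
   ⟨fun k q => .ominus k q, fun k => if 4 ≤ k then k * (k - 1) else 0,
      fun k q => (q ^ k + 1) * pr (fun i => q ^ (2 * (i + 1)) - 1) (k - 1), fun k q => Nat.gcd 4 (q ^ k + 1)⟩,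
   one .g2 6 (fun q => (q ^ 2 - 1) * (q ^ 6 - 1)) (fun _ => 1),
   one .f4 24 (fun q => (q ^ 2 - 1) * (q ^ 6 - 1) * (q ^ 8 - 1) * (q ^ 12 - 1)) (fun _ => 1),
   one .e6 36 (fun q => (q ^ 2 - 1) * (q ^ 5 - 1) * (q ^ 6 - 1) * (q ^ 8 - 1) * (q ^ 9 - 1) * (q ^ 12 - 1))
     (fun q => Nat.gcd 3 (q - 1)),
   one .e7 63 (fun q => (q ^ 2 - 1) * (q ^ 6 - 1) * (q ^ 8 - 1) * (q ^ 10 - 1) * (q ^ 12 - 1) * (q ^ 14 - 1) *
        (q ^ 18 - 1)) (fun q => Nat.gcd 2 (q - 1)),
   one .e8 120 (fun q => (q ^ 2 - 1) * (q ^ 8 - 1) * (q ^ 12 - 1) * (q ^ 14 - 1) * (q ^ 18 - 1) * (q ^ 20 - 1) *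
        (q ^ 24 - 1) * (q ^ 30 - 1)) (fun _ => 1),
   one .te6 36 (fun q => (q ^ 2 - 1) * (q ^ 5 + 1) * (q ^ 6 - 1) * (q ^ 8 - 1) * (q ^ 9 + 1) * (q ^ 12 - 1))
     (fun q => Nat.gcd 3 (q + 1)),
   one .td4 12 (fun q => (q ^ 2 - 1) * (q ^ 6 - 1) * (q ^ 8 + q ^ 4 + 1)) (fun _ => 1),
   one .sz 2 (fun q => (q - 1) * (q ^ 2 + 1)) (fun _ => 1),
   one .tf4 12 (fun q => (q - 1) * (q ^ 3 + 1) * (q ^ 4 - 1) * (q ^ 6 + 1)) (fun _ => 1)]

/-- what a row says about a group -/
structure Fits (S : Type u) [Group S] (R : Row) (k q : ℕ) : Prop where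
  even : Even q
  pos : 0 < R.N k
  real : Real (R.g k q) S
  odd : Odd (R.F k q)
  lie : LieOrd (R.den k q) (R.N k) (R.F k q) q (Nat.card S)

theorem odd_sub {q k : ℕ} (hq : Even q) (h0 : 0 < q) (hk : k ≠ 0) : Odd (q ^ k - 1) := by
  have h1 : Even (q ^ k) := (Nat.even_pow' hk).2 hq
  have h2 : 1 ≤ q ^ k := Nat.one_le_pow _ _ h0
  obtain ⟨a, ha⟩ := h1
  exact ⟨a - 1, by omega⟩

theorem odd_add {q k : ℕ} (hq : Even q) (hk : k ≠ 0) : Odd (q ^ k + 1) :=
  ((Nat.even_pow' hk).2 hq).add_one

theorem even_of {F : Type} [Field F] [Fintype F] [CharP F 2] : Even (Fintype.card F) :=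
  even_iff_two_dvd.2 dvd_card_field

theorem odd_mul {a b : ℕ} (ha : Odd a) (hb : Odd b) : Odd (a * b) := Nat.odd_mul.2 ⟨ha, hb⟩

/-- **The table.** -/
theorem exists_row (T : OrderTable.{u}) {S : Type u} [Group S] (h : IsLieTypeChar 2 S) :
    ∃ R ∈ rows, ∃ k q, Fits S R k q := by
  rcases h with h | h | h | h | h | h | h | h | h | h | h
  · obtain ⟨F, _, _, _, n, hn, hn2, ⟨e⟩⟩ := h
    have h1 := psl_ord (F := F) hn hn2
    have hq := even_of (F := F)
    refine ⟨_, List.mem_cons_self, n, Fintype.card F, hq, ?_,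
      ⟨F, inferInstance, inferInstance, rfl, ⟨e⟩⟩, ?_, ?_⟩
    · show 0 < n * (n - 1) / 2
      have : 2 * 1 ≤ n * (n - 1) := Nat.mul_le_mul hn (by omega)
      omega
    · exact odd_pr fun i _ => odd_sub hq Fintype.card_pos (by omega)
    · rw [Nat.card_congr e.toEquiv]
      have h2 := h1.2.2
      rw [pr_eq] at h2
      exact h2
  · obtain ⟨F, _, _, _, n, hn, hn2, ⟨e⟩⟩ := h
    have h1 := psp_ord (F := F) hn hn2
    have hq := even_of (F := F)
    refine ⟨_, List.mem_cons_of_mem _ List.mem_cons_self, n, Fintype.card F, hq, ?_,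
      ⟨F, inferInstance, inferInstance, rfl, ⟨e⟩⟩, ?_, ?_⟩
    · show 0 < n ^ 2
      positivity
    · exact odd_pr fun i _ => odd_sub hq Fintype.card_pos (by omega)
    · rw [Nat.card_congr e.toEquiv]
      have h2 := h1.2.2
      rw [pr_eq] at h2
      exact h2
  · obtain ⟨F, _, _, _, n, q, hF, hn, hn2, ⟨e⟩⟩ := h
    have h1 := psu_ord (F := F) hF hn hn2
    have hq : Even q := by
      have h3 := even_of (F := F)
      rw [hF] at h3
      exact (Nat.even_pow' (by norm_num)).1 h3
    have hq0 : 0 < q := h1.2.2.pp.pos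
    refine ⟨_, List.mem_cons_of_mem _ (List.mem_cons_of_mem _ List.mem_cons_self), n, q, hq, ?_,
      ⟨F, inferInstance, inferInstance, hF, ⟨e⟩⟩, ?_, ?_⟩
    · show 0 < n * (n - 1) / 2
      have : 3 * 2 ≤ n * (n - 1) := Nat.mul_le_mul hn (by omega)
      omega
    · refine odd_pr fun i _ => ?_
      split_ifs
      · exact odd_add hq (by omega)
      · exact odd_sub hq hq0 (by omega)
    · rw [Nat.card_congr e.toEquiv]
      have h2 := h1.2.2
      rw [pr_eq] at h2
      exact h2
  · exfalso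
    obtain ⟨F, _, _, _, n, hn, ho, ⟨e⟩⟩ := h
    exact (Nat.not_even_iff_odd.2 ho) (even_of (F := F))
  · obtain ⟨F, _, _, _, n, hn, ⟨e⟩⟩ := h
    have h1 := oplus_ord (F := F) hn
    have hq := even_of (F := F)
    refine ⟨_, List.mem_cons_of_mem _ (List.mem_cons_of_mem _ (List.mem_cons_of_mem _ List.mem_cons_self)), n,
      Fintype.card F, hq, ?_, ⟨F, inferInstance, inferInstance, rfl, ⟨e⟩⟩, ?_, ?_⟩
    · show 0 < if 4 ≤ n then n * (n - 1) else 0
      rw [if_pos hn]
      exact Nat.mul_pos (by omega) (by omega)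
    · exact odd_mul (odd_sub hq Fintype.card_pos (by omega))
        (odd_pr fun i _ => odd_sub hq Fintype.card_pos (by omega))
    · rw [Nat.card_congr e.toEquiv]
      have h2 := h1.2
      rw [pr_eq] at h2
      show LieOrd _ (if 4 ≤ n then n * (n - 1) else 0) _ _ _
      rw [if_pos hn]
      exact h2
  · obtain ⟨F, _, _, _, n, a, b, hn, hab, ⟨e⟩⟩ := h
    have h1 := ominus_ord (F := F) hn hab
    have hq := even_of (F := F)
    refine ⟨_, List.mem_cons_of_mem _ (List.mem_cons_of_mem _ (List.mem_cons_of_mem _ (List.mem_cons_of_mem _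
      List.mem_cons_self))), n,
      Fintype.card F, hq, ?_, ⟨F, inferInstance, inferInstance, a, b, rfl, hab, ⟨e⟩⟩, ?_, ?_⟩
    · show 0 < if 4 ≤ n then n * (n - 1) else 0
      rw [if_pos hn]
      exact Nat.mul_pos (by omega) (by omega)
    · exact odd_mul (odd_add hq (by omega))
        (odd_pr fun i _ => odd_sub hq Fintype.card_pos (by omega))
    · rw [Nat.card_congr e.toEquiv]
      have h2 := h1.2
      rw [pr_eq] at h2
      show LieOrd _ (if 4 ≤ n then n * (n - 1) else 0) _ _ _
      rw [if_pos hn]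
      exact h2
  · obtain ⟨F, _, _, _, h⟩ := h
    have hpp : IsPrimePow (Fintype.card F) := Fintype.isPrimePow_card_of_field
    have hq := even_of (F := F)
    have hq0 : 0 < Fintype.card F := Fintype.card_pos
    rcases h with ⟨hq3, ⟨e⟩⟩ | ⟨⟨e⟩⟩ | ⟨⟨e⟩⟩ | ⟨⟨e⟩⟩ | ⟨⟨e⟩⟩
    · refine ⟨one .g2 6 (fun q => (q ^ 2 - 1) * (q ^ 6 - 1)) (fun _ => 1), by simp only [rows, _root_.List.mem_cons, _root_.List.not_mem_nil, _root_.or_false, _root_.true_or, _root_.or_true], 0, Fintype.card F, hq,
        (by norm_num only [one, _root_.ite_true, _root_.Nat.ofNat_pos]), ⟨F, inferInstance, inferInstance, rfl, ⟨e⟩⟩, ?_, hpp, Nat.coprime_one_left _, ?_⟩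
      · exact odd_mul (odd_sub hq hq0 (by omega)) (odd_sub hq hq0 (by omega))
      · rw [Nat.card_congr e.toEquiv, T.g2 F]
        simp only [one, if_true]
        ring
    · refine ⟨one .f4 24 (fun q => (q ^ 2 - 1) * (q ^ 6 - 1) * (q ^ 8 - 1) * (q ^ 12 - 1)) (fun _ => 1),
        by simp only [rows, _root_.List.mem_cons, _root_.List.not_mem_nil, _root_.or_false, _root_.true_or, _root_.or_true], 0, Fintype.card F, hq,
        (by norm_num only [one, _root_.ite_true, _root_.Nat.ofNat_pos]), ⟨F, inferInstance, inferInstance, rfl, ⟨e⟩⟩, ?_, hpp, Nat.coprime_one_left _, ?_⟩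
      · exact odd_mul (odd_mul (odd_mul (odd_sub hq hq0 (by omega)) (odd_sub hq hq0 (by omega)))
          (odd_sub hq hq0 (by omega))) (odd_sub hq hq0 (by omega))
      · rw [Nat.card_congr e.toEquiv, T.f4 F _ rfl]
        simp only [one, if_true]
        ring
    · have h0 := cop_sub (q := Fintype.card F) (k := 1) Fintype.card_pos le_rfl
      rw [pow_one] at h0
      refine ⟨one .e6 36 (fun q => (q ^ 2 - 1) * (q ^ 5 - 1) * (q ^ 6 - 1) * (q ^ 8 - 1) * (q ^ 9 - 1) * (q ^ 12 - 1))
        (fun q => Nat.gcd 3 (q - 1)),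
        by simp only [rows, _root_.List.mem_cons, _root_.List.not_mem_nil, _root_.or_false, _root_.true_or, _root_.or_true], 0, Fintype.card F, hq,
        (by norm_num only [one, _root_.ite_true, _root_.Nat.ofNat_pos]), ⟨F, inferInstance, inferInstance, rfl, ⟨e⟩⟩, ?_, hpp,
        Nat.Coprime.coprime_dvd_left (Nat.gcd_dvd_right _ _) h0, ?_⟩
      · exact odd_mul (odd_mul (odd_mul (odd_mul (odd_mul (odd_sub hq hq0 (by omega)) (odd_sub hq hq0 (by omega)))
          (odd_sub hq hq0 (by omega))) (odd_sub hq hq0 (by omega))) (odd_sub hq hq0 (by omega)))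
          (odd_sub hq hq0 (by omega))
      · rw [Nat.card_congr e.toEquiv]
        simp only [one, if_true]
        rw [T.e6 F _ rfl]
        ring
    · have h0 := cop_sub (q := Fintype.card F) (k := 1) Fintype.card_pos le_rfl
      rw [pow_one] at h0
      refine ⟨one .e7 63 (fun q => (q ^ 2 - 1) * (q ^ 6 - 1) * (q ^ 8 - 1) * (q ^ 10 - 1) * (q ^ 12 - 1) *
        (q ^ 14 - 1) * (q ^ 18 - 1)) (fun q => Nat.gcd 2 (q - 1)),
        by simp only [rows, _root_.List.mem_cons, _root_.List.not_mem_nil, _root_.or_false, _root_.true_or, _root_.or_true], 0, Fintype.card F, hq,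
        (by norm_num only [one, _root_.ite_true, _root_.Nat.ofNat_pos]), ⟨F, inferInstance, inferInstance, rfl, ⟨e⟩⟩, ?_, hpp,
        Nat.Coprime.coprime_dvd_left (Nat.gcd_dvd_right _ _) h0, ?_⟩
      · exact odd_mul (odd_mul (odd_mul (odd_mul (odd_mul (odd_mul (odd_sub hq hq0 (by omega))
          (odd_sub hq hq0 (by omega))) (odd_sub hq hq0 (by omega))) (odd_sub hq hq0 (by omega)))
          (odd_sub hq hq0 (by omega))) (odd_sub hq hq0 (by omega))) (odd_sub hq hq0 (by omega))
      · rw [Nat.card_congr e.toEquiv]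
        simp only [one, if_true]
        rw [T.e7 F _ rfl]
        ring
    · refine ⟨one .e8 120 (fun q => (q ^ 2 - 1) * (q ^ 8 - 1) * (q ^ 12 - 1) * (q ^ 14 - 1) * (q ^ 18 - 1) *
        (q ^ 20 - 1) * (q ^ 24 - 1) * (q ^ 30 - 1)) (fun _ => 1),
        by simp only [rows, _root_.List.mem_cons, _root_.List.not_mem_nil, _root_.or_false, _root_.true_or, _root_.or_true], 0, Fintype.card F, hq,
        (by norm_num only [one, _root_.ite_true, _root_.Nat.ofNat_pos]), ⟨F, inferInstance, inferInstance, rfl, ⟨e⟩⟩, ?_, hpp, Nat.coprime_one_left _, ?_⟩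
      · exact odd_mul (odd_mul (odd_mul (odd_mul (odd_mul (odd_mul (odd_mul (odd_sub hq hq0 (by omega))
          (odd_sub hq hq0 (by omega))) (odd_sub hq hq0 (by omega))) (odd_sub hq hq0 (by omega)))
          (odd_sub hq hq0 (by omega))) (odd_sub hq hq0 (by omega))) (odd_sub hq hq0 (by omega)))
          (odd_sub hq hq0 (by omega))
      · rw [Nat.card_congr e.toEquiv, T.e8 F _ rfl]
        simp only [one, if_true]
        ring
  · obtain ⟨F, _, _, _, q, hpp, h⟩ := h
    have hq0 : 0 < q := hpp.pos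
    rcases h with ⟨hF, ⟨e⟩⟩ | ⟨hF, ⟨e⟩⟩
    · have hq : Even q := by
        have h3 := even_of (F := F)
        rw [hF] at h3
        exact (Nat.even_pow' (by norm_num)).1 h3
      have h0 := cop_add (q := q) (k := 1) le_rfl
      rw [pow_one] at h0
      refine ⟨one .te6 36 (fun q => (q ^ 2 - 1) * (q ^ 5 + 1) * (q ^ 6 - 1) * (q ^ 8 - 1) * (q ^ 9 + 1) *
        (q ^ 12 - 1)) (fun q => Nat.gcd 3 (q + 1)),
        by simp only [rows, _root_.List.mem_cons, _root_.List.not_mem_nil, _root_.or_false, _root_.true_or, _root_.or_true], 0, q, hq,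
        (by norm_num only [one, _root_.ite_true, _root_.Nat.ofNat_pos]), ⟨F, inferInstance, inferInstance, hF, ⟨e⟩⟩, ?_, hpp,
        Nat.Coprime.coprime_dvd_left (Nat.gcd_dvd_right _ _) h0, ?_⟩
      · exact odd_mul (odd_mul (odd_mul (odd_mul (odd_mul (odd_sub hq hq0 (by omega)) (odd_add hq (by omega)))
          (odd_sub hq hq0 (by omega))) (odd_sub hq hq0 (by omega))) (odd_add hq (by omega)))
          (odd_sub hq hq0 (by omega))
      · rw [Nat.card_congr e.toEquiv]
        simp only [one, if_true]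
        rw [T.te6 F q hpp hF]
        ring
    · have hq : Even q := by
        have h3 := even_of (F := F)
        rw [hF] at h3
        exact (Nat.even_pow' (by norm_num)).1 h3
      refine ⟨one .td4 12 (fun q => (q ^ 2 - 1) * (q ^ 6 - 1) * (q ^ 8 + q ^ 4 + 1)) (fun _ => 1),
        by simp only [rows, _root_.List.mem_cons, _root_.List.not_mem_nil, _root_.or_false, _root_.true_or, _root_.or_true], 0, q, hq,
        (by norm_num only [one, _root_.ite_true, _root_.Nat.ofNat_pos]), ⟨F, inferInstance, inferInstance, hF, ⟨e⟩⟩, ?_, hpp, Nat.coprime_one_left _, ?_⟩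
      · refine odd_mul (odd_mul (odd_sub hq hq0 (by omega)) (odd_sub hq hq0 (by omega))) ?_
        exact (((Nat.even_pow' (by norm_num)).2 hq).add ((Nat.even_pow' (by norm_num)).2 hq)).add_one
      · rw [Nat.card_congr e.toEquiv]
        simp only [one, if_true]
        rw [T.td4 F q hpp hF]
        ring
  · obtain ⟨-, F, _, _, m, hm, hF, ⟨e⟩⟩ := h
    have hq : Even (2 ^ (2 * m + 1)) := (Nat.even_pow' (by omega)).2 (by decide)
    have hpp : IsPrimePow (2 ^ (2 * m + 1)) := Nat.prime_two.isPrimePow.pow (by omega)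
    have hq0 := hpp.pos
    refine ⟨one .sz 2 (fun q => (q - 1) * (q ^ 2 + 1)) (fun _ => 1), by simp only [rows, _root_.List.mem_cons, _root_.List.not_mem_nil, _root_.or_false, _root_.true_or, _root_.or_true], 0, 2 ^ (2 * m + 1), hq,
      (by norm_num [one]), ⟨F, inferInstance, inferInstance, m, hm, hF, rfl, ⟨e⟩⟩, ?_, hpp,
      Nat.coprime_one_left _, ?_⟩
    · have h1 := odd_sub hq hq0 (k := 1) (by omega)
      rw [pow_one] at h1
      exact odd_mul h1 (odd_add hq (by omega))
    · rw [Nat.card_congr e.toEquiv, T.sz F m hm hF]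
      simp only [one, if_true]
      ring
  · obtain ⟨-, F, _, _, m, hm, hF, ⟨e⟩⟩ := h
    have hq : Even (2 ^ (2 * m + 1)) := (Nat.even_pow' (by omega)).2 (by decide)
    have hpp : IsPrimePow (2 ^ (2 * m + 1)) := Nat.prime_two.isPrimePow.pow (by omega)
    have hq0 := hpp.pos
    refine ⟨one .tf4 12 (fun q => (q - 1) * (q ^ 3 + 1) * (q ^ 4 - 1) * (q ^ 6 + 1)) (fun _ => 1), by simp only [rows, _root_.List.mem_cons, _root_.List.not_mem_nil, _root_.or_false, _root_.or_true], 0,
      2 ^ (2 * m + 1), hq,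
      (by norm_num only [one, _root_.ite_true, _root_.Nat.ofNat_pos]), ⟨F, inferInstance, inferInstance, m, hm, hF, rfl, ⟨e⟩⟩, ?_, hpp,
      Nat.coprime_one_left _, ?_⟩
    · have h1 := odd_sub hq hq0 (k := 1) (by omega)
      rw [pow_one] at h1
      exact odd_mul (odd_mul (odd_mul h1 (odd_add hq (by omega))) (odd_sub hq hq0 (by omega)))
        (odd_add hq (by omega))
    · rw [Nat.card_congr e.toEquiv, T.tf4 F m hm hF]
      simp only [one, if_true]
      ring
  · exact absurd h.1 (by norm_num)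

end Cfsg.Agent.H217.Ev
end

-- part: H217/OddElim
section
/-!
# No group of Lie type of odd characteristic has the profile (helper217, S3191)
-/

set_option autoImplicit false

namespace Cfsg.Agent.H217.Pf

open Subgroup Cfsg Cfsg.Agent.OrdDiv

universe u

/-- a power of two dividing the order of the centralizer -/
theorem Prof.two_dvd {n j : ℕ} {N : Type u} [Group N] [Finite N] {t : N} (P : Prof n j N t) (hn : 3 ≤ n) :
    16 ∣ Nat.card N := by
  obtain ⟨c, hc, h1⟩ := P.card
  have h2 : (2 : ℕ) ^ 6 ∣ 2 ^ (2 * n) := pow_dvd_pow 2 (by omega)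
  have h3 : (2 : ℕ) ^ 4 ∣ (2 * n).factorial := by
    have : (6 : ℕ).factorial ∣ (2 * n).factorial := Nat.factorial_dvd_factorial (by omega)
    exact (show (2 : ℕ) ^ 4 ∣ (6 : ℕ).factorial by decide).trans this
  have h4 : (2 : ℕ) ^ 4 * 2 ^ 2 ∣ Nat.card (centralizer ({t} : Set N)) * 2 ^ j := by
    rw [h1]
    have h5 : (2 : ℕ) ^ 6 * 2 ^ 4 ∣ c * (2 ^ (2 * n) * (2 * n).factorial) := (Nat.mul_dvd_mul h2 h3).mul_left c
    exact (show (2 : ℕ) ^ 4 * 2 ^ 2 ∣ 2 ^ 6 * 2 ^ 4 by norm_num).trans h5
  have h5 : (2 : ℕ) ^ 4 ∣ Nat.card (centralizer ({t} : Set N)) := by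
    rcases P.hj with hj | hj
    · rw [hj, pow_zero, mul_one] at h4
      exact (Dvd.intro _ rfl).trans h4
    · rw [hj] at h4
      exact Nat.dvd_of_mul_dvd_mul_right (by norm_num) h4
  exact h5.trans (Subgroup.card_subgroup_dvd_card _)

theorem three_pow (m : ℕ) : 3 ^ (2 * m + 1) % 16 = 3 ∨ 3 ^ (2 * m + 1) % 16 = 11 := by
  induction m with
  | zero => left; rfl
  | succ m ih =>
    have h1 : 3 ^ (2 * (m + 1) + 1) = 3 ^ (2 * m + 1) * 9 := by ring
    rw [h1, Nat.mul_mod]
    rcases ih with h | h <;> rw [h] <;> simp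

/-- the order of a Ree group of type `²G₂` -/
theorem ree_card (T : OrderTable.{u}) {N : Type u} [Group N] (h : Lie.IsoRee N) : ¬ 16 ∣ Nat.card N := by
  obtain ⟨F, _, _, m, hm, hF, ⟨e⟩⟩ := h
  rw [Nat.card_congr e.toEquiv, T.ree F m hm hF]
  have h1 := three_pow m
  generalize 3 ^ (2 * m + 1) = q at h1
  intro h2
  have h3 : (q ^ 3 * (q - 1) * (q ^ 3 + 1)) % 16 = 0 := Nat.mod_eq_zero_of_dvd h2
  rcases h1 with h1 | h1
  · obtain ⟨k, rfl⟩ : ∃ k, q = 16 * k + 3 := ⟨q / 16, by omega⟩
    have e1 : (16 * k + 3) ^ 3 % 16 = 11 := by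
      have : (16 * k + 3) ^ 3 = 16 * (256 * k ^ 3 + 144 * k ^ 2 + 27 * k + 1) + 11 := by ring
      (clear * - this; omega)
    have e2 : 16 * k + 3 - 1 = 16 * k + 2 := by omega
    rw [Nat.mul_mod, Nat.mul_mod ((16 * k + 3) ^ 3), e1, e2, Nat.add_mod ((16 * k + 3) ^ 3), e1] at h3
    have e3 : (16 * k + 2) % 16 = 2 := by (clear * -; omega)
    rw [e3] at h3
    exact absurd h3 (by decide)
  · obtain ⟨k, rfl⟩ : ∃ k, q = 16 * k + 11 := ⟨q / 16, by omega⟩
    have e1 : (16 * k + 11) ^ 3 % 16 = 3 := by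
      have : (16 * k + 11) ^ 3 = 16 * (256 * k ^ 3 + 528 * k ^ 2 + 363 * k + 83) + 3 := by ring
      (clear * - this; omega)
    have e2 : 16 * k + 11 - 1 = 16 * k + 10 := by omega
    rw [Nat.mul_mod, Nat.mul_mod ((16 * k + 11) ^ 3), e1, e2, Nat.add_mod ((16 * k + 11) ^ 3), e1] at h3
    have e3 : (16 * k + 10) % 16 = 10 := by (clear * -; omega)
    rw [e3] at h3
    exact absurd h3 (by decide)

/-- **No group of Lie type of odd characteristic.** -/
theorem Prof.not_odd (T : OrderTable.{u}) {n j : ℕ} {N : Type u} [Group N] [Finite N] [IsSimpleGroup N] {t : N}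
    (P : Prof n j N t) (hn : 3 ≤ n) {p : ℕ} (hp2 : p ≠ 2) (h : IsLieTypeChar p N) : False := by
  rcases Cfsg.Agent.H73.OC.oddCent hp2 h P.tt with h1 | h1
  · obtain ⟨D, -, hD, hs⟩ := Schreier.Basic.exists_perfect_residual (⊤ : Subgroup (centralizer ({t} : Set N)))
    have h2 := h1.eq_bot P.comp hD
    have h3 := hs h2
    apply P.nonsolv
    exact Group.isSolvable_of_surjective (f := (Subgroup.topEquiv (G := centralizer ({t} : Set N))).toMonoidHom)
      Subgroup.topEquiv.surjective
  · exact ree_card T h1 (P.two_dvd hn)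

end Cfsg.Agent.H217.Pf
end

-- part: H217/EvenNum
section
/-!
# The groups of Lie type in characteristic two with the profile: arithmetic (helper217, S3191)
-/

set_option autoImplicit false

namespace Cfsg.Agent.H217.Ev

open Cfsg Cfsg.Agent.OrdDiv Cfsg.Agent.H405.Shape Cfsg.Agent.H217.Pf Subgroup

universe u

/-- the order of `2 wr S_{2n}` -/
def ww (n : ℕ) : ℕ := 2 ^ (2 * n) * (2 * n).factorial

/-- its 2-adic valuation, `n < 64` -/
def vw (n : ℕ) : ℕ := 2 * n + n + n / 2 + n / 4 + n / 8 + n / 16 + n / 32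

/-- the survivors -/
def surv (n j : ℕ) (g : Grp) : Bool :=
  decide ((n, j, g) ∈ [(3, 0, Grp.psl 5 2), (3, 0, Grp.psu 5 2), (4, 0, Grp.psl 6 2), (4, 0, Grp.psu 6 2),
    (5, 0, Grp.psp 3 4), (3, 2, Grp.psp 2 4), (5, 2, Grp.psp 4 2), (6, 2, Grp.psl 5 4), (6, 2, Grp.ominus 5 2)])

/-- the check for a row -/
def chk (n j : ℕ) (R : Row) : Bool :=
  (List.range 20).all fun k =>
    Nat.beq (R.N k) 0 || (!(Nat.beq ((vw n - j) % R.N k) 0)) ||
      (!(Nat.beq ((2 ^ vw n * R.F k (2 ^ ((vw n - j) / R.N k))) % (R.den k (2 ^ ((vw n - j) / R.N k)) * ww n)) 0)) ||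
      surv n j (R.g k (2 ^ ((vw n - j) / R.N k)))

set_option maxRecDepth 100000 in
theorem chk_all : ((List.range 42).all fun n => Nat.blt n 3 ||
    (rows.all (fun R => chk n 0 R) && rows.all (fun R => chk n 2 R))) = true := by decide +kernel

theorem vw_all : ((List.range 42).all fun n =>
    Nat.beq (ww n % 2 ^ vw n) 0 && Nat.beq ((ww n / 2 ^ vw n) % 2) 1 && Nat.ble (vw n) 161 &&
      (Nat.blt n 3 || Nat.ble 2 (vw n))) = true := by decide +kernel

/-- the ranks are bounded -/
theorem rank_lt : ∀ R ∈ rows, ∀ k, 0 < R.N k → R.N k ≤ 161 → k < 20 := by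
  have h1 : ∀ k, k * (k - 1) / 2 ≤ 161 → k < 20 := by
    intro k hk
    by_contra hlt
    push Not at hlt
    have : 20 * 19 ≤ k * (k - 1) := Nat.mul_le_mul hlt (by omega)
    omega
  have h2 : ∀ k, k * (k - 1) ≤ 161 → k < 20 := by
    intro k hk
    by_contra hlt
    push Not at hlt
    have : 20 * 19 ≤ k * (k - 1) := Nat.mul_le_mul hlt (by omega)
    omega
  have h3 : ∀ k, k ^ 2 ≤ 161 → k < 20 := by
    intro k hk
    by_contra hlt
    push Not at hlt
    have : 20 ^ 2 ≤ k ^ 2 := Nat.pow_le_pow_left hlt 2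
    omega
  have h4 : ∀ (g : ℕ → Grp) (N : ℕ) (F den : ℕ → ℕ) (k : ℕ), 0 < (one g N F den).N k → k < 20 := by
    intro g N F den k hk
    by_contra hlt
    have h0 : (one g N F den).N k = 0 := by
      show (if k = 0 then N else 0) = 0
      rw [if_neg (by omega)]
    omega
  intro R hR k hk hk2
  simp only [rows, List.mem_cons, List.not_mem_nil, or_false] at hR
  rcases hR with rfl | rfl | rfl | rfl | rfl | rfl | rfl | rfl | rfl | rfl | rfl | rfl | rfl | rfl
  · exact h1 k hk2
  · exact h3 k hk2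
  · exact h1 k hk2
  · refine h2 k ?_
    by_cases h4 : 4 ≤ k
    · have h5 : (if 4 ≤ k then k * (k - 1) else 0) ≤ 161 := hk2
      rwa [if_pos h4] at h5
    · have : k * (k - 1) ≤ 3 * 3 := Nat.mul_le_mul (by omega) (by omega)
      omega
  · refine h2 k ?_
    by_cases h4 : 4 ≤ k
    · have h5 : (if 4 ≤ k then k * (k - 1) else 0) ≤ 161 := hk2
      rwa [if_pos h4] at h5
    · have : k * (k - 1) ≤ 3 * 3 := Nat.mul_le_mul (by omega) (by omega)
      omega
  all_goals exact h4 _ _ _ _ k hk

/-- the equation for the order -/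
theorem card_eq {n j : ℕ} {N : Type u} [Group N] [Finite N] {t : N} (P : Prof n j N t) :
    ∃ b, Odd b ∧ Nat.card N * 2 ^ j = ww n * b := by
  obtain ⟨c, hc, h1⟩ := P.card
  refine ⟨c * (centralizer ({t} : Set N)).index, ?_, ?_⟩
  · refine Nat.odd_mul.2 ⟨?_, ?_⟩
    · rcases hc with rfl | rfl <;> decide
    · have := P.odd
      rwa [← Nat.not_even_iff_odd, even_iff_two_dvd]
  · rw [← Subgroup.card_mul_index (centralizer ({t} : Set N))]
    calc Nat.card (centralizer ({t} : Set N)) * (centralizer ({t} : Set N)).index * 2 ^ j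
        = (Nat.card (centralizer ({t} : Set N)) * 2 ^ j) * (centralizer ({t} : Set N)).index := by ring
      _ = _ := by rw [h1]; unfold ww; ring

theorem big (n : ℕ) (hn : 42 ≤ n) : 2 ^ (10 * n) ≤ (2 * n).factorial := by
  induction n, hn using Nat.le_induction with
  | base => decide +kernel
  | succ n hn ih =>
    have h1 : (2 * (n + 1)).factorial = (2 * n + 2) * ((2 * n + 1) * (2 * n).factorial) := by
      rw [show 2 * (n + 1) = (2 * n + 1) + 1 by ring, Nat.factorial_succ, Nat.factorial_succ]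
    have h2 : 2 ^ (10 * (n + 1)) = 32 * (32 * 2 ^ (10 * n)) := by
      rw [show 10 * (n + 1) = 10 * n + 10 by ring, pow_add]
      ring
    rw [h1, h2]
    exact Nat.mul_le_mul (by omega) (Nat.mul_le_mul (by omega) ih)

/-- **The bound** for `n`. -/
theorem le_of_even {n j : ℕ} {N : Type u} [Group N] [Finite N] {t : N} (P : Prof n j N t)
    (h : IsLieTypeChar 2 N) : n ≤ 41 := by
  by_contra hlt
  push Not at hlt
  obtain ⟨b, hb, hc⟩ := card_eq P
  have h1 := H315.OrderCube.card_lt_cube Nat.prime_two h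
  set V := (Nat.card N).factorization 2 with hV
  have hN0 : Nat.card N ≠ 0 := Nat.card_pos.ne'
  have h2 : 2 ^ V ∣ Nat.card N := Nat.ordProj_dvd _ _
  -- `2 ^ V ∣ ww n`
  have h3 : 2 ^ V ∣ ww n := by
    have h4 : 2 ^ V ∣ ww n * b := by rw [← hc]; exact h2.mul_right _
    exact Nat.Coprime.dvd_of_dvd_mul_right (Nat.Coprime.pow_left V (Nat.coprime_two_left.2 hb)) h4
  have h4 : V ≤ 4 * n - 1 := by
    by_contra hcon
    push Not at hcon
    have h5 : 2 ^ (2 * n) * 2 ^ (2 * n) ∣ 2 ^ (2 * n) * (2 * n).factorial := by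
      rw [← pow_add]
      exact (pow_dvd_pow 2 (by omega)).trans h3
    have h6 : 2 ^ (2 * n) ∣ (2 * n).factorial := Nat.dvd_of_mul_dvd_mul_left (by positivity) h5
    have h7 := Nat.emultiplicity_two_factorial_lt (n := 2 * n) (by omega)
    exact (lt_irrefl _ (h7.trans_le (le_emultiplicity_of_pow_dvd h6)))
  have h5 : Nat.card N < 2 ^ (12 * n - 3) := by
    refine h1.trans_le ?_
    rw [← pow_mul]
    exact Nat.pow_le_pow_right (by norm_num) (by omega)
  have h6 : ww n ≤ Nat.card N * 4 := by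
    have h7 : ww n ≤ ww n * b := Nat.le_mul_of_pos_right _ hb.pos
    refine h7.trans ?_
    rw [← hc]
    apply Nat.mul_le_mul_left
    rcases P.hj with hj | hj <;> rw [hj] <;> norm_num
  have h7 := big n (by omega)
  have h8 : 2 ^ (12 * n) ≤ ww n := by
    unfold ww
    rw [show 12 * n = 2 * n + 10 * n by ring, pow_add]
    exact Nat.mul_le_mul_left _ h7
  have h9 : 2 ^ (12 * n) = 2 ^ (12 * n - 3) * 8 := by
    rw [show (8 : ℕ) = 2 ^ 3 by norm_num, ← pow_add]
    congr 1
    omega
  have h10 : 0 < 2 ^ (12 * n - 3) := by positivity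
  omega

/-- uniqueness of the 2-part -/
theorem two_part {a b x y : ℕ} (ha : Odd a) (hb : Odd b) (h : 2 ^ x * a = 2 ^ y * b) : x = y := by
  rcases lt_trichotomy x y with h1 | h1 | h1
  · exfalso
    obtain ⟨d, rfl⟩ : ∃ d, y = x + (d + 1) := ⟨y - x - 1, by omega⟩
    rw [pow_add, mul_assoc] at h
    have h2 := Nat.eq_of_mul_eq_mul_left (by positivity) h
    rw [h2, pow_succ, mul_assoc, mul_left_comm] at ha
    exact (Nat.not_even_iff_odd.2 ha) (even_two_mul _)
  · exact h1
  · exfalso
    obtain ⟨d, rfl⟩ : ∃ d, x = y + (d + 1) := ⟨x - y - 1, by omega⟩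
    rw [pow_add, mul_assoc] at h
    have h2 := Nat.eq_of_mul_eq_mul_left (by positivity) h
    rw [← h2, pow_succ, mul_assoc, mul_left_comm] at hb
    exact (Nat.not_even_iff_odd.2 hb) (even_two_mul _)

/-- **The survivors in characteristic two.** -/
theorem survivors (T : OrderTable.{u}) {n j : ℕ} {N : Type u} [Group N] [Finite N] {t : N} (P : Prof n j N t)
    (hn : 3 ≤ n) (h : IsLieTypeChar 2 N) : ∃ g, surv n j g = true ∧ Real g N := by
  have hn41 := le_of_even P h
  obtain ⟨b, hb, hc⟩ := card_eq P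
  obtain ⟨R, hR, k, q, hq, hpos, hreal, hodd, hpp, hcop, heq⟩ := exists_row T h
  have hall := chk_all
  rw [List.all_eq_true] at hall
  have h1 := hall n (List.mem_range.2 (by omega))
  rw [Bool.or_eq_true, Nat.blt_eq] at h1
  have h1' := h1.resolve_left (by omega)
  rw [Bool.and_eq_true, List.all_eq_true, List.all_eq_true] at h1'
  have hchk : chk n j R = true := by
    rcases P.hj with hj | hj
    · rw [hj]; exact h1'.1 R hR
    · rw [hj]; exact h1'.2 R hR
  have hv := vw_all
  rw [List.all_eq_true] at hv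
  have hv1 := hv n (List.mem_range.2 (by omega))
  rw [Bool.and_eq_true, Bool.and_eq_true, Bool.and_eq_true, Nat.beq_eq, Nat.beq_eq, Nat.ble_eq, Bool.or_eq_true,
    Nat.ble_eq, Nat.blt_eq] at hv1
  obtain ⟨⟨⟨v1, v2⟩, v3⟩, v4⟩ := hv1
  have v4' : 2 ≤ vw n := v4.resolve_left (by omega)
  obtain ⟨w', hw'⟩ := Nat.dvd_of_mod_eq_zero v1
  have hw'o : Odd w' := by
    rw [hw', Nat.mul_div_cancel_left _ (by positivity)] at v2
    exact Nat.odd_iff.2 v2
  have hj2 : j ≤ 2 := by rcases P.hj with hj | hj <;> omega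
  -- the order
  have hcard : Nat.card N = 2 ^ (vw n - j) * (w' * b) := by
    have h2 : Nat.card N * 2 ^ j = (2 ^ (vw n - j) * (w' * b)) * 2 ^ j := by
      rw [hc, hw']
      have h3 : 2 ^ vw n = 2 ^ (vw n - j) * 2 ^ j := by
        rw [← pow_add]; congr 1; omega
      rw [h3]; ring
    exact Nat.eq_of_mul_eq_mul_right (by positivity) h2
  -- `q` is a power of two
  obtain ⟨f, hf⟩ : ∃ f, q = 2 ^ f := by
    obtain ⟨p, f, hp, hf, hpf⟩ := hpp
    have h2 : 2 ∣ p ^ f := by rw [hpf]; exact even_iff_two_dvd.1 hq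
    have h3 : 2 ∣ p := Nat.prime_two.dvd_of_dvd_pow h2
    have h4 : 2 = p := (Nat.prime_dvd_prime_iff_eq Nat.prime_two hp.nat_prime).1 h3
    exact ⟨f, by rw [← hpf, h4]⟩
  have hden : Odd (R.den k q) := by
    have h2 : Nat.Coprime (R.den k q) 2 := Nat.Coprime.coprime_dvd_right (even_iff_two_dvd.1 hq) hcop
    exact Nat.coprime_two_right.1 h2
  have hfe : f * R.N k = vw n - j := by
    rw [hcard, hf, ← pow_mul] at heq
    rw [hf] at hodd hden
    refine (two_part (a := R.den k (2 ^ f) * (w' * b)) (b := R.F k (2 ^ f)) ?_ hodd ?_).symm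
    · exact Nat.odd_mul.2 ⟨hden, Nat.odd_mul.2 ⟨hw'o, hb⟩⟩
    · rw [← heq]; ring
  have hkN : R.N k ≤ 161 := by
    have hf1 : 1 ≤ f := by
      rcases Nat.eq_zero_or_pos f with h0 | h0
      · rw [h0, pow_zero] at hf
        rw [hf] at hq
        exact absurd hq (by decide)
      · exact h0
    have : 1 * R.N k ≤ f * R.N k := Nat.mul_le_mul_right _ hf1
    omega
  have hk20 := rank_lt R hR k hpos hkN
  unfold chk at hchk
  rw [List.all_eq_true] at hchk
  have h5 := hchk k (List.mem_range.2 hk20)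
  have hdiv : (vw n - j) / R.N k = f := by rw [← hfe, Nat.mul_div_cancel _ hpos]
  rw [hdiv, ← hf] at h5
  refine ⟨R.g k q, ?_, hreal⟩
  rw [Bool.or_eq_true, Bool.or_eq_true, Bool.or_eq_true, Nat.beq_eq, Bool.not_eq_true', Bool.not_eq_true'] at h5
  rcases h5 with ((h5 | h5) | h5) | h5
  · omega
  · exfalso
    have : Nat.beq ((vw n - j) % R.N k) 0 = true := by
      rw [Nat.beq_eq, ← hfe, Nat.mul_mod_left]
    rw [this] at h5
    exact absurd h5 (by decide)
  · exfalso
    have h6 : R.den k q * ww n ∣ 2 ^ vw n * R.F k q := by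
      refine ⟨b, ?_⟩
      calc 2 ^ vw n * R.F k q = (2 ^ (vw n - j) * R.F k q) * 2 ^ j := by
            have h3 : 2 ^ vw n = 2 ^ (vw n - j) * 2 ^ j := by
              rw [← pow_add]; congr 1; omega
            rw [h3]; ring
        _ = (q ^ R.N k * R.F k q) * 2 ^ j := by rw [hf, ← pow_mul, hfe]
        _ = R.den k q * (Nat.card N * 2 ^ j) := by rw [← heq]; ring
        _ = R.den k q * ww n * b := by rw [hc]; ring
    have h7 : Nat.beq ((2 ^ vw n * R.F k q) % (R.den k q * ww n)) 0 = true := by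
      rw [Nat.beq_eq]
      exact Nat.mod_eq_zero_of_dvd h6
    rw [h7] at h5
    exact absurd h5 (by decide)
  · exact h5

end Cfsg.Agent.H217.Ev
end

-- part: H217/SporNum
section
/-!
# The sporadic groups with the profile: arithmetic (helper217, S3191)
-/

set_option autoImplicit false

namespace Cfsg.Agent.H217.Ev

open Cfsg Cfsg.Agent.OrdDiv Cfsg.Agent.H217.Pf Subgroup

universe u

/-- the survivors -/
def survS (n j : ℕ) (g : Grp) : Bool :=
  decide ((n, j, g) ∈ [(3, 0, Grp.m24), (3, 0, Grp.co3), (3, 0, Grp.he), (4, 0, Grp.th), (5, 0, Grp.co2),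
    (5, 0, Grp.fi23), (12, 0, Grp.m), (3, 2, Grp.ly), (4, 2, Grp.suz)])

theorem spor_chk : ((List.range 13).all fun n => Nat.blt n 3 || [0, 2].all fun j => spor.all fun x =>
    (!(Nat.beq ((x.2 * 2 ^ j) % ww n) 0)) || (!(Nat.beq ((x.2 * 2 ^ j / ww n) % 2) 1)) || survS n j x.1) = true := by
  decide +kernel

theorem spor_two : (spor.all fun x => !(Nat.beq (x.2 % 2 ^ 47) 0)) = true := by decide +kernel

/-- the names of the sporadic groups and of the Tits group -/
theorem exists_spor {S : Type u} [Group S] (h : Lie.IsoTits S ∨ IsSporadicGroup S) : ∃ x ∈ spor, Real x.1 S := by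
  have key : ∀ (g : Grp) (o : ℕ), (g, o) ∈ spor → Real g S → ∃ x ∈ spor, Real x.1 S := fun g o hg hr =>
    ⟨(g, o), hg, hr⟩
  rcases h with h | h
  · exact key .tits 17971200 (by decide) h
  · rcases h with h | h | h | h | h | h | h | h | h | h | h | h | h | h | h | h | h | h | h | h | h |
      h | h | h | h | h
    · exact key .m11 7920 (by decide) h
    · exact key .m12 95040 (by decide) h
    · exact key .m22 443520 (by decide) h
    · exact key .m23 10200960 (by decide) h
    · exact key .m24 244823040 (by decide) h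
    · exact key .j1 175560 (by decide) h
    · exact key .j2 604800 (by decide) h
    · exact key .j3 50232960 (by decide) h
    · exact key .j4 86775571046077562880 (by decide) h
    · exact key .co1 4157776806543360000 (by decide) h
    · exact key .co2 42305421312000 (by decide) h
    · exact key .co3 495766656000 (by decide) h
    · exact key .mcl 898128000 (by decide) h
    · exact key .hs 44352000 (by decide) h
    · exact key .suz 448345497600 (by decide) h
    · exact key .he 4030387200 (by decide) h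
    · exact key .ru 145926144000 (by decide) h
    · exact key .on 460815505920 (by decide) h
    · exact key .ly 51765179004000000 (by decide) h
    · exact key .fi22 64561751654400 (by decide) h
    · exact key .fi23 4089470473293004800 (by decide) h
    · exact key .fi24 1255205709190661721292800 (by decide) h
    · exact key .hn 273030912000000 (by decide) h
    · exact key .th 90745943887872000 (by decide) h
    · exact key .b 4154781481226426191177580544000000 (by decide) h
    · exact key .m 808017424794512875886459904961710757005754368000000000 (by decide) h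

/-- **The sporadic survivors.** -/
theorem survivorsS (T : OrderTable.{u}) {n j : ℕ} {N : Type u} [Group N] [Finite N] {t : N} (P : Prof n j N t)
    (hn : 3 ≤ n) (h : Lie.IsoTits N ∨ IsSporadicGroup N) : ∃ g, survS n j g = true ∧ Real g N := by
  obtain ⟨x, hx, hr⟩ := exists_spor h
  have hcard := T.spor N x hx hr
  obtain ⟨b, hb, hc⟩ := card_eq P
  rw [hcard] at hc
  have hn12 : n ≤ 12 := by
    by_contra hlt
    push Not at hlt
    have h1 : 2 ^ 26 * 2 ^ 23 ∣ ww n := by
      unfold ww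
      refine Nat.mul_dvd_mul (pow_dvd_pow 2 (by omega)) ?_
      exact (show 2 ^ 23 ∣ (26 : ℕ).factorial by decide +kernel).trans (Nat.factorial_dvd_factorial (by omega))
    have h2 : 2 ^ 47 * 2 ^ 2 ∣ x.2 * 2 ^ j := by
      rw [hc]
      have : (2 : ℕ) ^ 47 * 2 ^ 2 = 2 ^ 26 * 2 ^ 23 := by norm_num
      rw [this]
      exact h1.mul_right b
    have h3 : 2 ^ 47 ∣ x.2 := by
      rcases P.hj with hj | hj
      · rw [hj, pow_zero, mul_one] at h2
        exact (Dvd.intro _ rfl).trans h2
      · rw [hj] at h2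
        exact Nat.dvd_of_mul_dvd_mul_right (by norm_num) h2
    have h4 := spor_two
    rw [List.all_eq_true] at h4
    have h5 := h4 x hx
    rw [Bool.not_eq_true'] at h5
    have h6 : Nat.beq (x.2 % 2 ^ 47) 0 = true := by
      rw [Nat.beq_eq]
      exact Nat.mod_eq_zero_of_dvd h3
    rw [h6] at h5
    exact absurd h5 (by decide)
  have h1 := spor_chk
  rw [List.all_eq_true] at h1
  have h2 := h1 n (List.mem_range.2 (by omega))
  rw [Bool.or_eq_true, Nat.blt_eq] at h2
  have h3 := h2.resolve_left (by omega)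
  rw [List.all_eq_true] at h3
  have h4 := h3 j (by rcases P.hj with hj | hj <;> rw [hj] <;> decide)
  rw [List.all_eq_true] at h4
  have h5 := h4 x hx
  rw [Bool.or_eq_true, Bool.or_eq_true, Bool.not_eq_true', Bool.not_eq_true'] at h5
  have hwpos : 0 < ww n := by unfold ww; positivity
  rcases h5 with (h5 | h5) | h5
  · exfalso
    have h6 : Nat.beq ((x.2 * 2 ^ j) % ww n) 0 = true := by
      rw [Nat.beq_eq, hc]
      exact Nat.mul_mod_right _ _
    rw [h6] at h5
    exact absurd h5 (by decide)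
  · exfalso
    have h6 : Nat.beq ((x.2 * 2 ^ j / ww n) % 2) 1 = true := by
      rw [Nat.beq_eq, hc, Nat.mul_div_cancel_left _ hwpos]
      exact Nat.odd_iff.1 hb
    rw [h6] at h5
    exact absurd h5 (by decide)
  · exact ⟨x.1, h5, hr⟩

end Cfsg.Agent.H217.Ev
end

private theorem dce_d8e4626dc7b8 : _root_.True := by
  try have : _root_.True := by simp only [_root_.Cfsg.Agent.H217.Ev.one.eq_1]
  try have : _root_.True := by simp only [_root_.Cfsg.Agent.H217.Ev.rows.eq_1]
  exact _root_.True.intro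
end

-- part: H217/FinishGen
section
set_option linter.all false
open scoped Cfsg.Agent.FastGrp

/-!
# `H306.Kon.finish` with two degrees (helper217)

If `C_G(z) ≅ C_{A_m}(zt)` with `m ≡ 2, 3 (mod 4)`, and `G ⧸ N ≅ A_{m'}` with `N` of odd order,
then `N = 1`.  The proof is the one of helper306 (`H306.Kon.finish`), which does not use `m = m'`.
-/

set_option autoImplicit false
set_option linter.unusedSectionVars false

namespace Cfsg.Agent.H217.Fin

open Subgroup Equiv Equiv.Perm Cfsg.Agent.H306.Kon Cfsg.Agent.H313.Alt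

theorem finish_gen {G : Type*} [Group G] [Finite G] {m m' : ℕ} (hm : 7 ≤ m) (hm' : 7 ≤ m') (hmod : m % 4 = 2 ∨ m % 4 = 3)
    (zt : alternatingGroup (Fin m)) (hzt : orderOf zt = 2) (z : G) (hz : orderOf z = 2)
    (e : ↥(Subgroup.centralizer ({z} : Set G)) ≃* ↥(Subgroup.centralizer ({zt} : Set ↥(alternatingGroup (Fin m)))))
    (N : Subgroup G) [hN : N.Normal] (hNodd : Odd (Nat.card N)) (φ : G →* alternatingGroup (Fin m'))
    (hφ : Function.Surjective φ) (hker : φ.ker = N) : N = ⊥ := by
  classical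
  have hsimp : IsSimpleGroup (alternatingGroup (Fin m')) :=
    alternatingGroup.isSimpleGroup (by rw [Nat.card_fin]; omega)
  set s : Perm (Fin m) := (zt : Perm (Fin m)) with hs_def
  have hso : orderOf s = 2 := by rw [hs_def, Subgroup.orderOf_coe]; exact hzt
  have hs : s * s = 1 := by rw [← pow_two, ← hso, pow_orderOf_eq_one]
  have hs1 : s ≠ 1 := by
    intro h
    rw [h, orderOf_one] at hso
    omega
  obtain ⟨k, hk⟩ := four_dvd_support hso (mem_alternatingGroup.1 zt.2)
  have hk0 : 0 < s.support.card := by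
    rw [Finset.card_pos]
    exact Finset.nonempty_iff_ne_empty.2 fun h => hs1 (support_eq_empty_iff.1 h)
  have hmove : ∃ a, s a ≠ a := by
    obtain ⟨a, ha⟩ := Finset.card_pos.1 hk0
    exact ⟨a, mem_support.1 ha⟩
  have hex : ∀ a, s a ≠ a → ∃ b, Dis s a b := by
    intro a ha
    have h1 : 2 < s.support.card := by omega
    have h2 : ∃ b ∈ s.support, b ∉ ({a, s a} : Finset (Fin m)) := by
      apply Finset.exists_mem_notMem_of_card_lt_card
      exact (Finset.card_le_two).trans_lt h1
    obtain ⟨b, hb, hb2⟩ := h2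
    simp only [Finset.mem_insert, Finset.mem_singleton, not_or] at hb2
    exact ⟨b, ⟨ha, mem_support.1 hb, fun h => hb2.1 h.symm, fun h => hb2.2 (by rw [h, ss hs])⟩⟩
  have hr : Nat.card {x // s x = x} = m - s.support.card := by
    have h1 : Nat.card {x // s x = x} = (s.supportᶜ).card := by
      rw [Nat.card_eq_fintype_card, Fintype.card_subtype]
      congr 1
      ext x
      simp
    rw [h1, Finset.card_compl, Fintype.card_fin]
  have hle : s.support.card ≤ m := by
    have := Finset.card_le_univ s.support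
    rwa [Fintype.card_fin] at this
  have hr4 : (m - s.support.card) % 4 = 2 ∨ (m - s.support.card) % 4 = 3 := by omega
  -- the embedding of `C(z)`
  let ι : ↥(centralizer ({z} : Set G)) →* Perm (Fin m) :=
    (alternatingGroup (Fin m)).subtype.comp ((centralizer ({zt} : Set (alternatingGroup (Fin m)))).subtype.comp
      e.toMonoidHom)
  have hιinj : Function.Injective ι :=
    (Subtype.val_injective.comp Subtype.val_injective).comp e.injective
  have hι1 : ∀ x, ι x ∈ CC s := by
    intro x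
    rw [mem_CC]
    refine ⟨?_, mem_alternatingGroup.1 (e x).1.2⟩
    have h1 := mem_centralizer_singleton_iff.1 (e x).2
    exact congrArg Subtype.val h1
  have hι2 : ∀ c ∈ CC s, ∃ x, ι x = c := by
    intro c hc
    rw [mem_CC] at hc
    have h1 : (⟨c, mem_alternatingGroup.2 hc.2⟩ : alternatingGroup (Fin m)) ∈
        centralizer ({zt} : Set (alternatingGroup (Fin m))) := by
      rw [mem_centralizer_singleton_iff]
      exact Subtype.ext hc.1
    refine ⟨e.symm ⟨_, h1⟩, ?_⟩
    change (((e (e.symm ⟨_, h1⟩)) : alternatingGroup (Fin m)) : Perm (Fin m)) = c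
    rw [e.apply_symm_apply]
  set K : Subgroup (Perm (Fin m)) := (N.subgroupOf (centralizer ({z} : Set G))).map ι with hKdef
  have hKc : Nat.card K = Nat.card ↥(N ⊓ centralizer ({z} : Set G)) := by
    have h1 : Nat.card K = Nat.card ↥(N.subgroupOf (centralizer ({z} : Set G))) :=
      (Nat.card_congr ((N.subgroupOf (centralizer ({z} : Set G))).equivMapOfInjective ι hιinj).toEquiv).symm
    rw [h1]
    refine Nat.card_congr
      { toFun := fun x => ⟨x.1.1, x.2, x.1.2⟩
        invFun := fun x => ⟨⟨x.1, x.2.2⟩, x.2.1⟩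
        left_inv := fun x => rfl
        right_inv := fun x => rfl }
  have hK : K ≤ CC s := by
    rintro _ ⟨x, -, rfl⟩
    exact hι1 x
  have hKN : ∀ c ∈ CC s, ∀ n ∈ K, c * n * c⁻¹ ∈ K := by
    rintro c hc _ ⟨x, hx, rfl⟩
    obtain ⟨y, rfl⟩ := hι2 c hc
    refine ⟨y * x * y⁻¹, ?_, by rw [map_mul, map_mul, map_inv]⟩
    exact hN.conj_mem _ hx _
  have hKodd : Odd (Nat.card K) := by
    rw [hKc]
    exact hNodd.of_dvd_nat (card_dvd_of_le inf_le_left)
  have hz2 : z * z = 1 := by rw [← pow_two, ← hz, pow_orderOf_eq_one]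
  have hz1 : z ≠ 1 := by
    intro h
    rw [h, orderOf_one] at hz
    omega
  have eφ : (G ⧸ N) ≃* alternatingGroup (Fin m') := by
    subst hker
    exact QuotientGroup.quotientKerEquivOfSurjective φ hφ
  rcases card_odd_normal hs hex hK hKN hKodd hr hr4 with hc | ⟨-, hc⟩
  · -- `z` inverts `N`
    have h1 : N ⊓ centralizer ({z} : Set G) = ⊥ := by
      rw [hKc] at hc
      exact Subgroup.eq_bot_of_card_eq _ hc
    refine Cfsg.Agent.H313.Red.eq_bot_of_fixedPointFree N hNodd hz2 hz1 ?_ ?_ ?_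
    · exact eφ.isSimpleGroup
    · obtain ⟨a, b, hab⟩ := exists_noncomm_alt hm'
      refine ⟨eφ.symm a, eφ.symm b, fun h => hab ?_⟩
      rw [← map_mul, ← map_mul] at h
      exact eφ.symm.injective h
    · intro x hx hxz
      have h2 : x ∈ N ⊓ centralizer ({z} : Set G) := ⟨hx, mem_centralizer_singleton_iff.2 hxz⟩
      rw [h1] at h2
      exact h2
  · exfalso
    obtain ⟨y0, hy0C, hy0, n0, hn0K, hn0⟩ := exists_inverting hs hex hK hKN hc hmove
    obtain ⟨y1, rfl⟩ := hι2 y0 hy0C
    obtain ⟨x1, hx1, rfl⟩ := hn0K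
    have hy1 : (y1 : G) * y1 = 1 := by
      have h1 : y1 * y1 = 1 := hιinj (by rw [map_mul, hy0, map_one])
      exact congrArg Subtype.val h1
    have hxy : (y1 : G) * x1 ≠ x1 * y1 := by
      intro h
      apply hn0
      rw [← map_mul, ← map_mul]
      exact congrArg ι (Subtype.ext h)
    have hkerodd : Odd (Nat.card φ.ker) := by rw [hker]; exact hNodd
    have hφz : orderOf (φ z) = 2 := by
      refine orderOf_eq_prime ?_ ?_
      · rw [pow_two, ← map_mul, hz2, map_one]
      · intro h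
        have h1 : z ∈ N := by rw [← hker]; exact h
        have h2 : orderOf (⟨z, h1⟩ : N) ∣ Nat.card N := orderOf_dvd_natCard _
        rw [← Subgroup.orderOf_coe] at h2
        rw [show orderOf ((⟨z, h1⟩ : N) : G) = 2 from hz] at h2
        exact absurd (hNodd.of_dvd_nat h2) (by decide)
    obtain ⟨τ', h1, h2, h3, h4, h5⟩ := exists_four (φ z) hφz
    obtain ⟨u, v, hu, hv, hu2, hv2, huv⟩ := lift_four φ hφ hkerodd hφz h1 h3
    have huu : u * u = 1 := by rw [← pow_two, ← hu2, pow_orderOf_eq_one]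
    have hvv : v * v = 1 := by rw [← pow_two, ← hv2, pow_orderOf_eq_one]
    have hne : u ≠ v := by
      rintro rfl
      exact h2 (hv.symm.trans hu)
    have huv2 : orderOf (u * v) = 2 := by
      refine orderOf_eq_prime ?_ ?_
      · rw [pow_two, mul_assoc, ← mul_assoc v, ← huv, mul_assoc, hvv, mul_one, huu]
      · intro h
        have := mul_eq_one_iff_eq_inv.1 h
        exact hne (by rw [this]; exact inv_eq_of_mul_eq_one_left hvv)
    have hconj : ∀ w, orderOf w = 2 → IsConj (φ z) (φ w) → IsConj z w := by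
      intro w hw h
      obtain ⟨c, hc⟩ := isConj_iff.1 h
      obtain ⟨g, rfl⟩ := hφ c
      refine Cfsg.Agent.MTwelveType.PatQuot.isConj_of_isConj_quot N hNodd hz hw ?_
      rw [isConj_iff]
      refine ⟨(g : G ⧸ N), ?_⟩
      rw [← QuotientGroup.mk_mul, ← QuotientGroup.mk_inv, ← QuotientGroup.mk_mul, QuotientGroup.eq, ← hker,
        MonoidHom.mem_ker, map_mul, map_inv, map_mul, map_mul, map_inv, hc, inv_mul_cancel]
    have hcard3 : ∀ w, w = u ∨ w = v ∨ w = u * v → Nat.card ↥(N ⊓ centralizer ({w} : Set G)) = 3 := by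
      intro w hw
      have h6 : IsConj z w := by
        rcases hw with rfl | rfl | rfl
        · exact hconj _ hu2 (by rw [hu])
        · exact hconj _ hv2 (by rw [hv]; exact h4)
        · exact hconj _ huv2 (by rw [map_mul, hu, hv]; exact h5)
      rw [card_conj N h6, ← hKc, hc]
    have hdvd := card_sq_dvd hNodd hu2 hv2 huv hne hcard3
    have : Fact (Nat.Prime 7) := ⟨by norm_num⟩
    have h7 : 7 ∣ Nat.card G := by
      have h8 : 7 ∣ Nat.card (alternatingGroup (Fin m')) := by
        have hnt : Nontrivial (Fin m') := Fin.nontrivial_iff_two_le.2 (by omega)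
        have h9 := two_mul_nat_card_alternatingGroup (α := Fin m')
        rw [Nat.card_perm, Nat.card_fin] at h9
        have h10 : 7 ∣ m'.factorial := (Nat.Prime.dvd_factorial (by norm_num)).2 hm'
        rw [← h9] at h10
        exact (Nat.Coprime.dvd_mul_left (by norm_num)).1 h10
      exact h8.trans (Subgroup.card_dvd_of_surjective φ hφ)
    obtain ⟨y, hy⟩ := exists_prime_orderOf_dvd_card' 7 h7
    have hNy := le_centralizer_seven (N := N) hy hdvd
    have hLn : (centralizer (N : Set G)).Normal := inferInstance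
    have hyL : y ∈ centralizer (N : Set G) := by
      rw [Subgroup.mem_centralizer_iff]
      intro n hn
      exact mem_centralizer_singleton_iff.1 (hNy hn)
    have hmapn : ((centralizer (N : Set G)).map φ).Normal := hLn.map φ hφ
    have hN3 : ¬ 7 ∣ Nat.card N := by
      intro h
      have h11 : 7 ∣ (3 ^ 2) ^ 3 := (dvd_pow h (by norm_num)).trans hdvd
      norm_num at h11
    rcases hmapn.eq_bot_or_eq_top with hb | ht
    · have h12 : φ y = 1 := by
        have h13 : φ y ∈ (centralizer (N : Set G)).map φ := ⟨y, hyL, rfl⟩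
        rw [hb] at h13
        exact h13
      have h14 : y ∈ N := by rw [← hker]; exact h12
      apply hN3
      have h15 := orderOf_dvd_natCard (⟨y, h14⟩ : N)
      rw [← Subgroup.orderOf_coe] at h15
      rwa [show orderOf ((⟨y, h14⟩ : N) : G) = 7 from hy] at h15
    · -- involutions centralize `N`
      have hy1L : (y1 : G) ∈ centralizer (N : Set G) := by
        have h13 : φ y1 ∈ (centralizer (N : Set G)).map φ := by rw [ht]; exact Subgroup.mem_top _
        obtain ⟨l, hl, hl2⟩ := h13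
        have hn : l⁻¹ * y1 ∈ N := by
          rw [← hker, MonoidHom.mem_ker, map_mul, map_inv, hl2, inv_mul_cancel]
        have h16 : ((y1 : G) : G ⧸ centralizer (N : Set G)) = ((l⁻¹ * y1 : G) : G ⧸ centralizer (N : Set G)) := by
          have h17 : ((l⁻¹ : G) : G ⧸ centralizer (N : Set G)) = 1 :=
            (QuotientGroup.eq_one_iff _).2 (inv_mem hl)
          rw [QuotientGroup.mk_mul, h17, one_mul]
        rw [← QuotientGroup.eq_one_iff, ← orderOf_eq_one_iff]
        have h18 : orderOf ((y1 : G) : G ⧸ centralizer (N : Set G)) ∣ 2 :=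
          orderOf_dvd_of_pow_eq_one (by rw [pow_two, ← QuotientGroup.mk_mul, hy1, QuotientGroup.mk_one])
        have h19 : orderOf ((y1 : G) : G ⧸ centralizer (N : Set G)) ∣ Nat.card N := by
          rw [h16]
          have h20 : orderOf (QuotientGroup.mk' (centralizer (N : Set G)) (l⁻¹ * y1)) ∣ orderOf (l⁻¹ * (y1 : G)) :=
            orderOf_map_dvd _ _
          refine h20.trans ?_
          have h21 := orderOf_dvd_natCard (⟨_, hn⟩ : N)
          rwa [← Subgroup.orderOf_coe] at h21
        exact Nat.eq_one_of_dvd_coprimes (Nat.coprime_two_left.2 hNodd) h18 h19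
      apply hxy
      rw [Subgroup.mem_centralizer_iff] at hy1L
      exact (hy1L x1 hx1).symm

end Cfsg.Agent.H217.Fin
end

-- part: H217/Match
section
set_option linter.all false
open scoped Cfsg.Agent.FastGrp

/-!
# Matching the degree (helper217)

`G ≅ A_{m'}` with `m' ∈ {4n+2, 4n+3}`, and an involution whose centralizer has no component and the order
of the centralizer of `n`-fold double transposition pairs in `A_{4n+r}`: then `m' = 4n+r`.
-/

set_option autoImplicit false

namespace Cfsg.Agent.H217.Match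

open Subgroup Equiv Equiv.Perm Cfsg Cfsg.Agent.SignalizersComponents.Components

/-- isomorphic groups have isomorphic centralizers -/
def centCongr {G H : Type*} [Group G] [Group H] (e : G ≃* H) (x : G) :
    ↥(centralizer ({x} : Set G)) ≃* ↥(centralizer ({e x} : Set H)) where
  toFun y := ⟨e y, by
    rw [mem_centralizer_singleton_iff, ← map_mul, mem_centralizer_singleton_iff.1 y.2, map_mul]⟩
  invFun y := ⟨e.symm y, by
    rw [mem_centralizer_singleton_iff]
    apply e.injective
    rw [map_mul, map_mul, e.apply_symm_apply]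
    exact mem_centralizer_singleton_iff.1 y.2⟩
  left_inv y := Subtype.ext (e.symm_apply_apply _)
  right_inv y := Subtype.ext (e.apply_symm_apply _)
  map_mul' y z := Subtype.ext (map_mul e _ _)

section comp
variable {α : Type} [Fintype α] [DecidableEq α] {s : Perm α}

/-- the alternating group of the fixed points is a component -/
theorem isComponent_ker (h5 : 5 ≤ Fintype.card (H284.AltComp.Fx s)) : IsComponent (H284.AltComp.rho s).ker :=
  ⟨(inferInstance : ((H284.AltComp.rho s).ker).Normal).isSubnormal,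
    Cfsg.Agent.S1323.isQuasisimple_of_mulEquiv_alternating (by rw [Nat.card_eq_fintype_card]; exact h5)
      (H284.AltComp.kerEquiv s)⟩

/-- the centralizer in the alternating group -/
theorem cent_eq (t : ↥(alternatingGroup α)) :
    centralizer ({t} : Set ↥(alternatingGroup α)) = H284.AltComp.CA (t : Perm α) := by
  ext x
  rw [H284.AltComp.CA, mem_subgroupOf, mem_centralizer_singleton_iff, mem_centralizer_singleton_iff]
  exact ⟨fun h => congrArg Subtype.val h, fun h => Subtype.ext h⟩

/-- few fixed points -/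
theorem card_fix_le (t : ↥(alternatingGroup α))
    (hc : ∀ K : Subgroup ↥(centralizer ({t} : Set ↥(alternatingGroup α))), ¬ IsComponent K) :
    Fintype.card {x // (t : Perm α) x = x} ≤ 4 := by
  by_contra h
  rw [cent_eq] at hc
  exact hc _ (isComponent_ker (by
    have : Fintype.card (H284.AltComp.Fx (t : Perm α)) = Fintype.card {x // (t : Perm α) x = x} := rfl
    omega))

end comp

/-- **Matching the degree.** -/
theorem match_deg {n r m' : ℕ} (hr : r = 2 ∨ r = 3) (hm' : m' = 4 * n + 2 ∨ m' = 4 * n + 3)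
    (α : ↥(alternatingGroup (Fin (4 * n + r)))) (hα : orderOf α = 2)
    (hs : (α : Perm (Fin (4 * n + r))).support.card = 4 * n)
    (s : ↥(alternatingGroup (Fin m'))) (hs2 : orderOf s = 2)
    (hc : ∀ K : Subgroup ↥(centralizer ({s} : Set ↥(alternatingGroup (Fin m')))), ¬ IsComponent K)
    (hcard : Nat.card ↥(centralizer ({s} : Set ↥(alternatingGroup (Fin m')))) =
      Nat.card ↥(centralizer ({α} : Set ↥(alternatingGroup (Fin (4 * n + r)))))) : m' = 4 * n + r := by
  have h1 := card_fix_le s hc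
  have h2 := H313.AltCard.card_fix (s : Perm (Fin m'))
  have h3 := H313.AltCard.card_fix (α : Perm (Fin (4 * n + r)))
  rw [Fintype.card_fin] at h2 h3
  have h4 : orderOf (s : Perm (Fin m')) = 2 := by rw [Subgroup.orderOf_coe]; exact hs2
  have h4' : orderOf (α : Perm (Fin (4 * n + r))) = 2 := by rw [Subgroup.orderOf_coe]; exact hα
  obtain ⟨k, hk⟩ := H306.Kon.four_dvd_support h4 (mem_alternatingGroup.1 s.2)
  have h5 := Finset.card_le_univ (s : Perm (Fin m')).support
  rw [Fintype.card_fin] at h5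
  have h6 : k = n := by omega
  have e1 : (s : Perm (Fin m')) * (s : Perm (Fin m')) = 1 := by rw [← pow_two, ← h4, pow_orderOf_eq_one]
  have e2 : (α : Perm (Fin (4 * n + r))) * (α : Perm (Fin (4 * n + r))) = 1 := by
    rw [← pow_two, ← h4', pow_orderOf_eq_one]
  obtain ⟨c, hc1, hc2⟩ := H313.AltCard.card_CC' e1 (by omega)
  obtain ⟨c', hc1', hc2'⟩ := H313.AltCard.card_CC' e2 (by omega)
  have h7 : c = c' := by omega
  rw [← Nat.card_congr (H313.AltTrans.centEquiv s).toEquiv, hcard,
    Nat.card_congr (H313.AltTrans.centEquiv α).toEquiv, hc2', h7] at hc2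
  have h8 := Nat.eq_of_mul_eq_mul_right (by positivity) hc2
  rw [h2, h3] at h8
  have e3 : 4 * n + r - (α : Perm (Fin (4 * n + r))).support.card = r := by omega
  rw [e3] at h8
  have f2 : (2 : ℕ).factorial = 2 := rfl
  have f3 : (3 : ℕ).factorial = 6 := rfl
  rcases hr with rfl | rfl <;> rcases hm' with rfl | rfl
  · rfl
  · exfalso
    have e4 : 4 * n + 3 - (s : Perm (Fin (4 * n + 3))).support.card = 3 := by omega
    rw [e4, f2, f3] at h8
    omega
  · exfalso
    have e4 : 4 * n + 2 - (s : Perm (Fin (4 * n + 2))).support.card = 2 := by omega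
    rw [e4, f2, f3] at h8
    omega
  · rfl

end Cfsg.Agent.H217.Match
end
end
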